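import Mathlib
import Cfsg.Agent.Lib.Helper10.BR0
import Cfsg.Agent.Lib.Helper83.Ortho

/-!
# S0999 piece BR-II7 `col_tau_of` (helper46, for helper10)
-/

set_option autoImplicit false

namespace Cfsg.Agent.Lib.Helper10.BR

open Cfsg
open Cfsg.Agent.Lib.Helper83 (trivIrr)
open scoped ComplexConjugate

section T

variable {G : Type*} [Group G] [Fintype G] {p e t : ℕ} {P : Subgroup G} {ε : ℤ} {x₀ : ℕ}
  {A B Y D : Finset (IrrCharacter G)}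

/-- BR-II7 -/
theorem col_tau_of (h : Tab G p e t P ε x₀ A B Y D) (hε : ε = -1) (hx : x₀ = p - e)
    (τ : G) (hτ2 : orderOf τ = 2) (hBv : ∀ χ ∈ B, (χ : G → ℂ) τ = 0) :
    ∑ ψ ∈ D, (ψ : G → ℂ) 1 * (ψ : G → ℂ) τ = (((t - 1) * p : ℕ) : ℂ) := by
  classical
  letI : Fintype (IrrCharacter G) := Fintype.ofFinite _
  have hp5 := h.hp5
  have het := h.het
  have ht := h.ht
  have he := h.he
  have hτ1 : τ ≠ 1 := by
    rintro rfl
    simp at hτ2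
  have hnc : ¬ IsConj (1 : G) τ := by
    intro hc
    exact hτ1 (isConj_one_left.mp hc.symm)
  have hcol := Cfsg.Agent.Lib.Helper83.column_orthogonality_not_conj (G := G) hnc
  have hconj : ∀ χ : IrrCharacter G, conj ((χ : G → ℂ) 1) = (χ : G → ℂ) 1 := by
    intro χ
    rw [(Cfsg.Agent.Lib.Helper83.irr_degree χ.2).2, Complex.conj_natCast]
  simp only [hconj] at hcol
  rw [h.sum_split (fun ψ : IrrCharacter G => (ψ : G → ℂ) τ * (ψ : G → ℂ) 1)] at hcol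
  -- τ is p-regular
  have hreg : ¬ p ∣ orderOf τ := by
    rw [hτ2]
    intro hd
    have := Nat.le_of_dvd (by norm_num) hd
    omega
  obtain ⟨θ₀, hθ₀⟩ : Y.Nonempty := Finset.card_pos.mp (by rw [h.cardY]; omega)
  have hT1 := h.t1 θ₀ hθ₀ τ hreg
  have hBs : ∑ χ ∈ B, (χ : G → ℂ) τ = 0 := Finset.sum_eq_zero hBv
  rw [hBs, hε] at hT1
  have hA : ∑ ψ ∈ A, (ψ : G → ℂ) τ * (ψ : G → ℂ) 1 =
      (∑ ψ ∈ A, (ψ : G → ℂ) τ) * ((t * (p - e) : ℕ) : ℂ) := by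
    rw [Finset.sum_mul]
    exact Finset.sum_congr rfl (fun ψ hψ => by rw [h.degA ψ hψ])
  have hB : ∑ ψ ∈ B, (ψ : G → ℂ) τ * (ψ : G → ℂ) 1 = 0 :=
    Finset.sum_eq_zero (fun ψ hψ => by rw [hBv ψ hψ, zero_mul])
  have hY : ∑ ψ ∈ Y, (ψ : G → ℂ) τ * (ψ : G → ℂ) 1 =
      (t : ℂ) * ((θ₀ : G → ℂ) τ * (x₀ : ℂ)) := by
    rw [Finset.sum_congr rfl (fun ψ hψ => by rw [h.regY ψ hψ θ₀ hθ₀ τ hreg, h.degY ψ hψ]),
      Finset.sum_const, nsmul_eq_mul, h.cardY]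
  have hD : ∑ ψ ∈ D, (ψ : G → ℂ) τ * (ψ : G → ℂ) 1 = ∑ ψ ∈ D, (ψ : G → ℂ) 1 * (ψ : G → ℂ) τ :=
    Finset.sum_congr rfl (fun _ _ => mul_comm _ _)
  rw [hA, hB, hY, hD] at hcol
  simp only [Cfsg.Agent.Lib.Helper83.trivIrr_apply] at hcol
  have hle : e ≤ p := by
    have : e * 1 ≤ e * t := Nat.mul_le_mul_left e (by omega)
    omega
  have hpe : p = e * t + 1 := by omega
  have hP : (p : ℂ) = (e : ℂ) * (t : ℂ) + 1 := by exact_mod_cast hpe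
  have c1 : ((t * (p - e) : ℕ) : ℂ) = (t : ℂ) * ((p : ℂ) - (e : ℂ)) := by
    rw [Nat.cast_mul, Nat.cast_sub hle]
  have c3 : (x₀ : ℂ) = (p : ℂ) - (e : ℂ) := by
    rw [hx, Nat.cast_sub hle]
  have c5 : (((t - 1) * p : ℕ) : ℂ) = ((t : ℂ) - 1) * (p : ℂ) := by
    rw [Nat.cast_mul, Nat.cast_sub (by omega)]; simp
  rw [c1, c3] at hcol
  rw [c5]
  push_cast at hT1
  linear_combination hcol + ((t : ℂ) * ((p : ℂ) - (e : ℂ))) * hT1 + hP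

end T

end Cfsg.Agent.Lib.Helper10.BR
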