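import Mathlib
import Cfsg.Agent.Lib.Helper10.BR0
import Cfsg.Agent.Lib.Helper83.Ortho

/-!
# S0999 piece BR-II8 `deg_sq` (helper46, for helper10)
-/

set_option autoImplicit false

namespace Cfsg.Agent.Lib.Helper10.BR

open Cfsg
open Cfsg.Agent.Lib.Helper83 (trivIrr)
open scoped ComplexConjugate

section T

variable {G : Type*} [Group G] [Fintype G] {p e t : ℕ} {P : Subgroup G} {ε : ℤ} {x₀ : ℕ}
  {A B Y D : Finset (IrrCharacter G)}

/-- BR-II8 -/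
theorem deg_sq (h : Tab G p e t P ε x₀ A B Y D) (hε : ε = -1) (hx : x₀ = p - e)
    (ha : A.card * t + 2 = e) :
    ∑ ψ ∈ D, ((ψ : G → ℂ) 1) ^ 2 = (((t - 1) * p ^ 2 : ℕ) : ℂ) := by
  classical
  letI : Fintype (IrrCharacter G) := Fintype.ofFinite _
  have hsum := Cfsg.Agent.Lib.Helper83.sum_degree_sq (G := G)
  rw [h.sum_split (fun ψ : IrrCharacter G => ((ψ : G → ℂ) 1) ^ 2)] at hsum
  have hA : ∑ ψ ∈ A, ((ψ : G → ℂ) 1) ^ 2 = (A.card : ℂ) * ((t * (p - e) : ℕ) : ℂ) ^ 2 := by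
    rw [Finset.sum_congr rfl (fun ψ hψ => by rw [h.degA ψ hψ]), Finset.sum_const, nsmul_eq_mul]
  have hB : ∑ ψ ∈ B, ((ψ : G → ℂ) 1) ^ 2 = (B.card : ℂ) * ((p - 1 : ℕ) : ℂ) ^ 2 := by
    rw [Finset.sum_congr rfl (fun ψ hψ => by rw [h.degB ψ hψ]), Finset.sum_const, nsmul_eq_mul]
  have hY : ∑ ψ ∈ Y, ((ψ : G → ℂ) 1) ^ 2 = (t : ℂ) * (x₀ : ℂ) ^ 2 := by
    rw [Finset.sum_congr rfl (fun ψ hψ => by rw [h.degY ψ hψ]), Finset.sum_const, nsmul_eq_mul,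
      h.cardY]
  rw [hA, hB, hY, Cfsg.Agent.Lib.Helper83.trivIrr_apply, h.cardG] at hsum
  -- arithmetic
  have hp5 := h.hp5
  have het := h.het
  have ht := h.ht
  have he := h.he
  have hab := h.cardAB
  have hle : e ≤ p := by
    have : e * 1 ≤ e * t := Nat.mul_le_mul_left e (by omega)
    omega
  have hpe : p = e * t + 1 := by omega
  have hb : A.card + B.card = A.card * t + 1 := by omega
  have hP : (p : ℂ) = (e : ℂ) * (t : ℂ) + 1 := by exact_mod_cast hpe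
  have hE : (e : ℂ) = (A.card : ℂ) * (t : ℂ) + 2 := by exact_mod_cast ha.symm
  have hbC : (B.card : ℂ) = (A.card : ℂ) * (t : ℂ) + 1 - (A.card : ℂ) := by
    have : (A.card : ℂ) + (B.card : ℂ) = (A.card : ℂ) * (t : ℂ) + 1 := by exact_mod_cast hb
    linear_combination this
  have c1 : ((t * (p - e) : ℕ) : ℂ) = (t : ℂ) * ((p : ℂ) - (e : ℂ)) := by
    rw [Nat.cast_mul, Nat.cast_sub hle]
  have c2 : ((p - 1 : ℕ) : ℂ) = (p : ℂ) - 1 := by
    rw [Nat.cast_sub (by omega)]; simp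
  have c3 : (x₀ : ℂ) = (p : ℂ) - (e : ℂ) := by
    rw [hx, Nat.cast_sub hle]
  have c4 : ((p * (p - 1) * (p - e) : ℕ) : ℂ) = (p : ℂ) * ((p : ℂ) - 1) * ((p : ℂ) - (e : ℂ)) := by
    rw [Nat.cast_mul, Nat.cast_mul, c2, Nat.cast_sub hle]
  have c5 : (((t - 1) * p ^ 2 : ℕ) : ℂ) = ((t : ℂ) - 1) * (p : ℂ) ^ 2 := by
    rw [Nat.cast_mul, Nat.cast_pow, Nat.cast_sub (by omega)]; simp
  rw [c1, c2, c3, c4, hbC, hP, hE] at hsum
  rw [c5, hP, hE]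
  linear_combination hsum

end T

end Cfsg.Agent.Lib.Helper10.BR
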