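import Mathlib
import Cfsg.Agent.Lib.Helper10.BR0
import Cfsg.Agent.Lib.Helper83.Ortho

/-!
# S0999 piece BR-II9 `orth_tau_of` (helper46, for helper10)
-/

set_option autoImplicit false

namespace Cfsg.Agent.Lib.Helper10.BR

open Cfsg
open Cfsg.Agent.Lib.Helper83 (trivIrr)
open scoped ComplexConjugate

section T

variable {G : Type*} [Group G] [Fintype G] {p e t : ℕ} {P : Subgroup G} {ε : ℤ} {x₀ : ℕ}
  {A B Y D : Finset (IrrCharacter G)}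

/-- BR-II9 -/
theorem orth_tau_of (h : Tab G p e t P ε x₀ A B Y D) (τ : G) (hτ2 : orderOf τ = 2)
    (hBv : ∀ χ ∈ B, (χ : G → ℂ) τ = 0)
    (hθ : ∀ θ ∈ Y, (θ : G → ℂ) τ = 1 ∨ (θ : G → ℂ) τ = -1) :
    (Nat.card (Subgroup.centralizer ({τ} : Set G)) : ℂ) =
      1 + ∑ χ ∈ A, ((χ : G → ℂ) τ) ^ 2 + (t : ℂ) + ∑ ψ ∈ D, ((ψ : G → ℂ) τ) ^ 2 := by
  classical
  letI : Fintype (IrrCharacter G) := Fintype.ofFinite _
  have hcol := Cfsg.Agent.Lib.Helper83.column_orthogonality_conj (G := G) (IsConj.refl τ)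
  have hinv : τ⁻¹ = τ := by
    have h2 : τ ^ 2 = 1 := by rw [← hτ2]; exact pow_orderOf_eq_one τ
    exact inv_eq_of_mul_eq_one_left (by rw [← pow_two]; exact h2)
  have hconj : ∀ χ : IrrCharacter G, conj ((χ : G → ℂ) τ) = (χ : G → ℂ) τ := by
    intro χ
    rw [← Cfsg.Agent.Lib.Helper83.irr_inv χ.2 τ, hinv]
  simp only [hconj] at hcol
  rw [h.sum_split (fun ψ : IrrCharacter G => (ψ : G → ℂ) τ * (ψ : G → ℂ) τ)] at hcol
  have hB : ∑ ψ ∈ B, (ψ : G → ℂ) τ * (ψ : G → ℂ) τ = 0 :=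
    Finset.sum_eq_zero (fun ψ hψ => by rw [hBv ψ hψ, mul_zero])
  have hY : ∑ ψ ∈ Y, (ψ : G → ℂ) τ * (ψ : G → ℂ) τ = (t : ℂ) := by
    have h1 : ∀ ψ ∈ Y, (ψ : G → ℂ) τ * (ψ : G → ℂ) τ = 1 := by
      intro ψ hψ
      rcases hθ ψ hψ with h1 | h1 <;> rw [h1] <;> norm_num
    rw [Finset.sum_congr rfl h1, Finset.sum_const, h.cardY]
    simp
  rw [hB, hY, Cfsg.Agent.Lib.Helper83.trivIrr_apply] at hcol
  rw [← hcol]
  simp only [pow_two]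
  ring

end T

end Cfsg.Agent.Lib.Helper10.BR
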