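import Cfsg.Agent.Lib.Helper4.CharSimple

set_option autoImplicit false

namespace Cfsg.Agent.Lib.Helper46

open Cfsg Cfsg.Agent.Lib.Helper4
open scoped ComplexConjugate

section Ext

variable {G : Type*} [Group G]

theorem extendByZero_of_mem (H : Subgroup G) (θ : H → ℂ) {g : G} (hg : g ∈ H) :
    extendByZero H θ g = θ ⟨g, hg⟩ := by
  unfold extendByZero
  exact Subtype.val_injective.extend_apply θ 0 ⟨g, hg⟩

theorem extendByZero_coe (H : Subgroup G) (θ : H → ℂ) (h : H) :
    extendByZero H θ (h : G) = θ h :=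
  extendByZero_of_mem H θ h.2

theorem extendByZero_of_not_mem (H : Subgroup G) (θ : H → ℂ) {g : G} (hg : g ∉ H) :
    extendByZero H θ g = 0 := by
  unfold extendByZero
  rw [Function.extend_apply']
  · rfl
  · rintro ⟨b, hb⟩
    exact hg (hb ▸ b.2)

theorem extendByZero_conj (H : Subgroup G) (θ : H → ℂ) (hθ : IsClassFunction H θ) (h : H)
    (g : G) : extendByZero H θ ((h : G)⁻¹ * g * h) = extendByZero H θ g := by
  by_cases hg : g ∈ H
  · have h1 : (h : G)⁻¹ * g * h ∈ H := H.mul_mem (H.mul_mem (H.inv_mem h.2) hg) h.2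
    rw [extendByZero_of_mem H θ h1, extendByZero_of_mem H θ hg]
    have := hθ ⟨g, hg⟩ h⁻¹
    rw [← this]
    congr 1
    apply Subtype.ext
    simp
  · have h1 : (h : G)⁻¹ * g * h ∉ H := fun h1 => hg (by
      have := H.mul_mem (H.mul_mem h.2 h1) (H.inv_mem h.2)
      simpa [mul_assoc] using this)
    rw [extendByZero_of_not_mem H θ h1, extendByZero_of_not_mem H θ hg]

end Ext

section Ind

variable {G : Type*} [Group G] [Fintype G]

theorem indFun_isClassFunction (H : Subgroup G) (θ : H → ℂ) : IsClassFunction G (indFun H θ) := by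
  intro g y
  unfold indFun
  congr 1
  apply Fintype.sum_equiv (Equiv.mulLeft y⁻¹)
  intro x
  congr 1
  simp [mul_assoc]

theorem sum_extendByZero_mul (H : Subgroup G) [Fintype H] (θ : H → ℂ) (f : G → ℂ) :
    ∑ g : G, extendByZero H θ g * f g = ∑ h : H, θ h * f h := by
  symm
  apply Fintype.sum_of_injective (fun h : H => (h : G)) Subtype.val_injective
  · intro g hg
    have : g ∉ H := fun h => hg ⟨⟨g, h⟩, rfl⟩
    rw [extendByZero_of_not_mem H θ this, zero_mul]
  · intro h
    rw [extendByZero_coe]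

theorem card_ne_zero' : (Nat.card G : ℂ) ≠ 0 := Nat.cast_ne_zero.mpr Nat.card_pos.ne'

/-- Frobenius reciprocity, for a class function `ψ` on `G`. -/
theorem frobenius (H : Subgroup G) [Fintype H] (θ : H → ℂ) (ψ : G → ℂ)
    (hψ : IsClassFunction G ψ) :
    classInner (indFun H θ) ψ = classInner θ (fun h : H => ψ h) := by
  have h1 : ∀ x : G, ∑ g : G, extendByZero H θ (x⁻¹ * g * x) * conj (ψ g) =
      ∑ g : G, extendByZero H θ g * conj (ψ g) := by
    intro x
    apply Fintype.sum_equiv (MulAut.conj x⁻¹).toEquiv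
    intro g
    have e : (MulAut.conj x⁻¹).toEquiv g = x⁻¹ * g * x := by simp
    rw [e]
    have := hψ g x⁻¹
    rw [inv_inv] at this
    rw [this]
  unfold classInner indFun
  have h2 : ∑ g : G, (Nat.card H : ℂ)⁻¹ * (∑ x : G, extendByZero H θ (x⁻¹ * g * x)) * conj (ψ g) =
      (Nat.card H : ℂ)⁻¹ * ((Nat.card G : ℂ) * ∑ g : G, extendByZero H θ g * conj (ψ g)) := by
    calc ∑ g : G, (Nat.card H : ℂ)⁻¹ * (∑ x : G, extendByZero H θ (x⁻¹ * g * x)) * conj (ψ g)
        = (Nat.card H : ℂ)⁻¹ * ∑ g : G, ∑ x : G, extendByZero H θ (x⁻¹ * g * x) * conj (ψ g) := by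
          rw [Finset.mul_sum]
          refine Finset.sum_congr rfl fun g _ => ?_
          rw [mul_assoc, Finset.sum_mul]
      _ = (Nat.card H : ℂ)⁻¹ * ∑ x : G, ∑ g : G, extendByZero H θ (x⁻¹ * g * x) * conj (ψ g) := by
          rw [Finset.sum_comm]
      _ = (Nat.card H : ℂ)⁻¹ * ∑ _x : G, ∑ g : G, extendByZero H θ g * conj (ψ g) := by
          congr 1
          exact Finset.sum_congr rfl fun x _ => h1 x
      _ = _ := by
          rw [Finset.sum_const, Finset.card_univ, nsmul_eq_mul, Nat.card_eq_fintype_card (α := G)]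
  rw [h2, sum_extendByZero_mul H θ (fun g => conj (ψ g))]
  field_simp [card_ne_zero' (G := G)]

/-- The value of an induced class function as a sum over a transversal. -/
theorem indFun_eq_sum_transversal (H : Subgroup G) [Fintype H] (θ : H → ℂ)
    (hθ : IsClassFunction H θ) {ι : Type*} [Fintype ι] (T : ι → G)
    (hT : Function.Bijective (fun p : ι × H => T p.1 * (p.2 : G))) (g : G) :
    indFun H θ g = ∑ i, extendByZero H θ ((T i)⁻¹ * g * T i) := by
  unfold indFun
  rw [← Fintype.sum_equiv (Equiv.ofBijective _ hT)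
    (fun p : ι × H => extendByZero H θ ((T p.1 * (p.2 : G))⁻¹ * g * (T p.1 * (p.2 : G)))) _
    (fun p => rfl)]
  rw [Fintype.sum_prod_type]
  have h1 : ∀ i, ∑ h : H, extendByZero H θ ((T i * (h : G))⁻¹ * g * (T i * (h : G))) =
      (Fintype.card H : ℂ) * extendByZero H θ ((T i)⁻¹ * g * T i) := by
    intro i
    rw [← nsmul_eq_mul, ← Finset.card_univ, ← Finset.sum_const]
    refine Finset.sum_congr rfl fun h _ => ?_
    have e : (T i * (h : G))⁻¹ * g * (T i * (h : G)) = (h : G)⁻¹ * ((T i)⁻¹ * g * T i) * h := by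
      group
    rw [e, extendByZero_conj H θ hθ]
  simp_rw [h1]
  rw [← Finset.mul_sum, ← mul_assoc, Nat.card_eq_fintype_card, inv_mul_cancel₀, one_mul]
  exact Nat.cast_ne_zero.mpr Fintype.card_pos.ne'

end Ind

section Chars

variable {G : Type*} [Group G]

theorem isCharacter_comp {K : Type*} [Group K] (f : K →* G) (χ : G → ℂ)
    (hχ : IsCharacter G χ) : IsCharacter K (fun k => χ (f k)) := by
  obtain ⟨n, ρ, rfl⟩ := hχ
  exact ⟨n, ρ.comp f, rfl⟩

theorem isCharacter_of_irr (χ : G → ℂ) (hχ : IsIrrCharacter G χ) : IsCharacter G χ := by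
  obtain ⟨n, ρ, -, rfl⟩ := hχ
  exact ⟨n, ρ, rfl⟩

theorem irreducible_comp_surjective {V : Type*} [AddCommGroup V] [Module ℂ V]
    (ρ : Representation ℂ G V) {K : Type*} [Group K] (f : K →* G) (hf : Function.Surjective f)
    [hρ : ρ.IsIrreducible] :
    Representation.IsIrreducible (k := ℂ) (G := K) (V := V) (MonoidHom.comp ρ f) := by
  set σ : Representation ℂ K V := MonoidHom.comp ρ f with hσ
  let up : Subrepresentation σ → Subrepresentation ρ := fun S =>
    ⟨S.toSubmodule, fun g v hv => by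
      obtain ⟨k, rfl⟩ := hf g
      exact S.apply_mem_toSubmodule k hv⟩
  have : Nontrivial (Subrepresentation σ) := by
    refine ⟨⊥, ⊤, fun h => ?_⟩
    have h2 : (⊥ : Subrepresentation ρ) = ⊤ := by
      apply Subrepresentation.toSubmodule_injective
      show (⊥ : Submodule ℂ V) = ⊤
      exact congrArg Subrepresentation.toSubmodule h
    exact bot_ne_top h2
  refine ⟨fun S => ?_⟩
  rcases hρ.eq_bot_or_eq_top (up S) with h | h
  · left
    apply Subrepresentation.toSubmodule_injective
    show S.toSubmodule = (⊥ : Submodule ℂ V)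
    exact congrArg Subrepresentation.toSubmodule h
  · right
    apply Subrepresentation.toSubmodule_injective
    show S.toSubmodule = (⊤ : Submodule ℂ V)
    exact congrArg Subrepresentation.toSubmodule h

theorem isIrrCharacter_comp_surjective {K : Type*} [Group K] (f : K →* G)
    (hf : Function.Surjective f) (χ : G → ℂ) (hχ : IsIrrCharacter G χ) :
    IsIrrCharacter K (fun k => χ (f k)) := by
  obtain ⟨n, ρ, hρ, rfl⟩ := hχ
  exact ⟨n, ρ.comp f, irreducible_comp_surjective ρ f hf, rfl⟩

theorem isCharacter_zero : IsCharacter G (0 : G → ℂ) :=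
  ⟨0, Representation.trivial ℂ G (Fin 0 → ℂ), char_eq_zero_of_subsingleton _⟩

theorem isCharacter_add (χ ψ : G → ℂ) (hχ : IsCharacter G χ) (hψ : IsCharacter G ψ) :
    IsCharacter G (χ + ψ) := by
  obtain ⟨n, ρ, rfl⟩ := hχ
  obtain ⟨m, σ, rfl⟩ := hψ
  have h := isCharacter_of_rep (ρ.prod σ)
  convert h using 1
  funext g
  show _ = LinearMap.trace ℂ _ ((ρ g).prodMap (σ g))
  rw [LinearMap.trace_prodMap']
  rfl

theorem isCharacter_nsmul (k : ℕ) (χ : G → ℂ) (hχ : IsCharacter G χ) :
    IsCharacter G ((k : ℂ) • χ) := by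
  induction k with
  | zero => simpa using isCharacter_zero
  | succ k ih =>
    have : ((k + 1 : ℕ) : ℂ) • χ = (k : ℂ) • χ + χ := by
      rw [Nat.cast_succ, add_smul, one_smul]
    rw [this]
    exact isCharacter_add _ _ ih hχ

theorem isCharacter_sum {ι : Type*} (s : Finset ι) (f : ι → G → ℂ)
    (h : ∀ i ∈ s, IsCharacter G (f i)) : IsCharacter G (∑ i ∈ s, f i) := by
  classical
  induction s using Finset.induction_on with
  | empty => simpa using isCharacter_zero
  | insert a s ha ih =>
    rw [Finset.sum_insert ha]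
    exact isCharacter_add _ _ (h a (Finset.mem_insert_self a s))
      (ih fun i hi => h i (Finset.mem_insert_of_mem hi))

variable [Fintype G]

theorem classInner_char_char_nat (φ ψ : G → ℂ) (hφ : IsCharacter G φ) (hψ : IsCharacter G ψ) :
    ∃ k : ℕ, classInner φ ψ = k := by
  classical
  have := irr_finite (G := G)
  let _ : Fintype (IrrCharacter G) := Fintype.ofFinite _
  obtain ⟨m, hm⟩ := exists_decomp_of_isCharacter φ hφ
  obtain ⟨k, hk⟩ := exists_decomp_of_isCharacter ψ hψ
  refine ⟨∑ χ : IrrCharacter G, m χ * k χ, ?_⟩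
  rw [hm, hk, classInner_sum_sum_irr]
  push_cast
  refine Finset.sum_congr rfl fun χ _ => ?_
  rw [Complex.conj_natCast]

/-- An induced character is a character. -/
theorem isCharacter_indFun (H : Subgroup G) (θ : H → ℂ) (hθ : IsCharacter H θ) :
    IsCharacter G (indFun H θ) := by
  classical
  let _ : Fintype H := Fintype.ofFinite H
  have := irr_finite (G := G)
  let _ : Fintype (IrrCharacter G) := Fintype.ofFinite _
  have hexp := classFunction_expansion (indFun H θ) (indFun_isClassFunction H θ)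
  have hnat : ∀ χ : IrrCharacter G, ∃ k : ℕ, classInner (indFun H θ) (χ : G → ℂ) = k := by
    intro χ
    rw [frobenius H θ χ (isClassFunction_irr χ)]
    exact classInner_char_char_nat θ _ hθ
      (isCharacter_comp H.subtype (χ : G → ℂ) (isCharacter_of_irr _ χ.2))
  choose m hm using hnat
  rw [hexp]
  apply isCharacter_sum
  intro χ _
  rw [hm χ]
  exact isCharacter_nsmul _ _ (isCharacter_of_irr _ χ.2)

end Chars

end Cfsg.Agent.Lib.Helper46
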