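import Mathlib

set_option autoImplicit false

namespace Cfsg.Agent.Lib.Helper46.J3IV

theorem invol_conj_of_odd_index {J : Type*} [Group J] [Finite J] (t : J)
    (hodd : ¬ 2 ∣ (Subgroup.centralizer ({t} : Set J)).index)
    (hC : ∀ y : J, y * t = t * y → orderOf y = 2 → IsConj t y) :
    ∀ x y : J, orderOf x = 2 → orderOf y = 2 → IsConj x y := by
  have key : ∀ x : J, orderOf x = 2 → IsConj t x := by
    intro x hx
    have hP : IsPGroup 2 (Subgroup.zpowers x) := by
      apply IsPGroup.of_card (n := 1)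
      rw [Nat.card_zpowers, hx]; rfl
    haveI : Fact (Nat.Prime 2) := ⟨Nat.prime_two⟩
    have hne : ¬ 2 ∣ Nat.card (J ⧸ Subgroup.centralizer ({t} : Set J)) := hodd
    obtain ⟨a, ha⟩ := hP.nonempty_fixed_point_of_prime_not_dvd_card
      (J ⧸ Subgroup.centralizer ({t} : Set J)) hne
    obtain ⟨g, rfl⟩ := QuotientGroup.mk_surjective a
    have hfix : (⟨x, Subgroup.mem_zpowers x⟩ : Subgroup.zpowers x) •
        (QuotientGroup.mk g : J ⧸ Subgroup.centralizer ({t} : Set J)) = QuotientGroup.mk g :=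
      ha _
    have hfix' : (QuotientGroup.mk (x * g) : J ⧸ Subgroup.centralizer ({t} : Set J)) =
        QuotientGroup.mk g := hfix
    have hmem : g⁻¹ * (x * g) ∈ Subgroup.centralizer ({t} : Set J) := by
      rw [← QuotientGroup.eq]; exact hfix'.symm
    have hcomm : (g⁻¹ * (x * g)) * t = t * (g⁻¹ * (x * g)) := by
      rw [Subgroup.mem_centralizer_iff] at hmem
      exact (hmem t rfl).symm
    have hord : orderOf (g⁻¹ * (x * g)) = 2 := by
      have h1 : g⁻¹ * (x * g) = MulAut.conj g⁻¹ x := by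
        rw [MulAut.conj_apply, inv_inv, mul_assoc]
      rw [h1, MulEquiv.orderOf_eq, hx]
    have h2 := hC _ hcomm hord
    have h3 : IsConj (g⁻¹ * (x * g)) x := by
      rw [isConj_iff]
      exact ⟨g, by group⟩
    exact h2.trans h3
  intro x y hx hy
  exact (key x hx).symm.trans (key y hy)

end Cfsg.Agent.Lib.Helper46.J3IV
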