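import Mathlib

set_option autoImplicit false

namespace Cfsg.Agent.Lib.Helper46.J3IW

theorem card_centralizer_le {J : Type*} [Group J] [Finite J] (t : J) (n : ℕ) (x : ℕ → J)
    (hx : ∀ i < n, IsConj t (x i)) (hinj : ∀ i < n, ∀ j < n, x i = x j → i = j) :
    n * Nat.card (Subgroup.centralizer ({t} : Set J)) ≤ Nat.card J := by
  have h1 : (Subgroup.centralizer ({t} : Set J)).index *
      Nat.card (Subgroup.centralizer ({t} : Set J)) = Nat.card J := Subgroup.index_mul_card _
  have hch : ∀ i : Fin n, ∃ g : J, g * t * g⁻¹ = x i := fun i => isConj_iff.mp (hx i i.2)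
  choose g hg using hch
  have hinj' : Function.Injective
      (fun i : Fin n => (QuotientGroup.mk (g i) : J ⧸ Subgroup.centralizer ({t} : Set J))) := by
    intro i j hij
    have hmem : (g i)⁻¹ * g j ∈ Subgroup.centralizer ({t} : Set J) := QuotientGroup.eq.mp hij
    rw [Subgroup.mem_centralizer_iff] at hmem
    have hc : t * ((g i)⁻¹ * g j) = (g i)⁻¹ * g j * t := hmem t rfl
    have hxx : x i = x j := by
      rw [← hg i, ← hg j]
      have : g j * t * (g j)⁻¹ = g i * ((g i)⁻¹ * g j * t) * (g j)⁻¹ := by group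
      rw [this, ← hc]; group
    exact Fin.ext (hinj i i.2 j j.2 hxx)
  have h2 : n ≤ (Subgroup.centralizer ({t} : Set J)).index := by
    have := Nat.card_le_card_of_injective _ hinj'
    rwa [Nat.card_eq_fintype_card, Fintype.card_fin] at this
  calc n * Nat.card (Subgroup.centralizer ({t} : Set J))
      ≤ (Subgroup.centralizer ({t} : Set J)).index *
        Nat.card (Subgroup.centralizer ({t} : Set J)) := Nat.mul_le_mul_right _ h2
    _ = Nat.card J := h1

end Cfsg.Agent.Lib.Helper46.J3IW
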