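import Mathlib
import Cfsg.Agent.Lib.Helper61.F15Defs
import Cfsg.Agent.Lib.Helper32.TT5P7

/-!
# S1615 pieces P4 (`twB`) and P5 (`twB'`) (helper46, for helper61)

`p5_path_rev` is the reversal of an `A₄` path of involutions (via the Coxeter presentation of
`S₅`, `Helper32.TT5.cox`), `twB` is piece P4 and `twB'` is piece P5 of the plan.
-/

set_option autoImplicit false

namespace Cfsg.Agent.Lib.Helper46.F15

open Cfsg Cfsg.Agent.Lib.Helper11 Cfsg.Agent.Lib.Helper61.F15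

variable {G : Type*} [Group G] {D : Set G}

/-- the reversal of `Fin 5` -/
def p5_rev : Equiv.Perm (Fin 5) := Equiv.swap 0 4 * Equiv.swap 1 3

theorem p5_R1 : p5_rev * Equiv.swap 0 1 * p5_rev⁻¹ = Equiv.swap 3 4 := by decide

theorem p5_R2 : p5_rev * Equiv.swap 1 2 * p5_rev⁻¹ = Equiv.swap 2 3 := by decide

theorem p5_R3 : p5_rev * Equiv.swap 2 3 * p5_rev⁻¹ = Equiv.swap 1 2 := by decide

theorem p5_R4 : p5_rev * Equiv.swap 3 4 * p5_rev⁻¹ = Equiv.swap 0 1 := by decide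

/-- reversal of an `A₄` path of involutions -/
theorem p5_path_rev {a h c b : G} (haa : a * a = 1) (hhh : h * h = 1) (hcc : c * c = 1)
    (hbb : b * b = 1) (hah : a * h * a = h * a * h) (hhc : h * c * h = c * h * c)
    (hcb : c * b * c = b * c * b) (hac : a * c = c * a) (hab : a * b = b * a)
    (hhb : h * b = b * h) (hne : a ≠ c) :
    ∃ w : G, w * a * w⁻¹ = b ∧ w * b * w⁻¹ = a ∧ w * c * w⁻¹ = h ∧ w * h * w⁻¹ = c := by
  obtain ⟨f, -, hf1, hf2, hf3, hf4⟩ := Cfsg.Agent.Lib.Helper32.TT5.cox a h c b haa hhh hcc hbb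
    hah hhc hcb hac hab hhb hne
  refine ⟨f p5_rev, ?_, ?_, ?_, ?_⟩
  · have h1 : f p5_rev * f (Equiv.swap 0 1) * (f p5_rev)⁻¹ = f (Equiv.swap 3 4) := by
      rw [← map_inv, ← map_mul, ← map_mul, p5_R1]
    rwa [hf1, hf4] at h1
  · have h1 : f p5_rev * f (Equiv.swap 3 4) * (f p5_rev)⁻¹ = f (Equiv.swap 0 1) := by
      rw [← map_inv, ← map_mul, ← map_mul, p5_R4]
    rwa [hf1, hf4] at h1
  · have h1 : f p5_rev * f (Equiv.swap 2 3) * (f p5_rev)⁻¹ = f (Equiv.swap 1 2) := by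
      rw [← map_inv, ← map_mul, ← map_mul, p5_R3]
    rwa [hf2, hf3] at h1
  · have h1 : f p5_rev * f (Equiv.swap 1 2) * (f p5_rev)⁻¹ = f (Equiv.swap 2 3) := by
      rw [← map_inv, ← map_mul, ← map_mul, p5_R2]
    rwa [hf2, hf3] at h1

/-- piece P4 -/
theorem twB (hD : IsThreeTranspositionClass D) {a b c h : G} (ht : Tw D a b c) (hh : h ∈ D)
    (hhb : h ≠ b) (hcb : Commute h b) (hnc : ¬ Commute h c) :
    ¬ Commute h a ∧
      ∀ g ∈ D, g ≠ a → g ≠ b → Commute g a → Commute g b → Commute g h := by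
  obtain ⟨haD, hbD, hcD, hab, hac, hbc, htw⟩ := ht
  have hha : ¬ Commute h a := by
    intro hc
    have hhc : h ≠ c := by
      rintro rfl
      exact hbc hcb.symm
    exact hnc ((htw h hh hc.symm hhb hhc).mp hcb)
  refine ⟨hha, ?_⟩
  intro g hg hga hgb hgca hgcb
  have hne : a ≠ c := by
    rintro rfl
    exact hbc hab.symm
  obtain ⟨w, hw1, hw2, hw3, hw4⟩ := p5_path_rev (tt_sq hD haD) (tt_sq hD hh) (tt_sq hD hcD)
    (tt_sq hD hbD) (tt_braid hD haD hh (fun hc => hha hc.symm)).1 (tt_braid hD hh hcD hnc).1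
    (tt_braid hD hcD hbD (fun hc => hbc hc.symm)).1 hac.eq hab.eq hcb.eq hne
  have hg'D : w * g * w⁻¹ ∈ D := tt_conj_mem hD hg w
  have hg'b : Commute (w * g * w⁻¹) b := by
    rw [← hw1]
    exact (ttcj_commute_iff w g a).mpr hgca
  have hg'a : Commute (w * g * w⁻¹) a := by
    rw [← hw2]
    exact (ttcj_commute_iff w g b).mpr hgcb
  have hg'neb : w * g * w⁻¹ ≠ b := by
    intro heq
    rw [← hw1] at heq
    exact hga (ttcj_inj (g := w) heq)
  have hg'nec : w * g * w⁻¹ ≠ c := by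
    intro heq
    rw [heq] at hg'b
    exact hbc hg'b.symm
  have hg'c : Commute (w * g * w⁻¹) c := (htw _ hg'D hg'a.symm hg'neb hg'nec).mp hg'b
  rw [← hw4] at hg'c
  exact (ttcj_commute_iff w g h).mp hg'c

/-- piece P5 -/
theorem twB' [Finite G] (hP : TTPrim D) {a b c h : G} (ht : Tw D a b c) (hh : h ∈ D)
    (hhb : h ≠ b) (hcb : Commute h b) (hnc : ¬ Commute h c) :
    ∀ g ∈ D, g ≠ h → Commute g b → Commute g h → Commute g a := by
  have hD := hP.1
  obtain ⟨hha, hB⟩ := twB hD ht hh hhb hcb hnc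
  obtain ⟨haD, hbD, hcD, hab, hac, hbc, htw⟩ := ht
  have habne : a ≠ b := by
    rintro rfl
    exact hbc hac
  have heq : TTEq2 b a b h := tt_D hP hbD haD hh hab hcb habne hhb
  have hcard : (ttM D b a).ncard = (ttM D b h).ncard := ttM_ncard hD heq
  have haM : a ∈ ttM D b a := ⟨haD, hab, Commute.refl a⟩
  have hhM : h ∈ ttM D b h := ⟨hh, hcb, Commute.refl h⟩
  have hsub : ttM D b a \ {a} ⊆ ttM D b h \ {h} := by
    rintro u ⟨⟨huD, hub, hua⟩, hune⟩
    have hune' : u ≠ a := fun h' => hune (by simp [h'])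
    have hunh : u ≠ h := by
      rintro rfl
      exact hha hua
    by_cases hubb : u = b
    · subst hubb
      exact ⟨⟨huD, Commute.refl u, hcb.symm⟩, fun h' => hunh (by simpa using h')⟩
    · exact ⟨⟨huD, hub, hB u huD hune' hubb hua hub⟩, fun h' => hunh (by simpa using h')⟩
  have hc1 : (ttM D b a \ {a}).ncard = (ttM D b a).ncard - 1 :=
    Set.ncard_diff_singleton_of_mem haM
  have hc2 : (ttM D b h \ {h}).ncard = (ttM D b h).ncard - 1 :=
    Set.ncard_diff_singleton_of_mem hhM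
  have hEq : ttM D b a \ {a} = ttM D b h \ {h} :=
    Set.eq_of_subset_of_ncard_le hsub (by omega) (Set.toFinite _)
  intro g hg hgh hgb hgh'
  have hgT : g ∈ ttM D b h \ {h} := ⟨⟨hg, hgb, hgh'⟩, fun h' => hgh (by simpa using h')⟩
  rw [← hEq] at hgT
  exact hgT.1.2.2

end Cfsg.Agent.Lib.Helper46.F15
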