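import Cfsg.Agent.Lib.Helper46.Mat2b

set_option autoImplicit false

namespace Cfsg.Agent.Lib.Helper46

open Matrix

variable {F : Type*} [Field F]

theorem sl_scalar (g : SpecialLinearGroup (Fin 2) F)
    (hg : ¬ NonScalar (g : Matrix (Fin 2) (Fin 2) F)) :
    (g : Matrix (Fin 2) (Fin 2) F) =
      (g : Matrix (Fin 2) (Fin 2) F) 0 0 • (1 : Matrix (Fin 2) (Fin 2) F) ∧
      (g : Matrix (Fin 2) (Fin 2) F) 0 0 ^ 2 = 1 := by
  have h := (not_nonScalar_iff _).mp hg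
  refine ⟨h, ?_⟩
  have hd := g.det_coe
  rw [h] at hd
  simpa [Matrix.det_fin_two, sq] using hd

theorem sl_eq_of_scalar (g h : SpecialLinearGroup (Fin 2) F)
    (hg : ¬ NonScalar (g : Matrix (Fin 2) (Fin 2) F))
    (hh : ¬ NonScalar (h : Matrix (Fin 2) (Fin 2) F))
    (h00 : (g : Matrix (Fin 2) (Fin 2) F) 0 0 = (h : Matrix (Fin 2) (Fin 2) F) 0 0) : g = h := by
  apply Subtype.ext
  show (g : Matrix (Fin 2) (Fin 2) F) = (h : Matrix (Fin 2) (Fin 2) F)
  rw [(sl_scalar g hg).1, (sl_scalar h hh).1, h00]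

theorem sl_conj_of_scalar (x g : SpecialLinearGroup (Fin 2) F)
    (hg : ¬ NonScalar (g : Matrix (Fin 2) (Fin 2) F)) : x * g * x⁻¹ = g := by
  have h := (sl_scalar g hg).1
  have hxg : x * g = g * x := by
    apply Subtype.ext
    show (x : Matrix (Fin 2) (Fin 2) F) * (g : Matrix (Fin 2) (Fin 2) F) =
      (g : Matrix (Fin 2) (Fin 2) F) * (x : Matrix (Fin 2) (Fin 2) F)
    rw [h]
    simp
  rw [hxg]
  group

theorem qf_slComp (t e : F) (he : e ≠ 0) (v0 v1 : F) :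
    qf ((slComp t e he : SpecialLinearGroup (Fin 2) F) : Matrix (Fin 2) (Fin 2) F) v0 v1 =
      e * v0 ^ 2 + t * v0 * v1 + e⁻¹ * v1 ^ 2 := by
  simp [qf, slComp_coe, compMat]

/-- The invariants "non-scalar", "trace" and "represents `e`" determine conjugacy in `SL₂`. -/
theorem sl_isConj_of_rep_one (g h : SpecialLinearGroup (Fin 2) F)
    (ht : (g : Matrix (Fin 2) (Fin 2) F).trace = (h : Matrix (Fin 2) (Fin 2) F).trace)
    (hg : Rep (g : Matrix (Fin 2) (Fin 2) F) 1) (hh : Rep (h : Matrix (Fin 2) (Fin 2) F) 1) :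
    IsConj g h :=
  sl_isConj_of_rep g h 1 one_ne_zero ht hg hh

theorem rep_one_of_isSquare (g : SpecialLinearGroup (Fin 2) F) (e : F) (he : e ≠ 0)
    (hr : Rep (g : Matrix (Fin 2) (Fin 2) F) e) (hs : IsSquare e) :
    Rep (g : Matrix (Fin 2) (Fin 2) F) 1 := by
  obtain ⟨s, rfl⟩ := hs
  have hs0 : s ≠ 0 := fun h => he (by rw [h, mul_zero])
  have := rep_mul_sq hr s⁻¹
  have e1 : s⁻¹ ^ 2 * (s * s) = 1 := by field_simp
  rwa [e1] at this

theorem sl_one_scalar : ¬ NonScalar ((1 : SpecialLinearGroup (Fin 2) F) : Matrix (Fin 2) (Fin 2) F) := by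
  rw [not_nonScalar_iff]
  simp

end Cfsg.Agent.Lib.Helper46
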