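import Cfsg.Agent.Lib.Helper46.Ind
import Cfsg.Agent.Lib.Helper46.Mat2c
import Cfsg.Prelude.Def_ParabolicCharacters

set_option autoImplicit false

namespace Cfsg.Agent.Lib.Helper46

open Matrix Cfsg Cfsg.Agent.Lib.Helper4
open scoped ComplexConjugate

variable {F : Type*} [Field F]

theorem mem_upperTriangularGL_iff (g : GL (Fin 2) F) :
    g ∈ upperTriangularGL 2 F ↔ (g : Matrix (Fin 2) (Fin 2) F) 1 0 = 0 := by
  change (g : Matrix (Fin 2) (Fin 2) F).BlockTriangular id ↔ _
  constructor
  · intro h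
    exact h (by decide : (id (0 : Fin 2)) < id 1)
  · intro h i j hij
    fin_cases i <;> fin_cases j <;> simp_all

theorem gl_det_ne_zero (g : GL (Fin 2) F) : (g : Matrix (Fin 2) (Fin 2) F).det ≠ 0 :=
  ((Matrix.isUnit_iff_isUnit_det _).mp g.isUnit).ne_zero

theorem gl_det_eq (g : GL (Fin 2) F) :
    (g : Matrix (Fin 2) (Fin 2) F) 0 0 * (g : Matrix (Fin 2) (Fin 2) F) 1 1 -
      (g : Matrix (Fin 2) (Fin 2) F) 0 1 * (g : Matrix (Fin 2) (Fin 2) F) 1 0 ≠ 0 := by
  rw [← det_fin_two]
  exact gl_det_ne_zero g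

/-- The element `[[z, 1], [1, 0]]`. -/
def nz (z : F) : GL (Fin 2) F :=
  GeneralLinearGroup.mkOfDetNeZero !![z, 1; 1, 0] (by simp [det_fin_two_of])

/-- The element `[[0, 1], [1, -z]]`, inverse of `nz z`. -/
def nzInv (z : F) : GL (Fin 2) F :=
  GeneralLinearGroup.mkOfDetNeZero !![0, 1; 1, -z] (by simp [det_fin_two_of])

theorem nz_coe (z : F) : ((nz z : GL (Fin 2) F) : Matrix (Fin 2) (Fin 2) F) = !![z, 1; 1, 0] := rfl

theorem nzInv_coe (z : F) :
    ((nzInv z : GL (Fin 2) F) : Matrix (Fin 2) (Fin 2) F) = !![0, 1; 1, -z] := rfl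

theorem nz_inv (z : F) : (nz z)⁻¹ = nzInv z := by
  apply inv_eq_of_mul_eq_one_left
  apply Units.ext
  rw [Units.val_mul, nz_coe, nzInv_coe]
  ext i j
  fin_cases i <;> fin_cases j <;> simp [Matrix.mul_apply, Fin.sum_univ_two]

/-- The transversal of the upper triangular subgroup indexed by the projective line. -/
def trans (i : Option F) : GL (Fin 2) F :=
  match i with
  | none => 1
  | some z => nz z

theorem conj_nz_apply (g : GL (Fin 2) F) (z : F) :
    (((nz z)⁻¹ * g * nz z : GL (Fin 2) F) : Matrix (Fin 2) (Fin 2) F) =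
      !![(g : Matrix (Fin 2) (Fin 2) F) 1 0 * z + (g : Matrix (Fin 2) (Fin 2) F) 1 1,
        (g : Matrix (Fin 2) (Fin 2) F) 1 0;
        -qf (g : Matrix (Fin 2) (Fin 2) F) z 1,
        (g : Matrix (Fin 2) (Fin 2) F) 0 0 - (g : Matrix (Fin 2) (Fin 2) F) 1 0 * z] := by
  rw [nz_inv, Units.val_mul, Units.val_mul, nz_coe, nzInv_coe]
  conv_lhs => rw [Matrix.eta_fin_two (g : Matrix (Fin 2) (Fin 2) F)]
  rw [Matrix.mul_fin_two, Matrix.mul_fin_two]
  ext i j
  fin_cases i <;> fin_cases j <;> simp [qf] <;> ring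

theorem trans_bijective :
    Function.Bijective (fun p : Option F × upperTriangularGL 2 F =>
      trans p.1 * (p.2 : GL (Fin 2) F)) := by
  constructor
  · rintro ⟨i, b⟩ ⟨j, b'⟩ h
    simp only at h
    have hb := (mem_upperTriangularGL_iff _).mp b.2
    have hb' := (mem_upperTriangularGL_iff _).mp b'.2
    have hd := gl_det_eq (b : GL (Fin 2) F)
    have hd' := gl_det_eq (b' : GL (Fin 2) F)
    rw [hb, mul_zero, sub_zero] at hd
    rw [hb', mul_zero, sub_zero] at hd'
    have h00 := left_ne_zero_of_mul hd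
    have h00' := left_ne_zero_of_mul hd'
    have hm := congrArg (fun x : GL (Fin 2) F => (x : Matrix (Fin 2) (Fin 2) F)) h
    simp only [Units.val_mul] at hm
    have e00 := congrFun (congrFun hm 0) 0
    have e10 := congrFun (congrFun hm 1) 0
    cases i with
    | none =>
      cases j with
      | none =>
        simp only [trans, one_mul] at h
        rw [Subtype.ext h]
      | some z' =>
        simp [trans, nz_coe, Matrix.mul_apply, Fin.sum_univ_two, hb, hb'] at e10
        exact absurd e10.symm h00'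
    | some z =>
      cases j with
      | none =>
        simp [trans, nz_coe, Matrix.mul_apply, Fin.sum_univ_two, hb, hb'] at e10
        exact absurd e10 h00
      | some z' =>
        simp [trans, nz_coe, Matrix.mul_apply, Fin.sum_univ_two, hb, hb'] at e10 e00
        rw [e10] at e00
        have hz : z = z' := by
          have := mul_right_cancel₀ h00' e00
          exact this
        subst hz
        simp only [trans] at h
        rw [Subtype.ext (mul_left_cancel h)]
  · intro g
    by_cases hg : (g : Matrix (Fin 2) (Fin 2) F) 1 0 = 0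
    · exact ⟨(none, ⟨g, (mem_upperTriangularGL_iff g).mpr hg⟩), by simp [trans]⟩
    · set z := (g : Matrix (Fin 2) (Fin 2) F) 0 0 / (g : Matrix (Fin 2) (Fin 2) F) 1 0 with hz
      have hmem : (nz z)⁻¹ * g ∈ upperTriangularGL 2 F := by
        rw [mem_upperTriangularGL_iff, nz_inv, Units.val_mul, nzInv_coe]
        simp [Matrix.mul_apply, Fin.sum_univ_two, hz]
        field_simp
        ring
      refine ⟨(some z, ⟨(nz z)⁻¹ * g, hmem⟩), ?_⟩
      simp [trans]

/-- The linear character `b ↦ α(b₁₁) β(b₂₂)` of the upper triangular subgroup, as a function. -/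
noncomputable def theta (α β : MulChar F ℂ) : upperTriangularGL 2 F → ℂ :=
  fun b => α (((b : GL (Fin 2) F) : Matrix (Fin 2) (Fin 2) F) 0 0) *
    β (((b : GL (Fin 2) F) : Matrix (Fin 2) (Fin 2) F) 1 1)

theorem upper_mul_00 (b b' : upperTriangularGL 2 F) :
    ((b * b' : upperTriangularGL 2 F) : GL (Fin 2) F).1 0 0 =
      (b : GL (Fin 2) F).1 0 0 * (b' : GL (Fin 2) F).1 0 0 := by
  have hb' := (mem_upperTriangularGL_iff _).mp b'.2
  show ((b : GL (Fin 2) F) * (b' : GL (Fin 2) F)).1 0 0 = _
  rw [Units.val_mul, Matrix.mul_apply, Fin.sum_univ_two]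
  have : (b' : GL (Fin 2) F).1 1 0 = 0 := hb'
  rw [this, mul_zero, add_zero]

theorem upper_mul_11 (b b' : upperTriangularGL 2 F) :
    ((b * b' : upperTriangularGL 2 F) : GL (Fin 2) F).1 1 1 =
      (b : GL (Fin 2) F).1 1 1 * (b' : GL (Fin 2) F).1 1 1 := by
  have hb := (mem_upperTriangularGL_iff _).mp b.2
  show ((b : GL (Fin 2) F) * (b' : GL (Fin 2) F)).1 1 1 = _
  rw [Units.val_mul, Matrix.mul_apply, Fin.sum_univ_two]
  have : (b : GL (Fin 2) F).1 1 0 = 0 := hb
  rw [this, zero_mul, zero_add]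

/-- `theta` as a monoid homomorphism. -/
noncomputable def thetaHom (α β : MulChar F ℂ) : upperTriangularGL 2 F →* ℂ where
  toFun := theta α β
  map_one' := by simp [theta]
  map_mul' b b' := by
    show theta α β (b * b') = theta α β b * theta α β b'
    unfold theta
    have h1 := upper_mul_00 b b'
    have h2 := upper_mul_11 b b'
    rw [h1, h2, map_mul, map_mul]
    ring

theorem thetaHom_apply (α β : MulChar F ℂ) (b : upperTriangularGL 2 F) :
    thetaHom α β b = theta α β b := rfl

end Cfsg.Agent.Lib.Helper46
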