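import Cfsg.Agent.Lib.Helper46.GL2

set_option autoImplicit false

namespace Cfsg.Agent.Lib.Helper46

open Matrix Cfsg Cfsg.Agent.Lib.Helper4
open scoped ComplexConjugate

section Lin

variable {H : Type*} [Group H]

theorem isClassFunction_of_hom (f : H →* ℂ) : IsClassFunction H f := by
  intro g h
  have h1 : f (h * g * h⁻¹) = f g * (f h * f h⁻¹) := by
    rw [map_mul, map_mul]
    ring
  rw [h1, ← map_mul, mul_inv_cancel, map_one, mul_one]

/-- The one-dimensional representation attached to a homomorphism to `ℂ`. -/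
noncomputable def linRep (f : H →* ℂ) : Representation ℂ H ℂ where
  toFun h := f h • (1 : Module.End ℂ ℂ)
  map_one' := by simp
  map_mul' a b := by
    ext
    simp [mul_comm]

theorem linRep_character (f : H →* ℂ) : (linRep f).character = f := by
  funext h
  simp [Representation.character, linRep]

theorem isIrrCharacter_of_hom (f : H →* ℂ) : IsIrrCharacter H f := by
  have := irreducible_of_finrank_one (linRep f) (Module.finrank_self ℂ)
  have h := isIrrCharacter_of_irreducible (linRep f)
  rwa [linRep_character] at h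

end Lin

section Orth

variable {F : Type*} [Field F] [Fintype F]

theorem mulChar_zero (α : MulChar F ℂ) : α 0 = 0 := MulChar.map_nonunit α not_isUnit_zero

theorem card_sub_one_ne_zero : (Fintype.card F : ℂ) - 1 ≠ 0 := by
  have h : 1 < Fintype.card F := Fintype.one_lt_card
  intro h3
  have h4 : (Fintype.card F : ℂ) = ((1 : ℕ) : ℂ) := by
    rw [Nat.cast_one]
    linear_combination h3
  have h5 := Nat.cast_injective h4
  omega

theorem card_ne_zero_F : (Fintype.card F : ℂ) ≠ 0 :=
  Nat.cast_ne_zero.mpr Fintype.card_pos.ne'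

theorem mulChar_sum_one [DecidableEq F] :
    ∑ a : F, (1 : MulChar F ℂ) a = (Fintype.card F : ℂ) - 1 := by
  rw [MulChar.sum_one_eq_card_units, Fintype.card_units, Nat.cast_sub Fintype.card_pos]
  simp

/-- Orthogonality of multiplicative characters. -/
theorem mulChar_orth [DecidableEq F] (α α' : MulChar F ℂ) :
    ∑ a : F, α a * conj (α' a) = if α = α' then (Fintype.card F : ℂ) - 1 else 0 := by
  have h1 : ∀ a : F, α a * conj (α' a) = (α * α'⁻¹) a := by
    intro a
    rw [MulChar.mul_apply, ← MulChar.star_apply']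
    rfl
  simp_rw [h1]
  split_ifs with h
  · rw [h, mul_inv_cancel]
    exact mulChar_sum_one
  · apply MulChar.sum_eq_zero_of_ne_one
    intro h2
    exact h (mul_inv_eq_one.mp h2)

end Orth

section Upper

variable {F : Type*} [Field F] [Fintype F] [DecidableEq F] [Fintype (upperTriangularGL 2 F)]

/-- The upper triangular element `[[a, c], [0, d]]`. -/
def upperMk (a d c : F) (ha : a ≠ 0) (hd : d ≠ 0) : upperTriangularGL 2 F :=
  ⟨GeneralLinearGroup.mkOfDetNeZero !![a, c; 0, d] (by simp [det_fin_two_of, ha, hd]),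
    (mem_upperTriangularGL_iff _).mpr (by
      show (!![a, c; 0, d] : Matrix (Fin 2) (Fin 2) F) 1 0 = 0
      simp)⟩

theorem upper_entries_ne_zero (b : upperTriangularGL 2 F) :
    ((b : GL (Fin 2) F) : Matrix (Fin 2) (Fin 2) F) 0 0 ≠ 0 ∧
      ((b : GL (Fin 2) F) : Matrix (Fin 2) (Fin 2) F) 1 1 ≠ 0 := by
  have hb := (mem_upperTriangularGL_iff _).mp b.2
  have hd := gl_det_eq (b : GL (Fin 2) F)
  rw [hb, mul_zero, sub_zero] at hd
  exact ⟨left_ne_zero_of_mul hd, right_ne_zero_of_mul hd⟩

/-- Sums over the upper triangular subgroup as sums over the entries. -/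
theorem sum_upper (f : F → F → F → ℂ) (hf : ∀ a d c, a = 0 ∨ d = 0 → f a d c = 0) :
    ∑ b : upperTriangularGL 2 F, f (((b : GL (Fin 2) F) : Matrix (Fin 2) (Fin 2) F) 0 0)
      (((b : GL (Fin 2) F) : Matrix (Fin 2) (Fin 2) F) 1 1)
      (((b : GL (Fin 2) F) : Matrix (Fin 2) (Fin 2) F) 0 1) = ∑ a : F, ∑ d : F, ∑ c : F, f a d c := by
  have h1 : ∑ a : F, ∑ d : F, ∑ c : F, f a d c = ∑ p : F × F × F, f p.1 p.2.1 p.2.2 := by
    rw [Fintype.sum_prod_type]
    refine Finset.sum_congr rfl fun a _ => ?_
    rw [Fintype.sum_prod_type]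
  rw [h1]
  apply Fintype.sum_of_injective
    (fun b : upperTriangularGL 2 F =>
      ((((b : GL (Fin 2) F) : Matrix (Fin 2) (Fin 2) F) 0 0,
        ((b : GL (Fin 2) F) : Matrix (Fin 2) (Fin 2) F) 1 1,
        ((b : GL (Fin 2) F) : Matrix (Fin 2) (Fin 2) F) 0 1) : F × F × F))
  · intro b b' h
    have hb := (mem_upperTriangularGL_iff _).mp b.2
    have hb' := (mem_upperTriangularGL_iff _).mp b'.2
    simp only [Prod.mk.injEq] at h
    apply Subtype.ext
    apply Units.ext
    ext i j
    fin_cases i <;> fin_cases j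
    · exact h.1
    · exact h.2.2
    · exact hb.trans hb'.symm
    · exact h.2.1
  · rintro ⟨a, d, c⟩ hp
    apply hf
    by_contra hcon
    push Not at hcon
    exact hp ⟨upperMk a d c hcon.1 hcon.2, rfl⟩
  · intro b
    rfl

theorem card_upper :
    (Nat.card (upperTriangularGL 2 F) : ℂ) = (Fintype.card F : ℂ) * ((Fintype.card F : ℂ) - 1) ^ 2 := by
  have h := sum_upper (F := F) (fun a d _ => (1 : MulChar F ℂ) a * (1 : MulChar F ℂ) d)
    (fun a d c h => by
      rcases h with h | h
      · rw [h, mulChar_zero, zero_mul]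
      · rw [h, mulChar_zero, mul_zero])
  have h2 : ∀ b : upperTriangularGL 2 F,
      (1 : MulChar F ℂ) (((b : GL (Fin 2) F) : Matrix (Fin 2) (Fin 2) F) 0 0) *
      (1 : MulChar F ℂ) (((b : GL (Fin 2) F) : Matrix (Fin 2) (Fin 2) F) 1 1) = 1 := by
    intro b
    obtain ⟨h0, h1⟩ := upper_entries_ne_zero b
    rw [MulChar.one_apply (isUnit_iff_ne_zero.mpr h0), MulChar.one_apply (isUnit_iff_ne_zero.mpr h1),
      mul_one]
  simp_rw [h2] at h
  rw [Finset.sum_const, Finset.card_univ, nsmul_eq_mul, mul_one] at h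
  rw [Nat.card_eq_fintype_card, h]
  simp_rw [Finset.sum_const, Finset.card_univ, nsmul_eq_mul]
  have h3 : ∀ x : F, ∑ y : F, (Fintype.card F : ℂ) * ((1 : MulChar F ℂ) x * (1 : MulChar F ℂ) y) =
      (Fintype.card F : ℂ) * ((1 : MulChar F ℂ) x) * ((Fintype.card F : ℂ) - 1) := by
    intro x
    rw [← mulChar_sum_one, Finset.mul_sum]
    exact Finset.sum_congr rfl fun y _ => by ring
  simp_rw [h3]
  rw [← Finset.sum_mul, ← Finset.mul_sum, mulChar_sum_one]
  ring

end Upper

section PS

variable {F : Type*} [Field F] [Fintype F] [DecidableEq F]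

theorem theta_isClassFunction (α β : MulChar F ℂ) :
    IsClassFunction (upperTriangularGL 2 F) (theta α β) :=
  isClassFunction_of_hom (thetaHom α β)

theorem theta_isIrrCharacter (α β : MulChar F ℂ) :
    IsIrrCharacter (upperTriangularGL 2 F) (theta α β) :=
  isIrrCharacter_of_hom (thetaHom α β)

/-- The principal series class function of `GL₂`. -/
noncomputable def ps (α β : MulChar F ℂ) : GL (Fin 2) F → ℂ :=
  indFun (upperTriangularGL 2 F) (theta α β)

theorem ps_isClassFunction (α β : MulChar F ℂ) : IsClassFunction (GL (Fin 2) F) (ps α β) :=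
  indFun_isClassFunction _ _

theorem ps_isCharacter (α β : MulChar F ℂ) : IsCharacter (GL (Fin 2) F) (ps α β) :=
  isCharacter_indFun _ _ (isCharacter_of_irr _ (theta_isIrrCharacter α β))

/-- Explicit formula for the principal series class function. -/
theorem ps_apply (α β : MulChar F ℂ) (g : GL (Fin 2) F) :
    ps α β g =
      (if (g : Matrix (Fin 2) (Fin 2) F) 1 0 = 0 then
        α ((g : Matrix (Fin 2) (Fin 2) F) 0 0) * β ((g : Matrix (Fin 2) (Fin 2) F) 1 1) else 0) +
      ∑ z : F, if qf (g : Matrix (Fin 2) (Fin 2) F) z 1 = 0 then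
        α ((g : Matrix (Fin 2) (Fin 2) F) 1 0 * z + (g : Matrix (Fin 2) (Fin 2) F) 1 1) *
        β ((g : Matrix (Fin 2) (Fin 2) F) 0 0 - (g : Matrix (Fin 2) (Fin 2) F) 1 0 * z) else 0 := by
  classical
  let _ : Fintype (upperTriangularGL 2 F) := Fintype.ofFinite _
  unfold ps
  rw [indFun_eq_sum_transversal _ _ (theta_isClassFunction α β) trans trans_bijective g,
    Fintype.sum_option]
  congr 1
  · simp only [trans, inv_one, one_mul, mul_one]
    split_ifs with h
    · rw [extendByZero_of_mem _ _ ((mem_upperTriangularGL_iff g).mpr h)]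
      rfl
    · rw [extendByZero_of_not_mem _ _ (fun hm => h ((mem_upperTriangularGL_iff g).mp hm))]
  · refine Finset.sum_congr rfl fun z _ => ?_
    simp only [trans]
    have hc := conj_nz_apply g z
    split_ifs with h
    · have hm : (nz z)⁻¹ * g * nz z ∈ upperTriangularGL 2 F := by
        rw [mem_upperTriangularGL_iff, hc]
        simp [h]
      rw [extendByZero_of_mem _ _ hm]
      show α ((((nz z)⁻¹ * g * nz z : GL (Fin 2) F) : Matrix (Fin 2) (Fin 2) F) 0 0) *
        β ((((nz z)⁻¹ * g * nz z : GL (Fin 2) F) : Matrix (Fin 2) (Fin 2) F) 1 1) = _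
      rw [hc]
      simp
    · have hm : (nz z)⁻¹ * g * nz z ∉ upperTriangularGL 2 F := by
        rw [mem_upperTriangularGL_iff, hc]
        simpa using h
      rw [extendByZero_of_not_mem _ _ hm]

theorem ps_apply_upper (α β : MulChar F ℂ) (b : upperTriangularGL 2 F) :
    ps α β (b : GL (Fin 2) F) =
      α (((b : GL (Fin 2) F) : Matrix (Fin 2) (Fin 2) F) 0 0) *
        β (((b : GL (Fin 2) F) : Matrix (Fin 2) (Fin 2) F) 1 1) +
      ∑ z : F, if (((b : GL (Fin 2) F) : Matrix (Fin 2) (Fin 2) F) 1 1 -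
          ((b : GL (Fin 2) F) : Matrix (Fin 2) (Fin 2) F) 0 0) * z -
          ((b : GL (Fin 2) F) : Matrix (Fin 2) (Fin 2) F) 0 1 = 0 then
        α (((b : GL (Fin 2) F) : Matrix (Fin 2) (Fin 2) F) 1 1) *
        β (((b : GL (Fin 2) F) : Matrix (Fin 2) (Fin 2) F) 0 0) else 0 := by
  have hb := (mem_upperTriangularGL_iff _).mp b.2
  rw [ps_apply, if_pos hb]
  congr 1
  refine Finset.sum_congr rfl fun z _ => ?_
  have hq : qf ((b : GL (Fin 2) F) : Matrix (Fin 2) (Fin 2) F) z 1 =
      (((b : GL (Fin 2) F) : Matrix (Fin 2) (Fin 2) F) 1 1 -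
          ((b : GL (Fin 2) F) : Matrix (Fin 2) (Fin 2) F) 0 0) * z -
          ((b : GL (Fin 2) F) : Matrix (Fin 2) (Fin 2) F) 0 1 := by
    simp only [qf, hb]
    ring
  rw [hq, hb, zero_mul, zero_add, sub_zero]

theorem sum_count (a d : F) :
    ∑ c : F, ∑ z : F, (if (d - a) * z - c = 0 then (1 : ℂ) else 0) = (Fintype.card F : ℂ) := by
  rw [Finset.sum_comm]
  have : ∀ z : F, ∑ c : F, (if (d - a) * z - c = 0 then (1 : ℂ) else 0) = 1 := by
    intro z
    rw [Finset.sum_eq_single ((d - a) * z)]
    · simp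
    · intro c _ hc
      rw [if_neg]
      intro h
      exact hc (sub_eq_zero.mp h).symm
    · intro h
      exact absurd (Finset.mem_univ _) h
  simp_rw [this]
  simp

/-- The inner products of the principal series class functions. -/
theorem classInner_ps_ps (α β α' β' : MulChar F ℂ) :
    classInner (ps α β) (ps α' β') =
      (if α = α' ∧ β = β' then 1 else 0) + (if α = β' ∧ β = α' then 1 else 0) := by
  classical
  let _ : Fintype (upperTriangularGL 2 F) := Fintype.ofFinite _
  rw [show ps α β = indFun (upperTriangularGL 2 F) (theta α β) from rfl,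
    frobenius _ _ _ (ps_isClassFunction α' β')]
  unfold classInner
  set N : F → F → F → ℂ := fun a d c => ∑ z : F, if (d - a) * z - c = 0 then (1 : ℂ) else 0
    with hN
  have hNc : ∀ a d c, conj (N a d c) = N a d c := by
    intro a d c
    simp only [hN, map_sum, apply_ite conj, map_one, map_zero]
  set G : F → F → F → ℂ := fun a d c =>
    α a * β d * conj (α' a * β' d + α' d * β' a * N a d c) with hG
  have h1 : ∀ b : upperTriangularGL 2 F,
      theta α β b * conj (ps α' β' (b : GL (Fin 2) F)) =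
        G (((b : GL (Fin 2) F) : Matrix (Fin 2) (Fin 2) F) 0 0)
          (((b : GL (Fin 2) F) : Matrix (Fin 2) (Fin 2) F) 1 1)
          (((b : GL (Fin 2) F) : Matrix (Fin 2) (Fin 2) F) 0 1) := by
    intro b
    rw [ps_apply_upper α' β' b]
    simp only [hG, hN, theta]
    congr 3
    rw [Finset.mul_sum]
    refine Finset.sum_congr rfl fun z _ => ?_
    split_ifs <;> simp
  simp_rw [h1]
  rw [sum_upper G (by
    intro a d c h
    rcases h with h | h <;> simp [hG, h, mulChar_zero])]
  have h2 : ∀ a d, ∑ c : F, G a d c = (Fintype.card F : ℂ) *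
      ((α a * conj (α' a)) * (β d * conj (β' d)) + (α a * conj (β' a)) * (β d * conj (α' d))) := by
    intro a d
    have h : ∀ c, G a d c = α a * conj (α' a) * (β d * conj (β' d)) +
        α a * conj (β' a) * (β d * conj (α' d)) * N a d c := by
      intro c
      simp only [hG, map_add, map_mul, hNc]
      ring
    simp_rw [h]
    rw [Finset.sum_add_distrib, Finset.sum_const, Finset.card_univ, nsmul_eq_mul,
      ← Finset.mul_sum, sum_count]
    ring
  simp_rw [h2]
  have h3 : ∑ a : F, ∑ d : F, (Fintype.card F : ℂ) *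
      ((α a * conj (α' a)) * (β d * conj (β' d)) + (α a * conj (β' a)) * (β d * conj (α' d))) =
      (Fintype.card F : ℂ) * ((∑ a, α a * conj (α' a)) * (∑ d, β d * conj (β' d)) +
        (∑ a, α a * conj (β' a)) * (∑ d, β d * conj (α' d))) := by
    rw [Finset.sum_mul_sum, Finset.sum_mul_sum, ← Finset.sum_add_distrib, Finset.mul_sum]
    refine Finset.sum_congr rfl fun a _ => ?_
    rw [← Finset.sum_add_distrib, Finset.mul_sum]
  rw [h3, mulChar_orth, mulChar_orth, mulChar_orth, mulChar_orth, card_upper]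
  have hq := card_ne_zero_F (F := F)
  have hq1 := card_sub_one_ne_zero (F := F)
  have e : ∀ (p : Prop) [Decidable p], (if p then (Fintype.card F : ℂ) - 1 else 0) =
      (if p then 1 else 0) * ((Fintype.card F : ℂ) - 1) := by
    intro p _
    split_ifs <;> simp
  have e2 : ∀ (p r : Prop) [Decidable p] [Decidable r], (if p ∧ r then (1 : ℂ) else 0) =
      (if p then 1 else 0) * (if r then 1 else 0) := by
    intro p r _ _
    by_cases hp : p <;> by_cases hr : r <;> simp [hp, hr]
  rw [e, e, e, e, e2, e2]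
  field_simp

end PS

end Cfsg.Agent.Lib.Helper46
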