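import Cfsg.Agent.Lib.Helper46.GL2b
import Cfsg.Agent.Lib.Helper20.PermChar

set_option autoImplicit false

namespace Cfsg.Agent.Lib.Helper46

open Matrix Cfsg Cfsg.Agent.Lib.Helper4
open scoped ComplexConjugate

section Values

variable {F : Type*} [Field F] [Fintype F] [DecidableEq F]

theorem mulChar_ne_zero (α : MulChar F ℂ) {a : F} (ha : a ≠ 0) : α a ≠ 0 :=
  ((isUnit_iff_ne_zero.mpr ha).map α).ne_zero

theorem theta_one_one : theta (1 : MulChar F ℂ) 1 = fun _ => 1 := by
  funext b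
  let _ : Fintype (upperTriangularGL 2 F) := Fintype.ofFinite _
  obtain ⟨h0, h1⟩ := upper_entries_ne_zero b
  unfold theta
  rw [MulChar.one_apply (isUnit_iff_ne_zero.mpr h0), MulChar.one_apply (isUnit_iff_ne_zero.mpr h1),
    mul_one]

theorem fixedPointCharacter_eq_ps (g : GL (Fin 2) F) :
    fixedPointCharacter (upperTriangularGL 2 F) g = ps 1 1 g := by
  unfold ps
  rw [theta_one_one, Cfsg.Agent.Lib.Helper20.indFun_one_eq_permChar]
  rfl

/-- Value of the principal series at a scalar matrix. -/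
theorem ps_scalar (α β : MulChar F ℂ) (g : GL (Fin 2) F) (a : F)
    (hg : (g : Matrix (Fin 2) (Fin 2) F) = a • (1 : Matrix (Fin 2) (Fin 2) F)) :
    ps α β g = ((Fintype.card F : ℂ) + 1) * (α a * β a) := by
  have h00 : (g : Matrix (Fin 2) (Fin 2) F) 0 0 = a := by rw [hg]; simp
  have h11 : (g : Matrix (Fin 2) (Fin 2) F) 1 1 = a := by rw [hg]; simp
  have h10 : (g : Matrix (Fin 2) (Fin 2) F) 1 0 = 0 := by rw [hg]; simp
  have h01 : (g : Matrix (Fin 2) (Fin 2) F) 0 1 = 0 := by rw [hg]; simp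
  rw [ps_apply, if_pos h10]
  have hq : ∀ z : F, qf (g : Matrix (Fin 2) (Fin 2) F) z 1 = 0 := by
    intro z
    simp [qf, h00, h11, h10, h01]
  simp_rw [hq, h00, h11, h10]
  simp
  ring

/-- Value of the principal series at a diagonal matrix with distinct entries. -/
theorem ps_diag (α β : MulChar F ℂ) (g : GL (Fin 2) F)
    (h01 : (g : Matrix (Fin 2) (Fin 2) F) 0 1 = 0) (h10 : (g : Matrix (Fin 2) (Fin 2) F) 1 0 = 0)
    (hne : (g : Matrix (Fin 2) (Fin 2) F) 0 0 ≠ (g : Matrix (Fin 2) (Fin 2) F) 1 1) :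
    ps α β g = α ((g : Matrix (Fin 2) (Fin 2) F) 0 0) * β ((g : Matrix (Fin 2) (Fin 2) F) 1 1) +
      α ((g : Matrix (Fin 2) (Fin 2) F) 1 1) * β ((g : Matrix (Fin 2) (Fin 2) F) 0 0) := by
  rw [ps_apply, if_pos h10]
  congr 1
  rw [Finset.sum_eq_single (0 : F)]
  · simp [qf, h10, h01]
  · intro z _ hz
    rw [if_neg]
    simp only [qf, h10, h01]
    intro h
    have h2 : ((g : Matrix (Fin 2) (Fin 2) F) 1 1 - (g : Matrix (Fin 2) (Fin 2) F) 0 0) * z = 0 := by
      linear_combination h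
    rcases mul_eq_zero.mp h2 with h3 | h3
    · exact hne (sub_eq_zero.mp h3).symm
    · exact hz h3
  · intro h
    exact absurd (Finset.mem_univ _) h

/-- Value of the principal series at an element without eigenvectors. -/
theorem ps_elliptic (α β : MulChar F ℂ) (g : GL (Fin 2) F)
    (hg : ∀ (c : F) (v : Fin 2 → F), v ≠ 0 → (g : Matrix (Fin 2) (Fin 2) F).mulVec v ≠ c • v) :
    ps α β g = 0 := by
  have h10 : (g : Matrix (Fin 2) (Fin 2) F) 1 0 ≠ 0 := by
    intro h
    apply hg ((g : Matrix (Fin 2) (Fin 2) F) 0 0) ![1, 0]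
    · intro h2
      have := congrFun h2 0
      simp at this
    · ext i
      fin_cases i <;> simp [Matrix.mulVec, dotProduct, Fin.sum_univ_two, h]
  rw [ps_apply, if_neg h10, zero_add]
  apply Finset.sum_eq_zero
  intro z _
  rw [if_neg]
  intro hq
  apply hg ((g : Matrix (Fin 2) (Fin 2) F) 1 0 * z + (g : Matrix (Fin 2) (Fin 2) F) 1 1) ![z, 1]
  · intro h2
    have := congrFun h2 1
    simp at this
  · ext i
    fin_cases i
    · simp only [qf] at hq
      simp [Matrix.mulVec, dotProduct, Fin.sum_univ_two]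
      linear_combination -hq
    · simp [Matrix.mulVec, dotProduct, Fin.sum_univ_two]

/-- Value of the principal series at a non-semisimple element. -/
theorem ps_unipotent (α β : MulChar F ℂ) (g : GL (Fin 2) F)
    (h10 : (g : Matrix (Fin 2) (Fin 2) F) 1 0 = 0)
    (heq : (g : Matrix (Fin 2) (Fin 2) F) 0 0 = (g : Matrix (Fin 2) (Fin 2) F) 1 1)
    (h01 : (g : Matrix (Fin 2) (Fin 2) F) 0 1 ≠ 0) :
    ps α β g = α ((g : Matrix (Fin 2) (Fin 2) F) 0 0) * β ((g : Matrix (Fin 2) (Fin 2) F) 0 0) := by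
  rw [ps_apply, if_pos h10, ← heq]
  have hq : ∀ z : F, qf (g : Matrix (Fin 2) (Fin 2) F) z 1 ≠ 0 := by
    intro z
    simp [qf, h10, heq, h01]
  simp [hq]

end Values

end Cfsg.Agent.Lib.Helper46
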