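import Cfsg.Agent.Lib.Helper46.Ind

set_option autoImplicit false

namespace Cfsg.Agent.Lib.Helper46

open Cfsg Cfsg.Agent.Lib.Helper4
open scoped ComplexConjugate

variable {G : Type*} [Group G] [Fintype G]

theorem classInner_add_left (f g h : G → ℂ) :
    classInner (f + g) h = classInner f h + classInner g h := by
  unfold classInner
  rw [← mul_add, ← Finset.sum_add_distrib]
  congr 1
  exact Finset.sum_congr rfl fun x _ => by rw [Pi.add_apply, add_mul]

theorem classInner_sub_left (f g h : G → ℂ) :
    classInner (f - g) h = classInner f h - classInner g h := by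
  unfold classInner
  rw [← mul_sub, ← Finset.sum_sub_distrib]
  congr 1
  exact Finset.sum_congr rfl fun x _ => by rw [Pi.sub_apply, sub_mul]

theorem classInner_add_right (f g h : G → ℂ) :
    classInner f (g + h) = classInner f g + classInner f h := by
  unfold classInner
  rw [← mul_add, ← Finset.sum_add_distrib]
  congr 1
  exact Finset.sum_congr rfl fun x _ => by rw [Pi.add_apply, map_add, mul_add]

theorem classInner_sub_right (f g h : G → ℂ) :
    classInner f (g - h) = classInner f g - classInner f h := by
  unfold classInner
  rw [← mul_sub, ← Finset.sum_sub_distrib]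
  congr 1
  exact Finset.sum_congr rfl fun x _ => by rw [Pi.sub_apply, map_sub, mul_sub]

theorem classInner_smul_left (c : ℂ) (f h : G → ℂ) :
    classInner (c • f) h = c * classInner f h := by
  unfold classInner
  rw [mul_left_comm c, Finset.mul_sum (a := c)]
  congr 1
  exact Finset.sum_congr rfl fun x _ => by rw [Pi.smul_apply, smul_eq_mul, mul_assoc]

theorem classInner_smul_right (c : ℂ) (f h : G → ℂ) :
    classInner f (c • h) = conj c * classInner f h := by
  unfold classInner
  rw [mul_left_comm (conj c), Finset.mul_sum (a := conj c)]
  congr 1
  exact Finset.sum_congr rfl fun x _ => by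
    rw [Pi.smul_apply, smul_eq_mul, map_mul]
    ring

theorem classInner_self_eq_zero (f : G → ℂ) (h : classInner f f = 0) : f = 0 := by
  unfold classInner at h
  rcases mul_eq_zero.mp h with h | h
  · exact absurd (inv_eq_zero.mp h) card_ne_zero'
  · have h1 : ∀ x : G, f x * conj (f x) = ((Complex.normSq (f x) : ℝ) : ℂ) := fun x =>
      Complex.mul_conj (f x)
    simp_rw [h1] at h
    rw [← Complex.ofReal_sum, Complex.ofReal_eq_zero] at h
    have h2 := (Finset.sum_eq_zero_iff_of_nonneg (fun x _ => Complex.normSq_nonneg (f x))).mp h
    funext x
    exact Complex.normSq_eq_zero.mp (h2 x (Finset.mem_univ x))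

theorem eq_of_classInner_sub (f g : G → ℂ)
    (h : classInner f f - classInner f g - classInner g f + classInner g g = 0) : f = g := by
  have h1 : classInner (f - g) (f - g) = 0 := by
    rw [classInner_sub_left, classInner_sub_right, classInner_sub_right]
    linear_combination h
  exact sub_eq_zero.mp (classInner_self_eq_zero _ h1)

end Cfsg.Agent.Lib.Helper46
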