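import Cfsg.Agent.Lib.Helper46.GL2c
import Cfsg.Agent.Lib.Helper46.Inner

set_option autoImplicit false

namespace Cfsg.Agent.Lib.Helper46

open Matrix Cfsg Cfsg.Agent.Lib.Helper4
open scoped ComplexConjugate

section General

variable {G : Type*} [Group G] [Fintype G]

/-- If a character of norm `2` contains the irreducible character `χ₀` with multiplicity `1`, then
the difference is an irreducible character. -/
theorem isIrrCharacter_sub (φ χ₀ : G → ℂ) (hφ : IsCharacter G φ) (h₀ : IsIrrCharacter G χ₀)
    (h2 : classInner φ φ = 2) (h1 : classInner φ χ₀ = 1) : IsIrrCharacter G (φ - χ₀) := by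
  classical
  have := irr_finite (G := G)
  let _ : Fintype (IrrCharacter G) := Fintype.ofFinite _
  obtain ⟨m, hm⟩ := exists_decomp_of_isCharacter φ hφ
  set χ₀' : IrrCharacter G := ⟨χ₀, h₀⟩ with hχ₀'
  have hm0 : m χ₀' = 1 := by
    have h := classInner_sum_irr (fun χ => (m χ : ℂ)) χ₀'
    rw [← hm] at h
    have h' : classInner φ χ₀ = (m χ₀' : ℂ) := h
    rw [h1] at h'
    exact_mod_cast h'.symm
  have hchar : IsCharacter G (φ - χ₀) := by
    have e : φ - χ₀ = ∑ χ ∈ Finset.univ.erase χ₀', (m χ : ℂ) • (χ : G → ℂ) := by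
      have e1 := Finset.add_sum_erase Finset.univ (fun χ => (m χ : ℂ) • (χ : G → ℂ))
        (Finset.mem_univ χ₀')
      rw [← hm, hm0, Nat.cast_one, one_smul] at e1
      rw [← e1]
      show χ₀ + _ - χ₀ = _
      rw [add_sub_cancel_left]
    rw [e]
    apply isCharacter_sum
    intro χ _
    exact isCharacter_nsmul _ _ (isCharacter_of_irr _ χ.2)
  apply isIrrCharacter_of_norm_one _ hchar
  rw [classInner_sub_left, classInner_sub_right, classInner_sub_right, h2, h1,
    classInner_conj_symm χ₀ φ, h1]
  have h3 := classInner_irr χ₀' χ₀'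
  rw [if_pos rfl] at h3
  have h4 : classInner χ₀ χ₀ = 1 := h3
  rw [h4]
  simp
  norm_num

/-- An irreducible character having nonzero inner product with an irreducible character
equals it. -/
theorem eq_of_classInner_ne_zero (φ χ : G → ℂ) (hφ : IsIrrCharacter G φ) (hχ : IsIrrCharacter G χ)
    (h : classInner φ χ ≠ 0) : χ = φ := by
  classical
  have h3 := classInner_irr (⟨φ, hφ⟩ : IrrCharacter G) ⟨χ, hχ⟩
  have h4 : classInner φ χ = if (⟨φ, hφ⟩ : IrrCharacter G) = ⟨χ, hχ⟩ then 1 else 0 := h3
  by_contra hne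
  rw [if_neg (fun e => hne (congrArg Subtype.val e).symm)] at h4
  exact h h4

theorem classInner_irr_self (χ : G → ℂ) (hχ : IsIrrCharacter G χ) : classInner χ χ = 1 := by
  classical
  have h3 := classInner_irr (⟨χ, hχ⟩ : IrrCharacter G) ⟨χ, hχ⟩
  rw [if_pos rfl] at h3
  exact h3

theorem classInner_irr_ne (φ χ : G → ℂ) (hφ : IsIrrCharacter G φ) (hχ : IsIrrCharacter G χ)
    (h : φ ≠ χ) : classInner φ χ = 0 := by
  by_contra h2
  exact h (eq_of_classInner_ne_zero φ χ hφ hχ h2).symm

end General

section Det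

variable {F : Type*} [Field F] [Fintype F] [DecidableEq F]

/-- The homomorphism `α ∘ det`. -/
noncomputable def detHom (α : MulChar F ℂ) : GL (Fin 2) F →* ℂ :=
  (α.toMonoidHom).comp ((Units.coeHom F).comp Matrix.GeneralLinearGroup.det)

/-- The linear character `α ∘ det` of `GL₂`. -/
noncomputable def detChar (α : MulChar F ℂ) : GL (Fin 2) F → ℂ :=
  fun g => α ((g : Matrix (Fin 2) (Fin 2) F).det)

theorem detChar_irr (α : MulChar F ℂ) : IsIrrCharacter (GL (Fin 2) F) (detChar α) :=
  isIrrCharacter_of_hom (detHom α)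

theorem detChar_one (α : MulChar F ℂ) : detChar α 1 = 1 := by
  simp [detChar]

theorem detChar_upper (α : MulChar F ℂ) (b : upperTriangularGL 2 F) :
    detChar α (b : GL (Fin 2) F) = theta α α b := by
  have hb := (mem_upperTriangularGL_iff _).mp b.2
  unfold detChar theta
  rw [det_fin_two, hb, mul_zero, sub_zero, map_mul]

variable [Fintype (upperTriangularGL 2 F)]

theorem classInner_theta_theta (α β α' β' : MulChar F ℂ) :
    classInner (theta α β) (theta α' β') = if α = α' ∧ β = β' then 1 else 0 := by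
  unfold classInner
  have h := sum_upper (F := F) (fun a d _ => α a * β d * conj (α' a * β' d))
    (fun a d c h => by
      rcases h with h | h
      · rw [h, mulChar_zero, zero_mul, zero_mul]
      · rw [h, mulChar_zero, mul_zero, zero_mul])
  have h' : ∑ b : upperTriangularGL 2 F, theta α β b * conj (theta α' β' b) =
      ∑ a : F, ∑ d : F, ∑ _c : F, α a * β d * conj (α' a * β' d) := h
  rw [h']
  have h3 : ∑ a : F, ∑ d : F, ∑ _c : F, α a * β d * conj (α' a * β' d) =
      (Fintype.card F : ℂ) * ((∑ a, α a * conj (α' a)) * (∑ d, β d * conj (β' d))) := by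
    rw [Finset.sum_mul_sum, Finset.mul_sum]
    refine Finset.sum_congr rfl fun a _ => ?_
    rw [Finset.mul_sum]
    refine Finset.sum_congr rfl fun d _ => ?_
    rw [Finset.sum_const, Finset.card_univ, nsmul_eq_mul, map_mul]
    ring
  rw [h3, mulChar_orth, mulChar_orth, card_upper]
  have hq := card_ne_zero_F (F := F)
  have hq1 := card_sub_one_ne_zero (F := F)
  have e : ∀ (p : Prop) [Decidable p], (if p then (Fintype.card F : ℂ) - 1 else 0) =
      (if p then 1 else 0) * ((Fintype.card F : ℂ) - 1) := by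
    intro p _
    split_ifs <;> simp
  have e2 : ∀ (p r : Prop) [Decidable p] [Decidable r], (if p ∧ r then (1 : ℂ) else 0) =
      (if p then 1 else 0) * (if r then 1 else 0) := by
    intro p r _ _
    by_cases hp : p <;> by_cases hr : r <;> simp [hp, hr]
  rw [e, e, e2]
  field_simp

omit [Fintype (upperTriangularGL 2 F)] in
theorem classInner_ps_detChar (α β γ : MulChar F ℂ) :
    classInner (ps α β) (detChar γ) = if α = γ ∧ β = γ then 1 else 0 := by
  classical
  let _ : Fintype (upperTriangularGL 2 F) := Fintype.ofFinite _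
  have hcf : IsClassFunction (GL (Fin 2) F) (detChar γ) := isClassFunction_of_hom (detHom γ)
  rw [show ps α β = indFun (upperTriangularGL 2 F) (theta α β) from rfl,
    frobenius _ _ _ hcf]
  have h : (fun b : upperTriangularGL 2 F => detChar γ (b : GL (Fin 2) F)) = theta γ γ :=
    funext fun b => detChar_upper γ b
  rw [h, classInner_theta_theta]

end Det

section St

variable {F : Type*} [Field F] [Fintype F] [DecidableEq F]

/-- The Steinberg-type character `ps α α - α ∘ det`. -/
noncomputable def st (α : MulChar F ℂ) : GL (Fin 2) F → ℂ := ps α α - detChar α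

theorem st_irr (α : MulChar F ℂ) : IsIrrCharacter (GL (Fin 2) F) (st α) := by
  apply isIrrCharacter_sub _ _ (ps_isCharacter α α) (detChar_irr α)
  · rw [classInner_ps_ps]
    simp
    norm_num
  · rw [classInner_ps_detChar]
    simp

theorem ps_irr (α β : MulChar F ℂ) (h : α ≠ β) : IsIrrCharacter (GL (Fin 2) F) (ps α β) := by
  classical
  have := irr_finite (G := GL (Fin 2) F)
  let _ : Fintype (IrrCharacter (GL (Fin 2) F)) := Fintype.ofFinite _
  apply isIrrCharacter_of_norm_one (ps α β) (ps_isCharacter α β)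
  rw [classInner_ps_ps]
  have h5 : ¬ (α = β ∧ β = α) := fun h' => h h'.1
  simp [h5]

theorem ps_self (α : MulChar F ℂ) : ps α α = detChar α + st α := by
  unfold st
  abel

/-- A class function on `GL₂` is cuspidal if it is orthogonal to the principal series. -/
def Cuspidal (χ : GL (Fin 2) F → ℂ) : Prop := ∀ α β : MulChar F ℂ, classInner (ps α β) χ = 0

/-- The classification of the irreducible characters of `GL₂` of a finite field. -/
theorem gl2_classification (χ : GL (Fin 2) F → ℂ) (hχ : IsIrrCharacter (GL (Fin 2) F) χ) :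
    (∃ α : MulChar F ℂ, χ = detChar α) ∨ (∃ α : MulChar F ℂ, χ = st α) ∨
      (∃ α β : MulChar F ℂ, α ≠ β ∧ χ = ps α β) ∨ Cuspidal χ := by
  by_cases hc : Cuspidal χ
  · exact Or.inr (Or.inr (Or.inr hc))
  · unfold Cuspidal at hc
    push Not at hc
    obtain ⟨α, β, h⟩ := hc
    by_cases hαβ : α = β
    · subst hαβ
      rw [ps_self, classInner_add_left] at h
      by_cases h1 : classInner (detChar α) χ = 0
      · rw [h1, zero_add] at h
        exact Or.inr (Or.inl ⟨α, eq_of_classInner_ne_zero _ _ (st_irr α) hχ h⟩)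
      · exact Or.inl ⟨α, eq_of_classInner_ne_zero _ _ (detChar_irr α) hχ h1⟩
    · exact Or.inr (Or.inr (Or.inl ⟨α, β, hαβ, eq_of_classInner_ne_zero _ _ (ps_irr α β hαβ) hχ h⟩))

end St

end Cfsg.Agent.Lib.Helper46
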