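import Cfsg.Agent.Lib.Helper46.GL2d

set_option autoImplicit false

namespace Cfsg.Agent.Lib.Helper46

open Matrix Cfsg Cfsg.Agent.Lib.Helper4
open scoped ComplexConjugate

section Dual

variable {F : Type*} [Field F] [Fintype F] [DecidableEq F] [Fintype (MulChar F ℂ)]

omit [DecidableEq F] in
theorem card_mulChar : Fintype.card (MulChar F ℂ) = Fintype.card F - 1 := by
  classical
  rw [← Nat.card_eq_fintype_card, MulChar.card_eq_card_units_of_hasEnoughRootsOfUnity F ℂ,
    Nat.card_eq_fintype_card, Fintype.card_units]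

omit [DecidableEq F] in
theorem card_mulChar_cast : (Fintype.card (MulChar F ℂ) : ℂ) = (Fintype.card F : ℂ) - 1 := by
  rw [card_mulChar, Nat.cast_sub Fintype.card_pos]
  simp

theorem mulChar_sum_apply (x : F) :
    ∑ α : MulChar F ℂ, α x = if x = 1 then (Fintype.card F : ℂ) - 1 else 0 := by
  split_ifs with h
  · subst h
    simp only [map_one, Finset.sum_const, Finset.card_univ, nsmul_eq_mul, mul_one]
    exact card_mulChar_cast
  · obtain ⟨χ, hχ⟩ := MulChar.exists_apply_ne_one_of_hasEnoughRootsOfUnity F ℂ h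
    refine eq_zero_of_mul_eq_self_left hχ ?_
    simp only [Finset.mul_sum, ← MulChar.mul_apply]
    exact Fintype.sum_bijective _ (Group.mulLeft_bijective χ) _ _ fun χ' ↦ rfl

theorem mulChar_dual_orth (a a₀ : F) (ha₀ : a₀ ≠ 0) :
    ∑ α : MulChar F ℂ, α a * conj (α a₀) = if a = a₀ then (Fintype.card F : ℂ) - 1 else 0 := by
  have h1 : ∀ α : MulChar F ℂ, α a * conj (α a₀) = α (a * a₀⁻¹) := by
    intro α
    rw [map_mul, ← MulChar.inv_apply', ← MulChar.star_apply']
    rfl
  simp_rw [h1]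
  rw [mulChar_sum_apply]
  have h2 : a * a₀⁻¹ = 1 ↔ a = a₀ := mul_inv_eq_one₀ ha₀
  simp only [h2]

theorem fourier_inv1 (f : F → ℂ) (h : ∀ α : MulChar F ℂ, ∑ a : F, α a * f a = 0) (a₀ : F)
    (ha₀ : a₀ ≠ 0) : f a₀ = 0 := by
  have h1 : ∑ α : MulChar F ℂ, conj (α a₀) * ∑ a : F, α a * f a = 0 := by
    simp [h]
  simp_rw [Finset.mul_sum] at h1
  rw [Finset.sum_comm] at h1
  have h2 : ∀ a : F, ∑ α : MulChar F ℂ, conj (α a₀) * (α a * f a) =
      f a * if a = a₀ then (Fintype.card F : ℂ) - 1 else 0 := by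
    intro a
    rw [← mulChar_dual_orth a a₀ ha₀, Finset.mul_sum]
    exact Finset.sum_congr rfl fun α _ => by ring
  simp_rw [h2] at h1
  simp only [mul_ite, mul_zero, Finset.sum_ite_eq', Finset.mem_univ, if_true] at h1
  rcases mul_eq_zero.mp h1 with h3 | h3
  · exact h3
  · exact absurd h3 card_sub_one_ne_zero

theorem fourier_inv (T : F → F → ℂ)
    (h : ∀ α β : MulChar F ℂ, ∑ a : F, ∑ d : F, α a * β d * T a d = 0)
    (a₀ d₀ : F) (ha : a₀ ≠ 0) (hd : d₀ ≠ 0) : T a₀ d₀ = 0 := by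
  have h1 : ∀ β : MulChar F ℂ, ∑ d : F, β d * T a₀ d = 0 := by
    intro β
    apply fourier_inv1 (fun a => ∑ d : F, β d * T a d) _ a₀ ha
    intro α
    rw [← h α β]
    refine Finset.sum_congr rfl fun a _ => ?_
    rw [Finset.mul_sum]
    exact Finset.sum_congr rfl fun d _ => by ring
  exact fourier_inv1 (fun d => T a₀ d) h1 d₀ hd

end Dual

section Cusp

variable {F : Type*} [Field F] [Fintype F] [DecidableEq F]

omit [Fintype F] [DecidableEq F] in
theorem upperMk_eq (b : upperTriangularGL 2 F)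
    (h0 : ((b : GL (Fin 2) F) : Matrix (Fin 2) (Fin 2) F) 0 0 ≠ 0)
    (h1 : ((b : GL (Fin 2) F) : Matrix (Fin 2) (Fin 2) F) 1 1 ≠ 0) :
    upperMk (((b : GL (Fin 2) F) : Matrix (Fin 2) (Fin 2) F) 0 0)
      (((b : GL (Fin 2) F) : Matrix (Fin 2) (Fin 2) F) 1 1)
      (((b : GL (Fin 2) F) : Matrix (Fin 2) (Fin 2) F) 0 1) h0 h1 = b := by
  have hb := (mem_upperTriangularGL_iff _).mp b.2
  apply Subtype.ext
  apply Units.ext
  ext i j
  fin_cases i <;> fin_cases j
  · rfl
  · rfl
  · exact hb.symm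
  · rfl

omit [Fintype F] [DecidableEq F] in
theorem upperMk_coe (a d c : F) (ha : a ≠ 0) (hd : d ≠ 0) :
    (((upperMk a d c ha hd : upperTriangularGL 2 F) : GL (Fin 2) F) : Matrix (Fin 2) (Fin 2) F) =
      !![a, c; 0, d] := rfl

/-- For a cuspidal class function, the sum over each "row" of the Borel subgroup vanishes. -/
theorem cuspidal_sum (χ : GL (Fin 2) F → ℂ) (hcf : IsClassFunction (GL (Fin 2) F) χ)
    (hc : Cuspidal χ) (a d : F) (ha : a ≠ 0) (hd : d ≠ 0) :
    ∑ c : F, χ (upperMk a d c ha hd : upperTriangularGL 2 F) = 0 := by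
  classical
  let _ : Fintype (upperTriangularGL 2 F) := Fintype.ofFinite _
  let _ : Fintype (MulChar F ℂ) := Fintype.ofFinite _
  set K : F → F → F → ℂ := fun a d c =>
    if h : a ≠ 0 ∧ d ≠ 0 then conj (χ (upperMk a d c h.1 h.2 : upperTriangularGL 2 F)) else 0
    with hK
  have h1 : ∀ α β : MulChar F ℂ, ∑ a : F, ∑ d : F, α a * β d * ∑ c : F, K a d c = 0 := by
    intro α β
    have h2 := hc α β
    rw [show ps α β = indFun (upperTriangularGL 2 F) (theta α β) from rfl,
      frobenius _ _ _ hcf] at h2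
    unfold classInner at h2
    rcases mul_eq_zero.mp h2 with h3 | h3
    · exact absurd (inv_eq_zero.mp h3) card_ne_zero'
    · have h4 : ∀ b : upperTriangularGL 2 F, theta α β b * conj (χ (b : GL (Fin 2) F)) =
          (fun a d c => α a * β d * K a d c)
            (((b : GL (Fin 2) F) : Matrix (Fin 2) (Fin 2) F) 0 0)
            (((b : GL (Fin 2) F) : Matrix (Fin 2) (Fin 2) F) 1 1)
            (((b : GL (Fin 2) F) : Matrix (Fin 2) (Fin 2) F) 0 1) := by
        intro b
        obtain ⟨h0, h1⟩ := upper_entries_ne_zero b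
        simp only [hK, theta]
        rw [dif_pos ⟨h0, h1⟩, upperMk_eq b h0 h1]
      simp_rw [h4] at h3
      rw [sum_upper (fun a d c => α a * β d * K a d c) (by
        intro a d c h
        rcases h with h | h <;> simp [h, mulChar_zero])] at h3
      rw [← h3]
      refine Finset.sum_congr rfl fun a _ => ?_
      refine Finset.sum_congr rfl fun d _ => ?_
      rw [Finset.mul_sum]
  have h5 := fourier_inv (fun a d => ∑ c : F, K a d c) h1 a d ha hd
  simp only [hK, dif_pos (⟨ha, hd⟩ : a ≠ 0 ∧ d ≠ 0)] at h5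
  rw [← map_sum] at h5
  exact (map_eq_zero _).mp h5

omit [Fintype F] [DecidableEq F] in
theorem isConj_upperMk (a d c : F) (ha : a ≠ 0) (hd : d ≠ 0) (g : GL (Fin 2) F)
    (hns : NonScalar (!![a, c; 0, d] : Matrix (Fin 2) (Fin 2) F))
    (hg : NonScalar (g : Matrix (Fin 2) (Fin 2) F))
    (ht : (g : Matrix (Fin 2) (Fin 2) F).trace = a + d)
    (hdet : (g : Matrix (Fin 2) (Fin 2) F).det = a * d) :
    IsConj ((upperMk a d c ha hd : upperTriangularGL 2 F) : GL (Fin 2) F) g := by
  apply gl_isConj_of_nonScalar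
  · rw [upperMk_coe]
    exact hns
  · exact hg
  · rw [upperMk_coe, ht]
    simp [Matrix.trace_fin_two]
  · rw [upperMk_coe, hdet]
    simp [Matrix.det_fin_two]

/-- A cuspidal irreducible character vanishes at diagonal elements with distinct entries. -/
theorem cuspidal_diag (χ : GL (Fin 2) F → ℂ) (hχ : IsIrrCharacter (GL (Fin 2) F) χ)
    (hc : Cuspidal χ) (g : GL (Fin 2) F)
    (h01 : (g : Matrix (Fin 2) (Fin 2) F) 0 1 = 0) (h10 : (g : Matrix (Fin 2) (Fin 2) F) 1 0 = 0)
    (hne : (g : Matrix (Fin 2) (Fin 2) F) 0 0 ≠ (g : Matrix (Fin 2) (Fin 2) F) 1 1) : χ g = 0 := by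
  have hd := gl_det_eq g
  rw [h01, zero_mul, sub_zero] at hd
  have ha := left_ne_zero_of_mul hd
  have hd' := right_ne_zero_of_mul hd
  have hsum := cuspidal_sum χ (isClassFunction_irr ⟨χ, hχ⟩) hc _ _ ha hd'
  have h1 : ∀ c : F, χ (upperMk _ _ c ha hd' : upperTriangularGL 2 F) = χ g := by
    intro c
    apply irr_eq_of_isConj ⟨χ, hχ⟩
    apply isConj_upperMk
    · right; right
      simpa using hne
    · right; right
      exact hne
    · rw [Matrix.trace_fin_two]
    · rw [Matrix.det_fin_two, h01, zero_mul, sub_zero]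
  simp_rw [h1] at hsum
  rw [Finset.sum_const, Finset.card_univ, nsmul_eq_mul] at hsum
  rcases mul_eq_zero.mp hsum with h | h
  · exact absurd h card_ne_zero_F
  · exact h

/-- The value of a cuspidal irreducible character at a non-semisimple element. -/
theorem cuspidal_unipotent (χ : GL (Fin 2) F → ℂ) (hχ : IsIrrCharacter (GL (Fin 2) F) χ)
    (hc : Cuspidal χ) (g z : GL (Fin 2) F) (a : F)
    (hz : (z : Matrix (Fin 2) (Fin 2) F) = a • (1 : Matrix (Fin 2) (Fin 2) F))
    (h10 : (g : Matrix (Fin 2) (Fin 2) F) 1 0 = 0)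
    (h00 : (g : Matrix (Fin 2) (Fin 2) F) 0 0 = a) (h11 : (g : Matrix (Fin 2) (Fin 2) F) 1 1 = a)
    (h01 : (g : Matrix (Fin 2) (Fin 2) F) 0 1 ≠ 0) :
    χ z + ((Fintype.card F : ℂ) - 1) * χ g = 0 := by
  have hd := gl_det_eq g
  rw [h10, mul_zero, sub_zero, h00, h11] at hd
  have ha := left_ne_zero_of_mul hd
  have hsum := cuspidal_sum χ (isClassFunction_irr ⟨χ, hχ⟩) hc a a ha ha
  rw [← Finset.add_sum_erase Finset.univ _ (Finset.mem_univ (0 : F))] at hsum
  have h0 : ((upperMk a a 0 ha ha : upperTriangularGL 2 F) : GL (Fin 2) F) = z := by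
    apply Units.ext
    rw [upperMk_coe, hz]
    ext i j
    fin_cases i <;> fin_cases j <;> simp
  have h1 : ∀ c ∈ Finset.univ.erase (0 : F),
      χ (upperMk a a c ha ha : upperTriangularGL 2 F) = χ g := by
    intro c hc'
    have hc0 : c ≠ 0 := Finset.ne_of_mem_erase hc'
    apply irr_eq_of_isConj ⟨χ, hχ⟩
    apply isConj_upperMk
    · left
      simpa using hc0
    · left
      exact h01
    · rw [Matrix.trace_fin_two, h00, h11]
    · rw [Matrix.det_fin_two, h10, mul_zero, sub_zero, h00, h11]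
  rw [h0, Finset.sum_congr rfl h1, Finset.sum_const, Finset.card_erase_of_mem (Finset.mem_univ _),
    Finset.card_univ, nsmul_eq_mul, Nat.cast_sub Fintype.card_pos] at hsum
  simpa using hsum

/-- The element `[[1, 1], [0, 1]]` of `GL₂`. -/
def glU : GL (Fin 2) F :=
  ((upperMk 1 1 1 one_ne_zero one_ne_zero : upperTriangularGL 2 F) : GL (Fin 2) F)

omit [Fintype F] [DecidableEq F] in
theorem glU_coe : ((glU : GL (Fin 2) F) : Matrix (Fin 2) (Fin 2) F) = !![1, 1; 0, 1] := rfl

theorem cuspidal_glU (χ : GL (Fin 2) F → ℂ) (hχ : IsIrrCharacter (GL (Fin 2) F) χ)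
    (hc : Cuspidal χ) : χ 1 + ((Fintype.card F : ℂ) - 1) * χ glU = 0 := by
  apply cuspidal_unipotent χ hχ hc glU 1 1
  · simp
  · rw [glU_coe]; simp
  · rw [glU_coe]; simp
  · rw [glU_coe]; simp
  · rw [glU_coe]; simp

/-- The degree of a cuspidal irreducible character is divisible by `q - 1`. -/
theorem cuspidal_degree_dvd (χ : GL (Fin 2) F → ℂ) (hχ : IsIrrCharacter (GL (Fin 2) F) χ)
    (hc : Cuspidal χ) (n : ℕ) (hn : χ 1 = n) : Fintype.card F - 1 ∣ n := by
  have h := cuspidal_glU χ hχ hc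
  have hq1 := card_sub_one_ne_zero (F := F)
  have hint := irr_isIntegral ⟨χ, hχ⟩ glU
  have h2 : (n : ℂ) / ((Fintype.card F - 1 : ℕ) : ℂ) = - χ glU := by
    rw [Nat.cast_sub Fintype.card_pos, Nat.cast_one, ← hn]
    field_simp
    linear_combination h
  apply dvd_of_isIntegral_div
  · have : 1 < Fintype.card F := Fintype.one_lt_card
    omega
  · rw [h2]
    exact hint.neg

end Cusp

end Cfsg.Agent.Lib.Helper46
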