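import Cfsg.Agent.Lib.Helper46.GL2e
import Cfsg.Agent.S2330

set_option autoImplicit false

namespace Cfsg.Agent.Lib.Helper46

open Matrix Cfsg Cfsg.Agent.Lib.Helper4
open scoped ComplexConjugate

section Basic

variable {F : Type*} [Field F] [Fintype F] [DecidableEq F]

theorem ps_comm (α β : MulChar F ℂ) : ps α β = ps β α := by
  apply eq_of_classInner_sub
  rw [classInner_ps_ps, classInner_ps_ps, classInner_ps_ps, classInner_ps_ps]
  by_cases h4 : α = β
  · subst h4
    simp
  · have h5 : ¬ (α = β ∧ β = α) := fun h => h4 h.1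
    have h6 : ¬ (β = α ∧ α = β) := fun h => h4 h.2
    simp [h5, h6]

theorem ps_eq_iff (α β α' β' : MulChar F ℂ) :
    ps α β = ps α' β' ↔ (α = α' ∧ β = β') ∨ (α = β' ∧ β = α') := by
  constructor
  · intro h
    have h1 := classInner_ps_ps α β α' β'
    rw [← h, classInner_ps_ps] at h1
    by_contra hcon
    push Not at hcon
    have h2 : ¬ (α = α' ∧ β = β') := fun h => hcon.1 h.1 h.2
    have h3 : ¬ (α = β' ∧ β = α') := fun h => hcon.2 h.1 h.2
    rw [if_neg h2, if_neg h3, if_pos ⟨rfl, rfl⟩] at h1
    by_cases h4 : α = β ∧ β = α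
    · rw [if_pos h4] at h1
      norm_num at h1
    · rw [if_neg h4] at h1
      norm_num at h1
  · rintro (⟨rfl, rfl⟩ | ⟨rfl, rfl⟩)
    · rfl
    · exact ps_comm _ _

theorem ps_one (α β : MulChar F ℂ) : ps α β 1 = (Fintype.card F : ℂ) + 1 := by
  rw [ps_scalar α β 1 1 (by simp)]
  simp

theorem st_one (α : MulChar F ℂ) : st α 1 = (Fintype.card F : ℂ) := by
  unfold st
  rw [Pi.sub_apply, ps_one, detChar_one]
  ring

theorem classInner_ps_st (α β γ : MulChar F ℂ) :
    classInner (ps α β) (st γ) = if α = γ ∧ β = γ then 1 else 0 := by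
  unfold st
  rw [classInner_sub_right, classInner_ps_ps, classInner_ps_detChar]
  ring

theorem detChar_injective : Function.Injective (detChar (F := F)) := by
  intro α α' h
  have h1 := classInner_ps_detChar α α α'
  rw [← h, classInner_ps_detChar, if_pos ⟨rfl, rfl⟩] at h1
  by_contra hne
  rw [if_neg (fun h => hne h.1)] at h1
  exact one_ne_zero h1

theorem st_injective : Function.Injective (st (F := F)) := by
  intro α α' h
  have h1 := classInner_ps_st α α α'
  rw [← h, classInner_ps_st, if_pos ⟨rfl, rfl⟩] at h1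
  by_contra hne
  rw [if_neg (fun h => hne h.1)] at h1
  exact one_ne_zero h1

theorem not_cuspidal_detChar (α : MulChar F ℂ) : ¬ Cuspidal (detChar α) := by
  intro h
  have h1 := h α α
  rw [classInner_ps_detChar, if_pos ⟨rfl, rfl⟩] at h1
  exact one_ne_zero h1

theorem not_cuspidal_st (α : MulChar F ℂ) : ¬ Cuspidal (st α) := by
  intro h
  have h1 := h α α
  rw [classInner_ps_st, if_pos ⟨rfl, rfl⟩] at h1
  exact one_ne_zero h1

theorem not_cuspidal_ps (α β : MulChar F ℂ) : ¬ Cuspidal (ps α β) := by
  intro h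
  have h1 := h α β
  rw [classInner_ps_ps, if_pos ⟨rfl, rfl⟩] at h1
  by_cases h4 : α = β ∧ β = α
  · rw [if_pos h4] at h1
    norm_num at h1
  · rw [if_neg h4] at h1
    norm_num at h1

/-- The principal series as a function of the unordered pair of characters. -/
noncomputable def psSym : Sym2 (MulChar F ℂ) → (GL (Fin 2) F → ℂ) :=
  Sym2.lift ⟨fun α β => ps α β, ps_comm⟩

theorem psSym_mk (α β : MulChar F ℂ) : psSym s(α, β) = ps α β := rfl

theorem psSym_irr (s : Sym2 (MulChar F ℂ)) (hs : ¬ s.IsDiag) :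
    IsIrrCharacter (GL (Fin 2) F) (psSym s) := by
  induction s using Sym2.ind with
  | _ α β =>
    rw [psSym_mk]
    exact ps_irr α β (fun h => hs (Sym2.mk_isDiag_iff.mpr h))

theorem psSym_injective : Function.Injective (psSym (F := F)) := by
  intro s t h
  induction s using Sym2.ind with
  | _ α β =>
    induction t using Sym2.ind with
    | _ α' β' =>
      rw [psSym_mk, psSym_mk, ps_eq_iff] at h
      exact Sym2.eq_iff.mpr h

theorem psSym_one (s : Sym2 (MulChar F ℂ)) : psSym s 1 = (Fintype.card F : ℂ) + 1 := by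
  induction s using Sym2.ind with
  | _ α β => rw [psSym_mk, ps_one]

theorem not_cuspidal_psSym (s : Sym2 (MulChar F ℂ)) : ¬ Cuspidal (psSym s) := by
  induction s using Sym2.ind with
  | _ α β =>
    rw [psSym_mk]
    exact not_cuspidal_ps α β

end Basic

end Cfsg.Agent.Lib.Helper46
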