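import Cfsg.Agent.Lib.Helper46.GL2f

set_option autoImplicit false

namespace Cfsg.Agent.Lib.Helper46

open Matrix Cfsg Cfsg.Agent.Lib.Helper4
open scoped ComplexConjugate

section Count

open scoped Classical

variable {F : Type*} [Field F] [Fintype F]

omit [Fintype F] in
theorem card_ne_one_F [Fintype F] : (Fintype.card F : ℂ) ≠ 1 := by
  intro h
  exact card_sub_one_ne_zero (F := F) (by rw [h, sub_self])

/-- The index type of the non-cuspidal irreducible characters. -/
abbrev NC (F : Type*) [Field F] : Type _ :=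
  MulChar F ℂ ⊕ (MulChar F ℂ ⊕ {s : Sym2 (MulChar F ℂ) // ¬ s.IsDiag})

/-- The non-cuspidal irreducible characters. -/
noncomputable def ncMap : NC F → IrrCharacter (GL (Fin 2) F)
  | Sum.inl α => ⟨detChar α, detChar_irr α⟩
  | Sum.inr (Sum.inl α) => ⟨st α, st_irr α⟩
  | Sum.inr (Sum.inr s) => ⟨psSym s.1, psSym_irr s.1 s.2⟩

theorem ncMap_injective : Function.Injective (ncMap (F := F)) := by
  have hq := card_ne_zero_F (F := F)
  have hq1 := card_ne_one_F (F := F)
  rintro (α | α | s) (α' | α' | s') h
  · exact congrArg Sum.inl (detChar_injective (congrArg Subtype.val h))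
  · exfalso
    have h1 := congrFun (congrArg Subtype.val h) 1
    simp only [ncMap] at h1
    rw [detChar_one, st_one] at h1
    exact hq1 h1.symm
  · exfalso
    have h1 := congrFun (congrArg Subtype.val h) 1
    simp only [ncMap] at h1
    rw [detChar_one, psSym_one] at h1
    exact hq (by linear_combination -h1)
  · exfalso
    have h1 := congrFun (congrArg Subtype.val h) 1
    simp only [ncMap] at h1
    rw [detChar_one, st_one] at h1
    exact hq1 h1
  · exact congrArg (Sum.inr ∘ Sum.inl) (st_injective (congrArg Subtype.val h))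
  · exfalso
    have h1 := congrFun (congrArg Subtype.val h) 1
    simp only [ncMap] at h1
    rw [st_one, psSym_one] at h1
    exact one_ne_zero (by linear_combination -h1 : (1 : ℂ) = 0)
  · exfalso
    have h1 := congrFun (congrArg Subtype.val h) 1
    simp only [ncMap] at h1
    rw [detChar_one, psSym_one] at h1
    exact hq (by linear_combination h1)
  · exfalso
    have h1 := congrFun (congrArg Subtype.val h) 1
    simp only [ncMap] at h1
    rw [st_one, psSym_one] at h1
    exact one_ne_zero (by linear_combination h1 : (1 : ℂ) = 0)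
  · exact congrArg (Sum.inr ∘ Sum.inr) (Subtype.ext (psSym_injective (congrArg Subtype.val h)))

theorem ncMap_not_cuspidal (t : NC F) : ¬ Cuspidal ((ncMap t : IrrCharacter (GL (Fin 2) F)) :
    GL (Fin 2) F → ℂ) := by
  rcases t with α | α | s
  · exact not_cuspidal_detChar α
  · exact not_cuspidal_st α
  · exact not_cuspidal_psSym s.1

theorem exists_ncMap (χ : IrrCharacter (GL (Fin 2) F))
    (h : ¬ Cuspidal (χ : GL (Fin 2) F → ℂ)) : ∃ t : NC F, ncMap t = χ := by
  rcases gl2_classification χ.1 χ.2 with ⟨α, hα⟩ | ⟨α, hα⟩ | ⟨α, β, hne, hαβ⟩ | hc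
  · exact ⟨Sum.inl α, Subtype.ext hα.symm⟩
  · exact ⟨Sum.inr (Sum.inl α), Subtype.ext hα.symm⟩
  · exact ⟨Sum.inr (Sum.inr ⟨s(α, β), fun hd => hne (Sym2.mk_isDiag_iff.mp hd)⟩),
      Subtype.ext hαβ.symm⟩
  · exact absurd hc h

variable [Fintype (IrrCharacter (GL (Fin 2) F))] [Fintype (MulChar F ℂ)]

/-- Splitting a sum over the irreducible characters of `GL₂`. -/
theorem sum_irr_split {A : Type*} [AddCommMonoid A] (f : IrrCharacter (GL (Fin 2) F) → A) :
    ∑ χ, f χ = ∑ t : NC F, f (ncMap t) +
      ∑ χ ∈ Finset.univ.filter (fun χ : IrrCharacter (GL (Fin 2) F) =>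
        Cuspidal (χ : GL (Fin 2) F → ℂ)), f χ := by
  rw [← Finset.sum_filter_not_add_sum_filter Finset.univ
    (fun χ : IrrCharacter (GL (Fin 2) F) => Cuspidal (χ : GL (Fin 2) F → ℂ)) f]
  congr 1
  have himg : Finset.univ.filter (fun χ : IrrCharacter (GL (Fin 2) F) =>
      ¬ Cuspidal (χ : GL (Fin 2) F → ℂ)) = Finset.univ.image (ncMap (F := F)) := by
    ext χ
    simp only [Finset.mem_filter, Finset.mem_univ, true_and, Finset.mem_image]
    constructor
    · exact exists_ncMap χ
    · rintro ⟨t, rfl⟩
      exact ncMap_not_cuspidal t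
  rw [himg, Finset.sum_image (fun x _ y _ h => ncMap_injective h)]

end Count

end Cfsg.Agent.Lib.Helper46
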