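import Cfsg.Agent.Lib.Helper46.GL2g

set_option autoImplicit false

namespace Cfsg.Agent.Lib.Helper46

open Matrix Cfsg Cfsg.Agent.Lib.Helper4
open scoped ComplexConjugate

section Deg

variable {G : Type*} [Group G]

/-- The degree of an irreducible character, as a natural number. -/
noncomputable def deg (χ : IrrCharacter G) : ℕ := Classical.choose (irr_one_nat χ)

theorem deg_pos (χ : IrrCharacter G) : 0 < deg χ := (Classical.choose_spec (irr_one_nat χ)).1

theorem deg_spec (χ : IrrCharacter G) : (χ : G → ℂ) 1 = (deg χ : ℂ) :=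
  (Classical.choose_spec (irr_one_nat χ)).2

theorem deg_eq (χ : IrrCharacter G) (n : ℕ) (h : (χ : G → ℂ) 1 = (n : ℂ)) : deg χ = n := by
  rw [deg_spec] at h
  exact Nat.cast_injective h

theorem sum_deg_sq [Fintype G] [Fintype (IrrCharacter G)] :
    ∑ χ : IrrCharacter G, deg χ ^ 2 = Nat.card G := by
  have h := sum_sq_irr (G := G)
  simp_rw [deg_spec] at h
  exact_mod_cast h

end Deg

section Count

open scoped Classical

variable {F : Type*} [Field F] [Fintype F]
  [Fintype (IrrCharacter (GL (Fin 2) F))] [Fintype (MulChar F ℂ)]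

theorem deg_ncMap_inl (α : MulChar F ℂ) : deg (ncMap (Sum.inl α : NC F)) = 1 :=
  deg_eq _ 1 (by simp [ncMap, detChar_one])

theorem deg_ncMap_inr_inl (α : MulChar F ℂ) :
    deg (ncMap (Sum.inr (Sum.inl α) : NC F)) = Fintype.card F :=
  deg_eq _ _ (by simp [ncMap, st_one])

theorem deg_ncMap_inr_inr (s : {s : Sym2 (MulChar F ℂ) // ¬ s.IsDiag}) :
    deg (ncMap (Sum.inr (Sum.inr s) : NC F)) = Fintype.card F + 1 :=
  deg_eq _ _ (by simp [ncMap, psSym_one])

/-- The set of cuspidal irreducible characters. -/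
noncomputable def cusp (F : Type*) [Field F] [Fintype F]
    [Fintype (IrrCharacter (GL (Fin 2) F))] : Finset (IrrCharacter (GL (Fin 2) F)) :=
  Finset.univ.filter (fun χ : IrrCharacter (GL (Fin 2) F) => Cuspidal (χ : GL (Fin 2) F → ℂ))

theorem mem_cusp (χ : IrrCharacter (GL (Fin 2) F)) :
    χ ∈ cusp F ↔ Cuspidal (χ : GL (Fin 2) F → ℂ) := by
  simp [cusp]

theorem card_irr_gl2 : Fintype.card (IrrCharacter (GL (Fin 2) F)) = Fintype.card F ^ 2 - 1 := by
  rw [← Nat.card_eq_fintype_card, card_irr, Cfsg.Agent.S2330.result]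

theorem card_gl2 : Nat.card (GL (Fin 2) F) =
    (Fintype.card F ^ 2 - 1) * (Fintype.card F ^ 2 - Fintype.card F) := by
  rw [Matrix.card_GL_field, Fin.prod_univ_two]
  simp

/-- Counting identity for the cuspidal characters. -/
theorem count_eq (m : ℕ) (hm : Fintype.card F = m + 2) :
    m ^ 2 + 4 * m + 3 = (m + 1) + (m + 1) + (m + 1).choose 2 + (cusp F).card := by
  have h := sum_irr_split (F := F) (fun _ => (1 : ℕ))
  have hM : Fintype.card (MulChar F ℂ) = m + 1 := by
    rw [card_mulChar, hm]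
    rfl
  simp only [Finset.sum_const, Finset.card_univ, smul_eq_mul, mul_one, Fintype.card_sum,
    Sym2.card_subtype_not_diag, hM, card_irr_gl2, hm] at h
  have e : (m + 2) ^ 2 - 1 = m ^ 2 + 4 * m + 3 := by
    have : (m + 2) ^ 2 = m ^ 2 + 4 * m + 3 + 1 := by ring
    omega
  rw [e] at h
  rw [h]
  unfold cusp
  ring

/-- Sum of squares identity for the cuspidal characters. -/
theorem sq_eq (m : ℕ) (hm : Fintype.card F = m + 2) :
    (m ^ 2 + 4 * m + 3) * (m ^ 2 + 3 * m + 2) =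
      (m + 1) + (m + 1) * (m + 2) ^ 2 + (m + 1).choose 2 * (m + 3) ^ 2 +
        ∑ χ ∈ cusp F, deg χ ^ 2 := by
  have h := sum_irr_split (F := F) (fun χ => deg χ ^ 2)
  have hM : Fintype.card (MulChar F ℂ) = m + 1 := by
    rw [card_mulChar, hm]
    rfl
  rw [sum_deg_sq, card_gl2, hm, Fintype.sum_sum_type, Fintype.sum_sum_type] at h
  simp only [deg_ncMap_inl, deg_ncMap_inr_inl, deg_ncMap_inr_inr, Finset.sum_const,
    Finset.card_univ, smul_eq_mul, mul_one, one_pow,
    Sym2.card_subtype_not_diag, hM, hm] at h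
  have e : (m + 2) ^ 2 - 1 = m ^ 2 + 4 * m + 3 := by
    have : (m + 2) ^ 2 = m ^ 2 + 4 * m + 3 + 1 := by ring
    omega
  have e2 : (m + 2) ^ 2 - (m + 2) = m ^ 2 + 3 * m + 2 := by
    have : (m + 2) ^ 2 = m ^ 2 + 3 * m + 2 + (m + 2) := by ring
    omega
  rw [e, e2] at h
  rw [h]
  unfold cusp
  ring

theorem two_mul_choose (m : ℕ) : 2 * (m + 1).choose 2 = m * (m + 1) := by
  have := Nat.add_one_mul_choose_eq m 1
  simp only [Nat.choose_one_right] at this
  linarith

/-- Every cuspidal irreducible character has degree `q - 1`. -/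
theorem deg_cusp (χ : IrrCharacter (GL (Fin 2) F)) (hχ : χ ∈ cusp F) :
    deg χ = Fintype.card F - 1 := by
  obtain ⟨m, hm⟩ : ∃ m, Fintype.card F = m + 2 :=
    ⟨Fintype.card F - 2, by have : 1 < Fintype.card F := Fintype.one_lt_card; omega⟩
  have h1 := count_eq m hm
  have h2 := sq_eq m hm
  have h3 := two_mul_choose m
  have hle : ∀ χ ∈ cusp F, (m + 1) ^ 2 ≤ deg χ ^ 2 := by
    intro χ hχ
    have hd := cuspidal_degree_dvd χ.1 χ.2 ((mem_cusp χ).mp hχ) (deg χ) (deg_spec χ)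
    rw [hm] at hd
    have : m + 1 ≤ deg χ := Nat.le_of_dvd (deg_pos χ) hd
    exact Nat.pow_le_pow_left this 2
  have hsum : ∑ χ ∈ cusp F, (m + 1) ^ 2 = ∑ χ ∈ cusp F, deg χ ^ 2 := by
    rw [Finset.sum_const, smul_eq_mul]
    have h1' : ((m : ℤ) ^ 2 + 4 * m + 3) = (m + 1) + (m + 1) + ((m + 1).choose 2 : ℕ) +
        ((cusp F).card : ℕ) := by exact_mod_cast h1
    have h2' : ((m : ℤ) ^ 2 + 4 * m + 3) * (m ^ 2 + 3 * m + 2) =
        (m + 1) + (m + 1) * (m + 2) ^ 2 + ((m + 1).choose 2 : ℕ) * (m + 3) ^ 2 +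
          ((∑ χ ∈ cusp F, deg χ ^ 2 : ℕ) : ℤ) := by exact_mod_cast h2
    have h3' : (2 : ℤ) * ((m + 1).choose 2 : ℕ) = m * (m + 1) := by exact_mod_cast h3
    have goal : (((cusp F).card : ℕ) : ℤ) * (m + 1) ^ 2 =
        ((∑ χ ∈ cusp F, deg χ ^ 2 : ℕ) : ℤ) := by
      linear_combination (-(m + 1 : ℤ) ^ 2) * h1' + h2' + 2 * (m + 2 : ℤ) * h3'
    exact_mod_cast goal
  have heq := (Finset.sum_eq_sum_iff_of_le hle).mp hsum χ hχ
  have : deg χ = m + 1 := by
    have := Nat.pow_left_injective (n := 2) (by norm_num) heq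
    exact this.symm
  rw [this, hm]
  rfl

end Count

end Cfsg.Agent.Lib.Helper46
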