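import Cfsg.Agent.Lib.Helper46.GL2h

set_option autoImplicit false

namespace Cfsg.Agent.Lib.Helper46

open Matrix Cfsg Cfsg.Agent.Lib.Helper4
open scoped ComplexConjugate

section Final

open scoped Classical

variable {F : Type*} [Field F] [Fintype F]

/-- The classification of the irreducible characters of `GL₂(F)`, with the degree of the
cuspidal ones. -/
theorem gl2_irr_cases (χ : GL (Fin 2) F → ℂ) (hχ : IsIrrCharacter (GL (Fin 2) F) χ) :
    (∃ α : MulChar F ℂ, χ = detChar α) ∨ (∃ α : MulChar F ℂ, χ = st α) ∨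
      (∃ α β : MulChar F ℂ, α ≠ β ∧ χ = ps α β) ∨
      (Cuspidal χ ∧ χ 1 = (Fintype.card F : ℂ) - 1) := by
  have := irr_finite (G := GL (Fin 2) F)
  let _ : Fintype (IrrCharacter (GL (Fin 2) F)) := Fintype.ofFinite _
  let _ : Fintype (MulChar F ℂ) := Fintype.ofFinite _
  rcases gl2_classification χ hχ with h | h | h | h
  · exact Or.inl h
  · exact Or.inr (Or.inl h)
  · exact Or.inr (Or.inr (Or.inl h))
  · refine Or.inr (Or.inr (Or.inr ⟨h, ?_⟩))
    have h1 := deg_cusp (⟨χ, hχ⟩ : IrrCharacter (GL (Fin 2) F)) ((mem_cusp _).mpr h)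
    have h2 := deg_spec (⟨χ, hχ⟩ : IrrCharacter (GL (Fin 2) F))
    rw [h1, Nat.cast_sub Fintype.card_pos, Nat.cast_one] at h2
    exact h2

variable [Fintype (IrrCharacter (GL (Fin 2) F))] [Fintype (MulChar F ℂ)]

/-- The number of irreducible characters of `GL₂(F)` of a given degree. -/
theorem card_deg_eq (m : ℕ) (hm : Fintype.card F = m + 2) (d : ℕ) :
    (Finset.univ.filter (fun χ : IrrCharacter (GL (Fin 2) F) => deg χ = d)).card =
      (if 1 = d then m + 1 else 0) + ((if m + 2 = d then m + 1 else 0) +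
        (if m + 3 = d then (m + 1).choose 2 else 0)) +
        (if m + 1 = d then (cusp F).card else 0) := by
  have hM : Fintype.card (MulChar F ℂ) = m + 1 := by
    rw [card_mulChar, hm]
    rfl
  rw [Finset.card_filter, sum_irr_split, Fintype.sum_sum_type, Fintype.sum_sum_type]
  simp only [deg_ncMap_inl, deg_ncMap_inr_inl, deg_ncMap_inr_inr, hm]
  simp only [Finset.sum_const, Finset.card_univ, smul_eq_mul, Sym2.card_subtype_not_diag, hM]
  congr 1
  · congr 1
    · split_ifs <;> simp
    · congr 1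
      · split_ifs <;> simp
      · split_ifs <;> simp
  · have h1 : ∀ χ ∈ cusp F, (if deg χ = d then 1 else 0) = if m + 1 = d then 1 else 0 := by
      intro χ hχ
      rw [deg_cusp χ hχ, hm]
      rfl
    show ∑ χ ∈ cusp F, (if deg χ = d then 1 else 0) = _
    rw [Finset.sum_congr rfl h1, Finset.sum_const, smul_eq_mul]
    split_ifs <;> simp

theorem two_mul_card_cusp (m : ℕ) (hm : Fintype.card F = m + 2) :
    2 * (cusp F).card = (m + 1) * (m + 2) := by
  have h1 := count_eq m hm
  have h3 := two_mul_choose m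
  nlinarith

omit [Fintype (MulChar F ℂ)] in
theorem natCard_deg (d : ℕ) :
    Nat.card {χ : IrrCharacter (GL (Fin 2) F) // (χ : GL (Fin 2) F → ℂ) 1 = (d : ℂ)} =
      (Finset.univ.filter (fun χ : IrrCharacter (GL (Fin 2) F) => deg χ = d)).card := by
  rw [Nat.card_eq_fintype_card, Fintype.card_subtype]
  congr 1
  ext χ
  simp only [Finset.mem_filter, Finset.mem_univ, true_and]
  rw [deg_spec]
  exact Nat.cast_inj

end Final

end Cfsg.Agent.Lib.Helper46
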