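import Cfsg.Agent.Lib.Helper46.GL2i

set_option autoImplicit false

namespace Cfsg.Agent.Lib.Helper46

open Matrix Cfsg Cfsg.Agent.Lib.Helper4
open scoped ComplexConjugate

section Vals

open scoped Classical

variable {F : Type*} [Field F] [Fintype F]

theorem mulChar_norm (α : MulChar F ℂ) {a : F} (ha : a ≠ 0) : ‖α a‖ = 1 := by
  have h1 : α a ^ (Fintype.card F - 1) = 1 := by
    rw [← map_pow, FiniteField.pow_card_sub_one_eq_one a ha, map_one]
  apply Complex.norm_eq_one_of_pow_eq_one h1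
  have : 1 < Fintype.card F := Fintype.one_lt_card
  omega

theorem eq_of_card_two (h : Fintype.card F = 2) {a b : F} (ha : a ≠ 0) (hb : b ≠ 0) : a = b := by
  have h1 : Fintype.card Fˣ = 1 := by rw [Fintype.card_units, h]
  have h2 : Subsingleton Fˣ := Fintype.card_le_one_iff_subsingleton.mp h1.le
  have h3 : Units.mk0 a ha = Units.mk0 b hb := Subsingleton.elim _ _
  exact congrArg Units.val h3

theorem card_eq_two_of_cast (h : (1 : ℂ) = (Fintype.card F : ℂ) - 1) : Fintype.card F = 2 := by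
  have h1 : ((2 : ℕ) : ℂ) = (Fintype.card F : ℂ) := by
    push_cast
    linear_combination h
  exact (Nat.cast_injective h1).symm

theorem detChar_glU (α : MulChar F ℂ) : detChar α (glU : GL (Fin 2) F) = 1 := by
  unfold detChar
  rw [glU_coe]
  simp [Matrix.det_fin_two]

theorem ps_glU (α β : MulChar F ℂ) : ps α β (glU : GL (Fin 2) F) = 1 := by
  rw [ps_unipotent α β glU (by rw [glU_coe]; simp) (by rw [glU_coe]; simp)
    (by rw [glU_coe]; simp), glU_coe]
  simp

theorem st_glU (α : MulChar F ℂ) : st α (glU : GL (Fin 2) F) = 0 := by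
  unfold st
  rw [Pi.sub_apply, ps_glU, detChar_glU, sub_self]

theorem cusp_glU (χ : GL (Fin 2) F → ℂ) (hχ : IsIrrCharacter (GL (Fin 2) F) χ) (hc : Cuspidal χ)
    (h1 : χ 1 = (Fintype.card F : ℂ) - 1) : χ (glU : GL (Fin 2) F) = -1 := by
  have h := cuspidal_glU χ hχ hc
  rw [h1] at h
  have hq1 := card_sub_one_ne_zero (F := F)
  have h2 : ((Fintype.card F : ℂ) - 1) * (χ glU + 1) = 0 := by linear_combination h
  rcases mul_eq_zero.mp h2 with h3 | h3
  · exact absurd h3 hq1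
  · linear_combination h3

theorem st_diag (α : MulChar F ℂ) (g : GL (Fin 2) F)
    (h01 : (g : Matrix (Fin 2) (Fin 2) F) 0 1 = 0) (h10 : (g : Matrix (Fin 2) (Fin 2) F) 1 0 = 0)
    (hne : (g : Matrix (Fin 2) (Fin 2) F) 0 0 ≠ (g : Matrix (Fin 2) (Fin 2) F) 1 1) :
    st α g = α ((g : Matrix (Fin 2) (Fin 2) F) 0 0) * α ((g : Matrix (Fin 2) (Fin 2) F) 1 1) := by
  unfold st
  rw [Pi.sub_apply, ps_diag α α g h01 h10 hne]
  unfold detChar
  rw [Matrix.det_fin_two, h01, zero_mul, sub_zero, map_mul]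
  ring

theorem st_elliptic (α : MulChar F ℂ) (g : GL (Fin 2) F)
    (hg : ∀ (c : F) (v : Fin 2 → F), v ≠ 0 → (g : Matrix (Fin 2) (Fin 2) F).mulVec v ≠ c • v) :
    st α g = - α ((g : Matrix (Fin 2) (Fin 2) F).det) := by
  unfold st
  rw [Pi.sub_apply, ps_elliptic α α g hg, zero_sub]
  rfl

theorem st_unipotent (α : MulChar F ℂ) (g : GL (Fin 2) F)
    (h10 : (g : Matrix (Fin 2) (Fin 2) F) 1 0 = 0)
    (heq : (g : Matrix (Fin 2) (Fin 2) F) 0 0 = (g : Matrix (Fin 2) (Fin 2) F) 1 1)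
    (h01 : (g : Matrix (Fin 2) (Fin 2) F) 0 1 ≠ 0) : st α g = 0 := by
  unfold st
  rw [Pi.sub_apply, ps_unipotent α α g h10 heq h01]
  unfold detChar
  rw [Matrix.det_fin_two, h10, mul_zero, sub_zero, ← heq, map_mul, sub_self]

end Vals

end Cfsg.Agent.Lib.Helper46
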