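import Cfsg.Agent.Lib.Helper46.Mat2

set_option autoImplicit false

namespace Cfsg.Agent.Lib.Helper46

open Matrix

theorem card_centralizer_mul_card_carrier {G : Type*} [Group G] (g : G) :
    Nat.card (Subgroup.centralizer ({g} : Set G)) * Nat.card (ConjClasses.mk g).carrier =
      Nat.card G := by
  rw [Subgroup.nat_card_centralizer_nat_card_stabilizer, ← ConjAct.orbit_eq_carrier_conjClasses,
    Nat.card_coe_set_eq, ← MulAction.index_stabilizer, Subgroup.card_mul_index]
  rfl

variable {F : Type*} [Field F]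

/-- The upper unitriangular element of `SL₂` with off-diagonal entry `b`. -/
def slU (b : F) : SpecialLinearGroup (Fin 2) F := ⟨!![1, b; 0, 1], by simp [det_fin_two_of]⟩

theorem slU_coe (b : F) :
    ((slU b : SpecialLinearGroup (Fin 2) F) : Matrix (Fin 2) (Fin 2) F) = !![1, b; 0, 1] := rfl

theorem slU_eq (g : SpecialLinearGroup (Fin 2) F) (h00 : (g : Matrix (Fin 2) (Fin 2) F) 0 0 = 1)
    (h11 : (g : Matrix (Fin 2) (Fin 2) F) 1 1 = 1) (h10 : (g : Matrix (Fin 2) (Fin 2) F) 1 0 = 0) :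
    g = slU ((g : Matrix (Fin 2) (Fin 2) F) 0 1) := by
  apply Subtype.ext
  rw [slU_coe]
  ext i j
  fin_cases i <;> fin_cases j <;> simp [h00, h11, h10]

theorem trace_slU (b : F) :
    ((slU b : SpecialLinearGroup (Fin 2) F) : Matrix (Fin 2) (Fin 2) F).trace = 2 := by
  simp [slU_coe, Matrix.trace_fin_two]
  norm_num

theorem slU_ne_one (b : F) (hb : b ≠ 0) : slU b ≠ 1 := by
  intro h
  have := congrArg (fun z : SpecialLinearGroup (Fin 2) F => (z : Matrix (Fin 2) (Fin 2) F) 0 1) h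
  simp [slU_coe] at this
  exact hb this

theorem rep_slU (b s : F) :
    Rep ((slU b : SpecialLinearGroup (Fin 2) F) : Matrix (Fin 2) (Fin 2) F) (-b * s ^ 2) :=
  ⟨0, s, by simp [qf, slU_coe]⟩

theorem rep_slU_iff (b e : F) :
    Rep ((slU b : SpecialLinearGroup (Fin 2) F) : Matrix (Fin 2) (Fin 2) F) e ↔
      ∃ s : F, e = -b * s ^ 2 := by
  constructor
  · rintro ⟨v0, v1, hv⟩
    refine ⟨v1, ?_⟩
    rw [← hv]
    simp [qf, slU_coe]
  · rintro ⟨s, rfl⟩
    exact rep_slU b s

theorem orderOf_eq_of_trace (p : ℕ) [Fact p.Prime] [CharP F p] (g : SpecialLinearGroup (Fin 2) F)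
    (ht : (g : Matrix (Fin 2) (Fin 2) F).trace = 2) (h1 : g ≠ 1) : orderOf g = p := by
  apply orderOf_eq_prime
  · apply Subtype.ext
    have := pow_char_of_trace_det p (g : Matrix (Fin 2) (Fin 2) F) ht g.det_coe
    simpa using this
  · exact h1

theorem trace_of_orderOf (p : ℕ) [Fact p.Prime] [CharP F p] (g : SpecialLinearGroup (Fin 2) F)
    (hg : orderOf g = p) :
    (g : Matrix (Fin 2) (Fin 2) F).trace = 2 ∧ NonScalar (g : Matrix (Fin 2) (Fin 2) F) := by
  have hgp : g ^ p = 1 := by rw [← hg]; exact pow_orderOf_eq_one g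
  have hg1 : g ≠ 1 := by
    rintro rfl
    rw [orderOf_one] at hg
    exact (Fact.out : p.Prime).ne_one hg.symm
  have hM : (g : Matrix (Fin 2) (Fin 2) F) ^ p = 1 := by
    have := congrArg (fun z : SpecialLinearGroup (Fin 2) F => (z : Matrix (Fin 2) (Fin 2) F)) hgp
    simpa using this
  obtain ⟨ht, hd⟩ := trace_det_of_pow_char p _ hM
  exact ⟨ht, nonScalar_of_trace_det _ ht hd (fun h => hg1 (Subtype.ext h))⟩

/-- Every element of order `p` of `SL₂` is conjugate to an upper unitriangular one. -/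
theorem exists_isConj_slU (p : ℕ) [Fact p.Prime] [CharP F p] (g : SpecialLinearGroup (Fin 2) F)
    (hg : orderOf g = p) : ∃ b : F, b ≠ 0 ∧ IsConj g (slU b) := by
  obtain ⟨ht, hn⟩ := trace_of_orderOf p g hg
  obtain ⟨v0, v1, hv⟩ := exists_qf_ne_zero _ hn
  refine ⟨-qf (g : Matrix (Fin 2) (Fin 2) F) v0 v1, neg_ne_zero.mpr hv, ?_⟩
  apply sl_isConj_of_rep g _ _ hv (by rw [ht, trace_slU]) ⟨v0, v1, rfl⟩
  have := rep_slU (-qf (g : Matrix (Fin 2) (Fin 2) F) v0 v1) 1
  simpa using this

theorem slU_isConj_iff (b b' : F) (hb : b ≠ 0) (hb' : b' ≠ 0) :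
    IsConj (slU b) (slU b') ↔ IsSquare (b * b') := by
  constructor
  · intro hc
    have h1 : Rep ((slU b' : SpecialLinearGroup (Fin 2) F) : Matrix (Fin 2) (Fin 2) F) (-b) := by
      apply rep_of_isConj hc
      have := rep_slU b 1
      simpa using this
    obtain ⟨s, hs⟩ := (rep_slU_iff b' (-b)).mp h1
    refine ⟨b' * s, ?_⟩
    have : b = b' * s ^ 2 := by linear_combination -hs
    rw [this]
    ring
  · rintro ⟨r, hr⟩
    apply sl_isConj_of_rep (slU b) (slU b') (-b') (neg_ne_zero.mpr hb') (by rw [trace_slU, trace_slU])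
    · rw [rep_slU_iff]
      refine ⟨r / b, ?_⟩
      have h2 : (r / b) ^ 2 = b' / b := by
        rw [div_pow, sq r, ← hr]
        field_simp
      rw [h2]
      field_simp
    · have := rep_slU b' 1
      simpa using this

theorem mem_centralizer_slU (b : F) (hb : b ≠ 0) (h : SpecialLinearGroup (Fin 2) F) :
    h ∈ Subgroup.centralizer ({slU b} : Set (SpecialLinearGroup (Fin 2) F)) ↔
      (h : Matrix (Fin 2) (Fin 2) F) 1 0 = 0 ∧
        (h : Matrix (Fin 2) (Fin 2) F) 0 0 = (h : Matrix (Fin 2) (Fin 2) F) 1 1 := by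
  rw [Subgroup.mem_centralizer_iff]
  simp only [Set.mem_singleton_iff, forall_eq]
  constructor
  · intro hc
    have e := congrArg (fun z : SpecialLinearGroup (Fin 2) F => (z : Matrix (Fin 2) (Fin 2) F)) hc
    simp only [Matrix.SpecialLinearGroup.coe_mul, slU_coe] at e
    have e00 := congrFun (congrFun e 0) 0
    have e01 := congrFun (congrFun e 0) 1
    simp [Matrix.mul_apply, Fin.sum_univ_two] at e00 e01
    have h10 : (h : Matrix (Fin 2) (Fin 2) F) 1 0 = 0 := by
      rcases e00 with h | h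
      · exact absurd h hb
      · exact h
    refine ⟨h10, ?_⟩
    have : b * ((h : Matrix (Fin 2) (Fin 2) F) 0 0 - (h : Matrix (Fin 2) (Fin 2) F) 1 1) = 0 := by
      linear_combination -e01
    rcases mul_eq_zero.mp this with h | h
    · exact absurd h hb
    · exact sub_eq_zero.mp h
  · rintro ⟨h10, h00⟩
    apply Subtype.ext
    show (slU b : Matrix (Fin 2) (Fin 2) F) * (h : Matrix (Fin 2) (Fin 2) F) =
      (h : Matrix (Fin 2) (Fin 2) F) * (slU b : Matrix (Fin 2) (Fin 2) F)
    rw [slU_coe]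
    ext i j
    fin_cases i <;> fin_cases j <;> simp [Matrix.mul_apply, Fin.sum_univ_two, h10, h00]
    ring

theorem card_centralizer_slU [Fintype F] (b : F) (hb : b ≠ 0) :
    Nat.card (Subgroup.centralizer ({slU b} : Set (SpecialLinearGroup (Fin 2) F))) =
      Nat.card {a : F // a ^ 2 = 1} * Fintype.card F := by
  classical
  let f : {a : F // a ^ 2 = 1} × F → SpecialLinearGroup (Fin 2) F := fun x =>
    ⟨!![(x.1 : F), x.2; 0, (x.1 : F)], by
      rw [det_fin_two_of, mul_zero, sub_zero, ← sq]; exact x.1.2⟩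
  have hf : ∀ x, ((f x : SpecialLinearGroup (Fin 2) F) : Matrix (Fin 2) (Fin 2) F) =
      !![(x.1 : F), x.2; 0, (x.1 : F)] := fun x => rfl
  have hinj : Function.Injective f := by
    rintro ⟨⟨a, ha⟩, β⟩ ⟨⟨a', ha'⟩, β'⟩ hxy
    have e := congrArg (fun z : SpecialLinearGroup (Fin 2) F => (z : Matrix (Fin 2) (Fin 2) F)) hxy
    simp only [hf] at e
    have e00 := congrFun (congrFun e 0) 0
    have e01 := congrFun (congrFun e 0) 1
    simp at e00 e01
    subst e00
    subst e01
    rfl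
  have hrange : Set.range f =
      (Subgroup.centralizer ({slU b} : Set (SpecialLinearGroup (Fin 2) F)) :
        Set (SpecialLinearGroup (Fin 2) F)) := by
    ext h
    simp only [Set.mem_range, SetLike.mem_coe, mem_centralizer_slU b hb]
    constructor
    · rintro ⟨x, rfl⟩
      simp [hf]
    · rintro ⟨h10, h00⟩
      have hd := h.det_coe
      rw [det_fin_two, h10, mul_zero, sub_zero, ← h00, ← sq] at hd
      refine ⟨(⟨(h : Matrix (Fin 2) (Fin 2) F) 0 0, hd⟩, (h : Matrix (Fin 2) (Fin 2) F) 0 1), ?_⟩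
      apply Subtype.ext
      rw [hf]
      ext i j
      fin_cases i <;> fin_cases j <;> simp [h10, h00]
  have hc : Nat.card (Subgroup.centralizer ({slU b} : Set (SpecialLinearGroup (Fin 2) F))) =
      Nat.card (Set.range f) := (Nat.card_congr (Equiv.setCongr hrange)).symm
  rw [hc, Nat.card_range_of_injective hinj, Nat.card_prod, Nat.card_eq_fintype_card (α := F)]

theorem isSquare_mul_of_not_isSquare [Fintype F] {a b : F} (ha : ¬ IsSquare a)
    (hb : ¬ IsSquare b) : IsSquare (a * b) := by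
  classical
  have ha0 : a ≠ 0 := fun h => ha (h ▸ IsSquare.zero)
  have hb0 : b ≠ 0 := fun h => hb (h ▸ IsSquare.zero)
  have h1 := quadraticChar_neg_one_iff_not_isSquare.mpr ha
  have h2 := quadraticChar_neg_one_iff_not_isSquare.mpr hb
  rw [← quadraticChar_one_iff_isSquare (mul_ne_zero ha0 hb0), map_mul, h1, h2]
  norm_num

theorem card_sq_eq_one_odd (h2 : (2 : F) ≠ 0) : Nat.card {a : F // a ^ 2 = 1} = 2 := by
  rw [Nat.card_eq_two_iff]
  refine ⟨⟨1, one_pow 2⟩, ⟨-1, by norm_num⟩, ?_, ?_⟩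
  · intro h
    have h' : (1 : F) = -1 := congrArg Subtype.val h
    apply h2
    linear_combination h'
  · ext ⟨a, ha⟩
    simp only [Set.mem_insert_iff, Set.mem_singleton_iff, Set.mem_univ, iff_true, Subtype.mk.injEq]
    have : (a - 1) * (a + 1) = 0 := by linear_combination ha
    rcases mul_eq_zero.mp this with h | h
    · exact Or.inl (sub_eq_zero.mp h)
    · exact Or.inr (eq_neg_of_add_eq_zero_left h)

theorem card_sq_eq_one_even [CharP F 2] : Nat.card {a : F // a ^ 2 = 1} = 1 := by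
  have : Fact (Nat.Prime 2) := ⟨Nat.prime_two⟩
  rw [Nat.card_eq_one_iff_unique]
  refine ⟨⟨?_⟩, ⟨⟨1, one_pow 2⟩⟩⟩
  have hone : ∀ a : F, a ^ 2 = 1 → a = 1 := by
    intro a ha
    have : (a - 1) ^ 2 = 0 := by rw [sub_pow_char a 1, ha, one_pow, sub_self]
    exact sub_eq_zero.mp (pow_eq_zero_iff (two_ne_zero) |>.mp this)
  rintro ⟨a, ha⟩ ⟨b, hb⟩
  apply Subtype.ext
  show a = b
  rw [hone a ha, hone b hb]

end Cfsg.Agent.Lib.Helper46
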