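import Cfsg.Agent.Lib.Helper46.SL2j

set_option autoImplicit false

namespace Cfsg.Agent.Lib.Helper46

open Matrix Cfsg Cfsg.Agent.Lib.Helper4
open scoped ComplexConjugate

section SL

open scoped Classical

variable {F : Type*} [Field F] [Fintype F]

/-- In odd characteristic there is exactly one multiplicative character of order two. -/
theorem exists_order_two (h2 : (2 : F) ≠ 0) :
    ∃ γ₀ : MulChar F ℂ, γ₀ ^ 2 = 1 ∧ γ₀ ≠ 1 ∧ ∀ γ : MulChar F ℂ, γ ^ 2 = 1 → γ ≠ 1 → γ = γ₀ := by
  have hc : Nat.card {μ : MulChar F ℂ // μ ^ 2 = 1} = 2 := by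
    rw [natCard_mulChar_sq, card_sq_eq_one_odd h2]
  obtain ⟨x, y, hxy, huniv⟩ := Nat.card_eq_two_iff.mp hc
  have hmem : ∀ z : {μ : MulChar F ℂ // μ ^ 2 = 1}, z = x ∨ z = y := by
    intro z
    have : z ∈ ({x, y} : Set _) := by rw [huniv]; exact Set.mem_univ z
    simpa using this
  have hone := hmem ⟨1, one_pow 2⟩
  rcases hone with h1 | h1
  · refine ⟨y.1, y.2, ?_, ?_⟩
    · intro h
      apply hxy
      rw [← h1]
      exact Subtype.ext h.symm
    · intro γ hγ hγ1
      rcases hmem ⟨γ, hγ⟩ with h | h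
      · exfalso
        apply hγ1
        have := congrArg Subtype.val (h.trans h1.symm)
        exact this
      · exact congrArg Subtype.val h
  · refine ⟨x.1, x.2, ?_, ?_⟩
    · intro h
      apply hxy
      rw [← h1]
      exact Subtype.ext h
    · intro γ hγ hγ1
      rcases hmem ⟨γ, hγ⟩ with h | h
      · exact congrArg Subtype.val h
      · exfalso
        apply hγ1
        have := congrArg Subtype.val (h.trans h1.symm)
        exact this

/-- The principal series of the order-two character splits into two conjugate halves. -/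
theorem psS_order_two_decomp (γ₀ : MulChar F ℂ) (hγ₀ : γ₀ ^ 2 = 1) (hne : γ₀ ≠ 1) :
    ∃ ψ ψ' : SpecialLinearGroup (Fin 2) F → ℂ,
      IsIrrCharacter (SpecialLinearGroup (Fin 2) F) ψ ∧
      IsIrrCharacter (SpecialLinearGroup (Fin 2) F) ψ' ∧ ψ ≠ ψ' ∧ psS γ₀ = ψ + ψ' ∧
      ConjGL ψ ψ' := by
  have hn := psS_norm γ₀
  rw [if_pos hγ₀] at hn
  rcases res_cases (ps γ₀ 1) (ps_irr γ₀ 1 hne) with h | ⟨-, ψ, ψ', hψ, hψ', hne', hsum, hc⟩
  · exfalso
    rw [← psS_eq_res] at h
    rw [classInner_irr_self _ h] at hn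
    norm_num at hn
  · exact ⟨ψ, ψ', hψ, hψ', hne', by rw [psS_eq_res]; exact hsum, hc⟩

variable [Fintype (IrrCharacter (SpecialLinearGroup (Fin 2) F))]

theorem card_deg_half_succ (h2 : (2 : F) ≠ 0) (k : ℕ) (hk : Fintype.card F = 2 * k + 1)
    (hk2 : 2 ≤ k) :
    (Finset.univ.filter
      (fun χ : IrrCharacter (SpecialLinearGroup (Fin 2) F) => deg χ = k + 1)).card = 2 := by
  obtain ⟨γ₀, hγ₀, hγ₀1, huniq⟩ := exists_order_two h2
  obtain ⟨ψ, ψ', hψ, hψ', hne, hsum, hc⟩ := psS_order_two_decomp γ₀ hγ₀ hγ₀1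
  have hone := hc.one_eq
  have hs1 := congrFun hsum 1
  rw [psS_one, Pi.add_apply, hone, hk] at hs1
  have hψ1 : ψ 1 = ((k + 1 : ℕ) : ℂ) := by
    have : (2 : ℂ) * ψ 1 = 2 * ((k + 1 : ℕ) : ℂ) := by push_cast at hs1 ⊢; linear_combination -hs1
    exact mul_left_cancel₀ two_ne_zero this
  rw [Finset.card_eq_two]
  refine ⟨⟨ψ, hψ⟩, ⟨ψ', hψ'⟩, fun h => hne (congrArg Subtype.val h), ?_⟩
  ext χ
  simp only [Finset.mem_filter, Finset.mem_univ, true_and, Finset.mem_insert,
    Finset.mem_singleton]
  constructor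
  · intro hd
    have hd' : (χ : SpecialLinearGroup (Fin 2) F → ℂ) 1 = ((k + 1 : ℕ) : ℂ) := by
      rw [deg_spec, hd]
    rcases sl2_cases_deg χ.1 χ.2 with h | h | ⟨γ, -, h⟩ |
      ⟨-, -, γ, χ', hγ, hγ1, hχ', hne', hsum'⟩ | h | ⟨-, h⟩
    · exfalso
      rw [h] at hd'
      have := nat_of_cast (m := k + 1) (n := 1) (by push_cast at hd' ⊢; linear_combination -hd')
      omega
    · exfalso
      rw [h, stS_one, hk] at hd'
      have := nat_of_cast hd'
      omega
    · exfalso
      rw [h, psS_one, hk] at hd'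
      have := nat_of_cast (m := 2 * k + 1 + 1) (n := k + 1)
        (by push_cast at hd' ⊢; linear_combination hd')
      omega
    · have hγe := huniq γ hγ hγ1
      subst hγe
      have h3 := (classInner_add_irr χ.1 χ' χ.2 hχ' hne').1
      rw [← hsum', hsum, classInner_add_left] at h3
      by_cases e : χ.1 = ψ
      · left; exact Subtype.ext e
      · right
        by_contra e'
        have e1 : classInner ψ χ.1 = 0 := classInner_irr_ne _ _ hψ χ.2 (fun h => e h.symm)
        have e2 : classInner ψ' χ.1 = 0 :=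
          classInner_irr_ne _ _ hψ' χ.2 (fun h => e' (Subtype.ext h.symm))
        rw [e1, e2] at h3
        norm_num at h3
    · exfalso
      rw [hd', hk] at h
      have := nat_of_cast (m := k + 1 + 1) (n := 2 * k + 1)
        (by push_cast at h ⊢; linear_combination h)
      omega
    · exfalso
      rw [hd', hk] at h
      have := nat_of_cast (m := 2 * (k + 1) + 1) (n := 2 * k + 1)
        (by push_cast at h ⊢; linear_combination h)
      omega
  · rintro (rfl | rfl)
    · exact deg_eq _ _ hψ1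
    · apply deg_eq
      show ψ' 1 = _
      rw [hone]; exact hψ1

variable [Fintype (MulChar F ℂ)]

omit [Fintype (IrrCharacter (SpecialLinearGroup (Fin 2) F))] in
theorem card_filter_sq_ne (h2 : (2 : F) ≠ 0) :
    (Finset.univ.filter (fun γ : MulChar F ℂ => γ ^ 2 ≠ 1)).card + 3 = Fintype.card F := by
  have hc : Nat.card {μ : MulChar F ℂ // μ ^ 2 = 1} = 2 := by
    rw [natCard_mulChar_sq, card_sq_eq_one_odd h2]
  rw [Nat.card_eq_fintype_card, Fintype.card_subtype] at hc
  have h3 : (Finset.univ.filter (fun γ : MulChar F ℂ => γ ^ 2 = 1)).card +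
      (Finset.univ.filter (fun γ : MulChar F ℂ => γ ^ 2 ≠ 1)).card =
        (Finset.univ : Finset (MulChar F ℂ)).card := by
    convert Finset.card_filter_add_card_filter_not (s := (Finset.univ : Finset (MulChar F ℂ)))
      (fun γ : MulChar F ℂ => γ ^ 2 = 1) using 3
  rw [Finset.card_univ, card_mulChar, hc] at h3
  have hq := card_F_ge_two (F := F)
  omega

theorem two_mul_card_deg_succ (h2 : (2 : F) ≠ 0) :
    2 * (Finset.univ.filter (fun χ : IrrCharacter (SpecialLinearGroup (Fin 2) F) =>
      deg χ = Fintype.card F + 1)).card + 3 = Fintype.card F := by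
  have h0 := card_filter_sq_ne h2
  suffices hs : (Finset.univ.filter (fun γ : MulChar F ℂ => γ ^ 2 ≠ 1)).card =
      (Finset.univ.filter (fun χ : IrrCharacter (SpecialLinearGroup (Fin 2) F) =>
        deg χ = Fintype.card F + 1)).card * 2 by omega
  let f : MulChar F ℂ → IrrCharacter (SpecialLinearGroup (Fin 2) F) := fun γ =>
    if h : γ ^ 2 ≠ 1 then ⟨psS γ, psS_irr γ h⟩ else ⟨fun _ => 1, isIrrCharacter_one⟩
  have hf : ∀ γ : MulChar F ℂ, ∀ h : γ ^ 2 ≠ 1, f γ = ⟨psS γ, psS_irr γ h⟩ := by
    intro γ h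
    show (if h : γ ^ 2 ≠ 1 then _ else _) = _
    rw [dif_pos h]
  have H : ∀ γ ∈ Finset.univ.filter (fun γ : MulChar F ℂ => γ ^ 2 ≠ 1),
      f γ ∈ Finset.univ.filter (fun χ : IrrCharacter (SpecialLinearGroup (Fin 2) F) =>
        deg χ = Fintype.card F + 1) := by
    intro γ hγ
    simp only [Finset.mem_filter, Finset.mem_univ, true_and] at hγ ⊢
    rw [hf γ hγ]
    apply deg_eq
    show psS γ 1 = _
    rw [psS_one]; push_cast; ring
  rw [Finset.card_eq_sum_card_fiberwise H]
  rw [Finset.sum_const_nat (m := 2)]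
  intro b hb
  simp only [Finset.mem_filter, Finset.mem_univ, true_and] at hb
  have hb' : (b : SpecialLinearGroup (Fin 2) F → ℂ) 1 = (Fintype.card F : ℂ) + 1 := by
    rw [deg_spec, hb]; push_cast; ring
  have hq := card_F_ge_two (F := F)
  rcases sl2_cases_deg b.1 b.2 with h | h | ⟨γ₁, hγ₁, h⟩ | ⟨-, h, -⟩ | h | ⟨-, h⟩
  · exfalso
    rw [h] at hb'
    have := nat_of_cast (m := 1) (n := Fintype.card F + 1) (by push_cast; linear_combination hb')
    omega
  · exfalso
    rw [h, stS_one] at hb'
    have := nat_of_cast (m := Fintype.card F) (n := Fintype.card F + 1)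
      (by push_cast; linear_combination hb')
    omega
  · have hfib : (Finset.univ.filter (fun γ : MulChar F ℂ => γ ^ 2 ≠ 1)).filter
        (fun γ => f γ = b) = {γ₁, γ₁⁻¹} := by
      ext γ
      simp only [Finset.mem_filter, Finset.mem_univ, true_and, Finset.mem_insert,
        Finset.mem_singleton]
      constructor
      · rintro ⟨hγ, hfb⟩
        rw [hf γ hγ] at hfb
        have : psS γ = psS γ₁ := by rw [← h]; exact congrArg Subtype.val hfb
        exact (psS_eq_iff γ γ₁ hγ₁).mp this
      · intro hγ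
        have hps : psS γ = psS γ₁ := (psS_eq_iff γ γ₁ hγ₁).mpr hγ
        have hγ2 : γ ^ 2 ≠ 1 := by
          rcases hγ with rfl | rfl
          · exact hγ₁
          · rw [inv_pow]
            intro h
            exact hγ₁ (inv_eq_one.mp h)
        refine ⟨hγ2, ?_⟩
        rw [hf γ hγ2]
        apply Subtype.ext
        show psS γ = b.1
        rw [hps, h]
    rw [hfib]
    apply Finset.card_pair
    intro h
    apply hγ₁
    rw [sq]
    nth_rewrite 2 [h]
    exact mul_inv_cancel γ₁
  · exfalso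
    rw [hb'] at h
    have := nat_of_cast (m := 2 * (Fintype.card F + 1)) (n := Fintype.card F + 1)
      (by push_cast; linear_combination h)
    omega
  · exfalso
    rw [hb'] at h
    have := nat_of_cast (m := Fintype.card F + 1 + 1) (n := Fintype.card F)
      (by push_cast; linear_combination h)
    omega
  · exfalso
    rw [hb'] at h
    have := nat_of_cast (m := 2 * (Fintype.card F + 1) + 1) (n := Fintype.card F)
      (by push_cast; linear_combination h)
    omega

end SL

end Cfsg.Agent.Lib.Helper46
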