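import Cfsg.Agent.Lib.Helper46.SL2i

set_option autoImplicit false

namespace Cfsg.Agent.Lib.Helper46

open Matrix Cfsg Cfsg.Agent.Lib.Helper4
open scoped ComplexConjugate

section SL

open scoped Classical

variable {F : Type*} [Field F] [Fintype F]

/-- `sl2_cases` with the degree recorded in each case. -/
theorem sl2_cases_deg (ψ : SpecialLinearGroup (Fin 2) F → ℂ)
    (hψ : IsIrrCharacter (SpecialLinearGroup (Fin 2) F) ψ) :
    (ψ = fun _ => 1) ∨ (ψ = stS) ∨ (∃ γ : MulChar F ℂ, γ ^ 2 ≠ 1 ∧ ψ = psS γ) ∨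
    ((2 : F) ≠ 0 ∧ 2 * ψ 1 = (Fintype.card F : ℂ) + 1 ∧
      ∃ (γ : MulChar F ℂ) (ψ' : SpecialLinearGroup (Fin 2) F → ℂ),
      γ ^ 2 = 1 ∧ γ ≠ 1 ∧ IsIrrCharacter (SpecialLinearGroup (Fin 2) F) ψ' ∧ ψ ≠ ψ' ∧
      psS γ = ψ + ψ') ∨
    (ψ 1 = (Fintype.card F : ℂ) - 1) ∨
    ((2 : F) ≠ 0 ∧ 2 * ψ 1 = (Fintype.card F : ℂ) - 1) := by
  rcases sl2_cases ψ hψ with h | h | h | ⟨h2, γ, ψ', hγ, hγ1, hψ', hne, hsum, hc, hc'⟩ |
    ⟨χ, hχ, hcusp, hd, rfl⟩ | ⟨h2, χ, ψ', hχ, hcusp, hd, hψ', hne, hsum, hc, hc'⟩
  · exact Or.inl h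
  · exact Or.inr (Or.inl h)
  · exact Or.inr (Or.inr (Or.inl h))
  · refine Or.inr (Or.inr (Or.inr (Or.inl ⟨h2, ?_, γ, ψ', hγ, hγ1, hψ', hne, hsum⟩)))
    have h1 := congrFun hsum 1
    rw [psS_one, Pi.add_apply, hc.one_eq] at h1
    rw [h1]; ring
  · exact Or.inr (Or.inr (Or.inr (Or.inr (Or.inl (by rw [res_one, hd])))))
  · refine Or.inr (Or.inr (Or.inr (Or.inr (Or.inr ⟨h2, ?_⟩))))
    have h1 := congrFun hsum 1
    rw [res_one, hd, Pi.add_apply, hc.one_eq] at h1
    rw [h1]; ring

theorem card_F_ge_two : 2 ≤ Fintype.card F := Fintype.one_lt_card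

/-- The possible degrees, as natural numbers. -/
theorem sl2_deg_mem (χ : IrrCharacter (SpecialLinearGroup (Fin 2) F)) :
    deg χ = 1 ∨ deg χ = Fintype.card F ∨ deg χ = Fintype.card F + 1 ∨
      deg χ + 1 = Fintype.card F ∨ ((2 : F) ≠ 0 ∧ 2 * deg χ = Fintype.card F + 1) ∨
      ((2 : F) ≠ 0 ∧ 2 * deg χ + 1 = Fintype.card F) := by
  have hq := card_F_ge_two (F := F)
  rcases sl2_cases_deg χ.1 χ.2 with h | h | ⟨γ, -, h⟩ | ⟨h2, h, -⟩ | h | ⟨h2, h⟩
  · left
    apply deg_eq
    rw [h]; simp
  · right; left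
    apply deg_eq
    rw [h, stS_one]
  · right; right; left
    apply deg_eq
    rw [h, psS_one]; push_cast; ring
  · right; right; right; right; left
    refine ⟨h2, ?_⟩
    rw [deg_spec] at h
    exact nat_of_cast (by push_cast; linear_combination h)
  · right; right; right; left
    rw [deg_spec] at h
    exact nat_of_cast (by push_cast; linear_combination h)
  · right; right; right; right; right
    refine ⟨h2, ?_⟩
    rw [deg_spec] at h
    exact nat_of_cast (by push_cast; linear_combination h)

variable [Fintype (IrrCharacter (SpecialLinearGroup (Fin 2) F))]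

theorem card_deg_one_sl2 (h4 : 4 ≤ Fintype.card F) :
    (Finset.univ.filter
      (fun χ : IrrCharacter (SpecialLinearGroup (Fin 2) F) => deg χ = 1)).card = 1 := by
  rw [Finset.card_eq_one]
  refine ⟨⟨fun _ => 1, isIrrCharacter_one⟩, ?_⟩
  ext χ
  simp only [Finset.mem_filter, Finset.mem_univ, true_and, Finset.mem_singleton]
  constructor
  · intro hd
    have hd' : (χ : SpecialLinearGroup (Fin 2) F → ℂ) 1 = 1 := by rw [deg_spec, hd]; simp
    rcases sl2_cases_deg χ.1 χ.2 with h | h | ⟨γ, -, h⟩ | ⟨h2, h, -⟩ | h | ⟨h2, h⟩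
    · exact Subtype.ext h
    · exfalso
      rw [h, stS_one] at hd'
      have := nat_of_cast (m := Fintype.card F) (n := 1) (by push_cast; linear_combination hd')
      omega
    · exfalso
      rw [h, psS_one] at hd'
      have := nat_of_cast (m := Fintype.card F + 1) (n := 1) (by push_cast; linear_combination hd')
      omega
    · exfalso
      rw [hd'] at h
      have := nat_of_cast (m := 2) (n := Fintype.card F + 1) (by push_cast; linear_combination h)
      omega
    · exfalso
      rw [hd'] at h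
      have := nat_of_cast (m := 2) (n := Fintype.card F) (by push_cast; linear_combination h)
      omega
    · exfalso
      rw [hd'] at h
      have := nat_of_cast (m := 3) (n := Fintype.card F) (by push_cast; linear_combination h)
      omega
  · rintro rfl
    apply deg_eq
    simp

theorem card_deg_q_sl2 (h4 : 4 ≤ Fintype.card F) :
    (Finset.univ.filter
      (fun χ : IrrCharacter (SpecialLinearGroup (Fin 2) F) => deg χ = Fintype.card F)).card = 1 := by
  rw [Finset.card_eq_one]
  refine ⟨⟨stS, stS_irr⟩, ?_⟩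
  ext χ
  simp only [Finset.mem_filter, Finset.mem_univ, true_and, Finset.mem_singleton]
  constructor
  · intro hd
    have hd' : (χ : SpecialLinearGroup (Fin 2) F → ℂ) 1 = (Fintype.card F : ℂ) := by
      rw [deg_spec, hd]
    rcases sl2_cases_deg χ.1 χ.2 with h | h | ⟨γ, -, h⟩ | ⟨h2, h, -⟩ | h | ⟨h2, h⟩
    · exfalso
      rw [h] at hd'
      have := nat_of_cast (m := Fintype.card F) (n := 1) (by push_cast; linear_combination -hd')
      omega
    · exact Subtype.ext h
    · exfalso
      rw [h, psS_one] at hd'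
      have := nat_of_cast (m := Fintype.card F + 1) (n := Fintype.card F)
        (by push_cast; linear_combination hd')
      omega
    · exfalso
      rw [hd'] at h
      have := nat_of_cast (m := 2 * Fintype.card F) (n := Fintype.card F + 1)
        (by push_cast; linear_combination h)
      omega
    · exfalso
      rw [hd'] at h
      have := nat_of_cast (m := Fintype.card F + 1) (n := Fintype.card F)
        (by push_cast; linear_combination h)
      omega
    · exfalso
      rw [hd'] at h
      have := nat_of_cast (m := 2 * Fintype.card F + 1) (n := Fintype.card F)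
        (by push_cast; linear_combination h)
      omega
  · rintro rfl
    apply deg_eq
    exact stS_one

end SL

end Cfsg.Agent.Lib.Helper46
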