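import Cfsg.Agent.Lib.Helper46.SL2r
import Cfsg.Agent.Lib.Helper83.Quot
import Cfsg.Prelude.Def_DegreeGraph
import Cfsg.Agent.S2299
import Cfsg.Agent.S2300

set_option autoImplicit false

namespace Cfsg.Agent.Lib.Helper46

open Matrix Cfsg Cfsg.Agent.Lib.Helper4
open scoped ComplexConjugate

section general

universe u v

theorem charDegree_eq_deg {G : Type*} [Group G] (χ : IrrCharacter G) :
    charDegree (χ : G → ℂ) = deg χ := by
  unfold charDegree
  rw [deg_spec]
  simp

theorem charDegrees_subset_of_mulEquiv {G : Type u} {H : Type v} [Group G] [Group H]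
    (e : G ≃* H) : charDegrees G ⊆ charDegrees H := by
  rintro d ⟨χ, rfl⟩
  refine ⟨⟨fun k => (χ : G → ℂ) (e.symm k),
    isIrrCharacter_comp_surjective e.symm.toMonoidHom e.symm.surjective χ.1 χ.2⟩, ?_⟩
  unfold charDegree
  show ⌊((χ : G → ℂ) (e.symm 1)).re⌋₊ = _
  rw [map_one]

theorem charDegrees_congr {G : Type u} {H : Type v} [Group G] [Group H] (e : G ≃* H) :
    charDegrees G = charDegrees H :=
  Set.Subset.antisymm (charDegrees_subset_of_mulEquiv e) (charDegrees_subset_of_mulEquiv e.symm)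

theorem mem_charDegrees_iff_deg {G : Type*} [Group G] (d : ℕ) :
    d ∈ charDegrees G ↔ ∃ χ : IrrCharacter G, deg χ = d := by
  constructor
  · rintro ⟨χ, rfl⟩
    exact ⟨χ, (charDegree_eq_deg χ).symm⟩
  · rintro ⟨χ, rfl⟩
    exact ⟨χ, charDegree_eq_deg χ⟩

end general

section quot

variable {G : Type*} [Group G] [Finite G] (N : Subgroup G) [N.Normal]

theorem mem_charDegrees_quot {d : ℕ} : d ∈ charDegrees (G ⧸ N) ↔
    ∃ χ : IrrCharacter G, (∀ x ∈ N, (χ : G → ℂ) x = (χ : G → ℂ) 1) ∧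
      charDegree (χ : G → ℂ) = d := by
  constructor
  · rintro ⟨ψ, rfl⟩
    exact ⟨Cfsg.Agent.Lib.Helper83.inflate N ψ, Cfsg.Agent.Lib.Helper83.inflate_ker N ψ,
      Cfsg.Agent.Lib.Helper83.charDegree_inflate N ψ⟩
  · rintro ⟨χ, hχ, rfl⟩
    obtain ⟨ψ, rfl⟩ := Cfsg.Agent.Lib.Helper83.exists_inflate_eq N χ hχ
    exact ⟨ψ, (Cfsg.Agent.Lib.Helper83.charDegree_inflate N ψ).symm⟩

omit [Finite G] in
theorem deg_inflate (ψ : IrrCharacter (G ⧸ N)) :
    deg (Cfsg.Agent.Lib.Helper83.inflate N ψ) = deg ψ := by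
  rw [← charDegree_eq_deg, ← charDegree_eq_deg, Cfsg.Agent.Lib.Helper83.charDegree_inflate]

omit [Finite G] in
theorem card_filter_deg_quot_le [Fintype (IrrCharacter G)] [Fintype (IrrCharacter (G ⧸ N))]
    (d : ℕ) :
    (Finset.univ.filter (fun ψ : IrrCharacter (G ⧸ N) => deg ψ = d)).card ≤
      (Finset.univ.filter (fun χ : IrrCharacter G => deg χ = d)).card := by
  apply Finset.card_le_card_of_injOn (Cfsg.Agent.Lib.Helper83.inflate N)
  · intro ψ hψ
    simp only [Finset.coe_filter, Finset.mem_univ, true_and, Set.mem_ofPred_eq] at hψ ⊢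
    rw [deg_inflate, hψ]
  · exact (Cfsg.Agent.Lib.Helper83.inflate_injective N).injOn

end quot

section SL

open scoped Classical

variable {F : Type*} [Field F] [Fintype F]

omit [Fintype F] in
theorem sl_center_scalar (s : SpecialLinearGroup (Fin 2) F)
    (hs : s ∈ Subgroup.center (SpecialLinearGroup (Fin 2) F)) :
    ¬ NonScalar (s : Matrix (Fin 2) (Fin 2) F) := by
  rw [Matrix.SpecialLinearGroup.mem_center_iff] at hs
  obtain ⟨r, -, hr⟩ := hs
  rw [← hr]
  simp [NonScalar]

omit [Fintype F] in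
theorem sl_center_cases (s : SpecialLinearGroup (Fin 2) F)
    (hs : s ∈ Subgroup.center (SpecialLinearGroup (Fin 2) F)) :
    s = 1 ∨ s = slZ (-1) neg_one_sq := by
  rw [Matrix.SpecialLinearGroup.mem_center_iff] at hs
  obtain ⟨r, hr, hs⟩ := hs
  have h1 : r = 1 ∨ r = -1 := by
    have h2 : (r - 1) * (r + 1) = 0 := by
      simp only [Fintype.card_fin] at hr
      linear_combination hr
    rcases mul_eq_zero.mp h2 with h | h
    · left; linear_combination h
    · right; linear_combination h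
  rcases h1 with rfl | rfl
  · left
    apply Subtype.ext
    rw [← hs]
    simp
  · right
    apply Subtype.ext
    rw [← hs, slZ_coe]
    ext i j
    fin_cases i <;> fin_cases j <;> simp

omit [Fintype F] in
theorem sl_center_char_two [CharP F 2] (s : SpecialLinearGroup (Fin 2) F)
    (hs : s ∈ Subgroup.center (SpecialLinearGroup (Fin 2) F)) : s = 1 := by
  rcases sl_center_cases s hs with h | h
  · exact h
  · rw [h]
    apply Subtype.ext
    rw [slZ_coe]
    have h2 : (-1 : F) = 1 := by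
      have : (2 : F) = 0 := CharTwo.two_eq_zero
      linear_combination -this
    rw [h2]
    ext i j
    fin_cases i <;> fin_cases j <;> simp

omit [Fintype F] in
theorem natCard_center_sl2 (h2 : (2 : F) ≠ 0) :
    Nat.card (Subgroup.center (SpecialLinearGroup (Fin 2) F)) = 2 := by
  rw [Nat.card_eq_two_iff]
  refine ⟨⟨1, Subgroup.one_mem _⟩, ⟨slZ (-1) neg_one_sq, slZ_mem_center _ _⟩, ?_, ?_⟩
  · intro h
    exact one_ne_slZ_neg h2 (congrArg Subtype.val h)
  · ext ⟨s, hs⟩
    simp only [Set.mem_insert_iff, Set.mem_singleton_iff, Set.mem_univ, iff_true,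
      Subtype.mk.injEq]
    exact sl_center_cases s hs

theorem natCard_psl2 (h2 : (2 : F) ≠ 0) :
    Nat.card (ProjectiveSpecialLinearGroup (Fin 2) F) * 2 =
      Fintype.card F * (Fintype.card F ^ 2 - 1) := by
  rw [← card_SL2, Subgroup.card_eq_card_quotient_mul_card_subgroup
    (Subgroup.center (SpecialLinearGroup (Fin 2) F)), natCard_center_sl2 h2]

/-- Degrees of `SL₂(F)`. -/
theorem sl2_charDegrees_sub {d : ℕ} (hd : d ∈ charDegrees (SpecialLinearGroup (Fin 2) F)) :
    d = 1 ∨ d = Fintype.card F ∨ d = Fintype.card F + 1 ∨ d + 1 = Fintype.card F ∨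
      ((2 : F) ≠ 0 ∧ 2 * d = Fintype.card F + 1) ∨
      ((2 : F) ≠ 0 ∧ 2 * d + 1 = Fintype.card F) := by
  obtain ⟨χ, rfl⟩ := (mem_charDegrees_iff_deg d).mp hd
  exact sl2_deg_mem χ

theorem psl2_charDegrees_sub :
    charDegrees (ProjectiveSpecialLinearGroup (Fin 2) F) ⊆
      charDegrees (SpecialLinearGroup (Fin 2) F) := by
  intro d hd
  obtain ⟨χ, -, h⟩ := (mem_charDegrees_quot _).mp hd
  exact ⟨χ, h⟩

theorem psl2_charDegrees_char_two [CharP F 2] :
    charDegrees (ProjectiveSpecialLinearGroup (Fin 2) F) =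
      charDegrees (SpecialLinearGroup (Fin 2) F) := by
  apply Set.Subset.antisymm psl2_charDegrees_sub
  rintro d ⟨χ, h⟩
  refine (mem_charDegrees_quot _).mpr ⟨χ, ?_, h⟩
  intro x hx
  rw [sl_center_char_two x hx]

theorem stS_center (x : SpecialLinearGroup (Fin 2) F)
    (hx : x ∈ Subgroup.center (SpecialLinearGroup (Fin 2) F)) :
    stS x = stS (1 : SpecialLinearGroup (Fin 2) F) := by
  rw [stS_central x (sl_center_scalar x hx), stS_one]

theorem card_mem_charDegrees_sl2 :
    Fintype.card F ∈ charDegrees (SpecialLinearGroup (Fin 2) F) := by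
  refine ⟨⟨stS, stS_irr⟩, ?_⟩
  rw [charDegree_eq_deg]
  exact deg_eq _ _ stS_one

theorem card_mem_charDegrees_psl2 :
    Fintype.card F ∈ charDegrees (ProjectiveSpecialLinearGroup (Fin 2) F) := by
  refine (mem_charDegrees_quot _).mpr ⟨⟨stS, stS_irr⟩, stS_center, ?_⟩
  rw [charDegree_eq_deg]
  exact deg_eq _ _ stS_one

/-- The Steinberg character is the only irreducible character of degree `q`. -/
theorem sl2_eq_stS_of_deg (h4 : 4 ≤ Fintype.card F)
    (χ : IrrCharacter (SpecialLinearGroup (Fin 2) F)) (hχ : deg χ = Fintype.card F) :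
    χ = ⟨stS, stS_irr⟩ := by
  have := irr_finite (G := SpecialLinearGroup (Fin 2) F)
  let _ : Fintype (IrrCharacter (SpecialLinearGroup (Fin 2) F)) := Fintype.ofFinite _
  obtain ⟨a, ha⟩ := Finset.card_eq_one.mp (card_deg_q_sl2 (F := F) h4)
  have h1 : χ ∈ Finset.univ.filter
      (fun χ : IrrCharacter (SpecialLinearGroup (Fin 2) F) => deg χ = Fintype.card F) := by
    simp [hχ]
  have h2 : (⟨stS, stS_irr⟩ : IrrCharacter (SpecialLinearGroup (Fin 2) F)) ∈ Finset.univ.filter
      (fun χ : IrrCharacter (SpecialLinearGroup (Fin 2) F) => deg χ = Fintype.card F) := by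
    simp only [Finset.mem_filter, Finset.mem_univ, true_and]
    exact deg_eq _ _ stS_one
  rw [ha, Finset.mem_singleton] at h1 h2
  rw [h1, h2]

end SL

end Cfsg.Agent.Lib.Helper46
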