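import Mathlib
import Cfsg.Agent.Lib.Helper72.SCDefs
import Cfsg.Agent.Lib.Helper75.FrattiniAct
import Cfsg.Agent.Lib.Helper41.Cores
import Cfsg.Agent.Lib.Helper30.Cores
import Cfsg.Agent.S3790

/-!
# S4394, piece SC-RED (helper46 for helper72)

Reduction of the `p`-length one statement to the core case `O_{p'}(G) = 1`.
-/

set_option autoImplicit false

namespace Cfsg.Agent.Lib.Helper46.SC

open Cfsg.Agent.Lib.Helper72.SC

universe u

theorem red : RedStmt.{u} := by
  intro hcore G _ _ p _ Q hsolv hSch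
  have hp : p.Prime := Fact.out
  have hsolv' : Cfsg.IsPSolvable p (G ⧸ Cfsg.pPrimeCore p G) :=
    Cfsg.Agent.Lib.Helper75.Fratt.isPSolvable_quotient (Cfsg.pPrimeCore p G) hsolv
  have hbot : Cfsg.pPrimeCore p (G ⧸ Cfsg.pPrimeCore p G) = ⊥ :=
    Cfsg.Agent.Lib.Helper75.Fratt.pPrimeCore_quotient_eq_bot' p
  have hNcop : (Nat.card (Cfsg.pPrimeCore p G)).Coprime p :=
    Cfsg.Agent.Lib.Helper30.pPrimeCore_coprime p
  -- the image of `Q` in the quotient
  obtain ⟨Qb, hQb⟩ : ∃ Qb : Sylow p (G ⧸ Cfsg.pPrimeCore p G),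
      (Qb : Subgroup (G ⧸ Cfsg.pPrimeCore p G)) =
        (Q : Subgroup G).map (QuotientGroup.mk' (Cfsg.pPrimeCore p G)) :=
    ⟨Q.mapSurjective (QuotientGroup.mk'_surjective (Cfsg.pPrimeCore p G)), rfl⟩
  -- `Q ⊓ N = ⊥`
  have hQN : ∀ x ∈ (Q : Subgroup G), x ∈ Cfsg.pPrimeCore p G → x = 1 := by
    intro x hxQ hxN
    obtain ⟨k, hk⟩ := (IsPGroup.iff_orderOf.mp Q.isPGroup') ⟨x, hxQ⟩
    have hk' : orderOf x = p ^ k := by
      rw [← hk]
      exact (Subgroup.orderOf_mk x hxQ).symm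
    have h1 : orderOf x ∣ Nat.card (Cfsg.pPrimeCore p G) := Subgroup.orderOf_dvd_natCard _ hxN
    have h2 : orderOf x ∣ 1 := by
      have h3 := Nat.dvd_gcd h1 (dvd_refl (orderOf x))
      rw [hk'] at h3
      rw [Nat.Coprime.gcd_eq_one (Nat.Coprime.pow_right k hNcop)] at h3
      rw [hk']
      exact h3
    exact orderOf_eq_one_iff.mp (Nat.dvd_one.mp h2)
  -- the isomorphism `Q ≃* Qb`
  have hinj : Function.Injective
      ((QuotientGroup.mk' (Cfsg.pPrimeCore p G)).subgroupMap (Q : Subgroup G)) := by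
    rw [injective_iff_map_eq_one]
    intro a ha
    have h1 : QuotientGroup.mk' (Cfsg.pPrimeCore p G) (a : G) = 1 := by
      have := congrArg Subtype.val ha
      simpa using this
    have h2 : (a : G) ∈ Cfsg.pPrimeCore p G := (QuotientGroup.eq_one_iff _).mp h1
    exact Subtype.ext (hQN a a.2 h2)
  have hsurj : Function.Surjective
      ((QuotientGroup.mk' (Cfsg.pPrimeCore p G)).subgroupMap (Q : Subgroup G)) :=
    MonoidHom.subgroupMap_surjective _ _
  have e0 : ↥(Q : Subgroup G) ≃*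
      ↥((Q : Subgroup G).map (QuotientGroup.mk' (Cfsg.pPrimeCore p G))) :=
    MulEquiv.ofBijective _ ⟨hinj, hsurj⟩
  have hSch0 : SchP p ↥((Q : Subgroup G).map (QuotientGroup.mk' (Cfsg.pPrimeCore p G))) :=
    SchP.of_equiv e0 hSch
  have hSch' : SchP p ↥(Qb : Subgroup (G ⧸ Cfsg.pPrimeCore p G)) := by
    rw [hQb]
    exact hSch0
  have hQbcore : (Qb : Subgroup (G ⧸ Cfsg.pPrimeCore p G)) =
      Cfsg.pCore p (G ⧸ Cfsg.pPrimeCore p G) :=
    hcore (G ⧸ Cfsg.pPrimeCore p G) p Qb hsolv' hbot hSch'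
  -- the chain `⊥ ≤ N ≤ L ≤ ⊤`
  obtain ⟨L, hL⟩ : ∃ L : Subgroup G, L = (Cfsg.pCore p (G ⧸ Cfsg.pPrimeCore p G)).comap
      (QuotientGroup.mk' (Cfsg.pPrimeCore p G)) := ⟨_, rfl⟩
  have hLn : L.Normal := by
    rw [hL]
    infer_instance
  have hNL : Cfsg.pPrimeCore p G ≤ L := by
    intro x hx
    rw [hL, Subgroup.mem_comap]
    have : QuotientGroup.mk' (Cfsg.pPrimeCore p G) x = 1 := (QuotientGroup.eq_one_iff x).mpr hx
    rw [this]
    exact one_mem _
  have hQL : (Q : Subgroup G) ≤ L := by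
    intro x hx
    rw [hL, Subgroup.mem_comap, ← hQbcore, hQb]
    exact Subgroup.mem_map_of_mem _ hx
  have hLidx : (L.index).Coprime p := by
    have h1 : L.index ∣ (Q : Subgroup G).index := Subgroup.index_dvd_of_le hQL
    have h2 : ¬ p ∣ (Q : Subgroup G).index := Q.not_dvd_index
    have h3 : ¬ p ∣ L.index := fun h => h2 (h.trans h1)
    exact ((Nat.Prime.coprime_iff_not_dvd hp).mpr h3).symm
  apply Cfsg.Agent.S3790.plength_of_chain p hp 1
  refine ⟨fun n => if n = 0 then ⊥ else if n = 1 then Cfsg.pPrimeCore p G else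
    if n = 2 then L else ⊤, rfl, rfl, ?_, ?_, ?_⟩
  · intro n
    show (if n = 0 then (⊥ : Subgroup G) else if n = 1 then Cfsg.pPrimeCore p G else
      if n = 2 then L else ⊤).Normal
    split_ifs <;> infer_instance
  · intro n
    show (if n = 0 then (⊥ : Subgroup G) else if n = 1 then Cfsg.pPrimeCore p G else
      if n = 2 then L else ⊤) ≤ (if n + 1 = 0 then (⊥ : Subgroup G) else
      if n + 1 = 1 then Cfsg.pPrimeCore p G else if n + 1 = 2 then L else ⊤)
    rcases n with _ | _ | _ | n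
    · simp
    · simpa using hNL
    · simp
    · simp
  · intro n
    show Cfsg.Agent.S3790.IsStep (Cfsg.Agent.S3790.stepSet p n)
      (if n = 0 then (⊥ : Subgroup G) else if n = 1 then Cfsg.pPrimeCore p G else
      if n = 2 then L else ⊤) (if n + 1 = 0 then (⊥ : Subgroup G) else
      if n + 1 = 1 then Cfsg.pPrimeCore p G else if n + 1 = 2 then L else ⊤)
    rcases n with _ | _ | _ | n
    · -- `⊥ ≤ N`: exponent `|N|`
      intro x hx
      have hx' : x ∈ Cfsg.pPrimeCore p G := by simpa using hx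
      refine ⟨Nat.card (Cfsg.pPrimeCore p G), ?_, ?_⟩
      · have : Cfsg.Agent.S3790.stepSet p 0 = Cfsg.Agent.S3790.EP p := by
          unfold Cfsg.Agent.S3790.stepSet
          simp
        rw [this]
        exact hNcop
      · have h1 : (⟨x, hx'⟩ : ↥(Cfsg.pPrimeCore p G)) ^ Nat.card ↥(Cfsg.pPrimeCore p G) = 1 :=
          pow_card_eq_one'
        have h2 : x ^ Nat.card ↥(Cfsg.pPrimeCore p G) = 1 := by
          have h1' := congrArg Subtype.val h1
          rw [Subgroup.coe_pow, Subgroup.coe_one] at h1'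
          exact h1'
        rw [h2]
        simp
    · -- `N ≤ L`: exponent a power of `p`
      intro x hx
      have hx' : x ∈ L := by simpa using hx
      rw [hL, Subgroup.mem_comap] at hx'
      have hpg : IsPGroup p ↥(Cfsg.pCore p (G ⧸ Cfsg.pPrimeCore p G)) :=
        Cfsg.Agent.Lib.Helper41.pCore_isPGroup p
      obtain ⟨k, hk⟩ := hpg ⟨_, hx'⟩
      have hk' : (QuotientGroup.mk' (Cfsg.pPrimeCore p G) x) ^ p ^ k = 1 := by
        have := congrArg Subtype.val hk
        simpa using this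
      refine ⟨p ^ k, ?_, ?_⟩
      · have : Cfsg.Agent.S3790.stepSet p (0 + 1) = Cfsg.Agent.S3790.EQ p := by
          unfold Cfsg.Agent.S3790.stepSet
          simp
        rw [this]
        exact ⟨k, rfl⟩
      · have h3 : QuotientGroup.mk' (Cfsg.pPrimeCore p G) (x ^ p ^ k) = 1 := by
          rw [map_pow, hk']
        have h4 : x ^ p ^ k ∈ Cfsg.pPrimeCore p G := (QuotientGroup.eq_one_iff _).mp h3
        simpa using h4
    · -- `L ≤ ⊤`: exponent the index of `L`
      intro x _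
      refine ⟨L.index, ?_, ?_⟩
      · have : Cfsg.Agent.S3790.stepSet p (0 + 1 + 1) = Cfsg.Agent.S3790.EP p := by
          unfold Cfsg.Agent.S3790.stepSet
          simp
        rw [this]
        exact hLidx
      · have h5 : x ^ L.index ∈ L := Subgroup.pow_index_mem L x
        simpa using h5
    · intro x _
      refine ⟨1, Cfsg.Agent.S3790.stepSet_one p _, ?_⟩
      simp

end Cfsg.Agent.Lib.Helper46.SC
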