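import Cfsg.Agent.Lib.Helper46.GL2j

set_option autoImplicit false

namespace Cfsg.Agent.Lib.Helper46

open Matrix Cfsg Cfsg.Agent.Lib.Helper4
open scoped ComplexConjugate

/-- Restriction of a function on `GL₂` to `SL₂`. -/
def res {F : Type*} [Field F] (χ : GL (Fin 2) F → ℂ) : SpecialLinearGroup (Fin 2) F → ℂ :=
  fun s => χ (SpecialLinearGroup.toGL s)

theorem res_apply {F : Type*} [Field F] (χ : GL (Fin 2) F → ℂ) (s : SpecialLinearGroup (Fin 2) F) :
    res χ s = χ (SpecialLinearGroup.toGL s) := rfl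

section Res

open scoped Classical

variable {F : Type*} [Field F] [Fintype F]

theorem sum_sl (f : GL (Fin 2) F → ℂ) :
    ∑ s : SpecialLinearGroup (Fin 2) F, f (SpecialLinearGroup.toGL s) =
      ∑ g : GL (Fin 2) F, if (g : Matrix (Fin 2) (Fin 2) F).det = 1 then f g else 0 := by
  apply Fintype.sum_of_injective (SpecialLinearGroup.toGL (n := Fin 2) (R := F))
    SpecialLinearGroup.toGL_injective
  · intro g hg
    rw [if_neg]
    intro hd
    exact hg ⟨⟨(g : Matrix (Fin 2) (Fin 2) F), hd⟩, Units.ext rfl⟩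
  · intro s
    rw [if_pos]
    rw [SpecialLinearGroup.coe_GL_coe_matrix]
    exact s.2

theorem card_gl2_eq_mul :
    (Nat.card (GL (Fin 2) F) : ℂ) =
      ((Fintype.card F : ℂ) - 1) * (Nat.card (SpecialLinearGroup (Fin 2) F) : ℂ) := by
  have h : Nat.card (GL (Fin 2) F) =
      (Fintype.card F - 1) * Nat.card (SpecialLinearGroup (Fin 2) F) := by
    have := irr_finite (G := GL (Fin 2) F)
    let _ : Fintype (IrrCharacter (GL (Fin 2) F)) := Fintype.ofFinite _
    let _ : Fintype (MulChar F ℂ) := Fintype.ofFinite _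
    rw [card_gl2, card_SL2]
    have : Fintype.card F ^ 2 - Fintype.card F = Fintype.card F * (Fintype.card F - 1) := by
      rw [sq, Nat.mul_sub_one]
    rw [this]
    ring
  rw [h, Nat.cast_mul, Nat.cast_sub Fintype.card_pos, Nat.cast_one]

variable [Fintype (MulChar F ℂ)]

/-- The inner product of restrictions to `SL₂` as a sum over twists. -/
theorem classInner_res (φ ψ : GL (Fin 2) F → ℂ) :
    classInner (res φ) (res ψ) = ∑ μ : MulChar F ℂ,
      classInner (fun g => φ g * μ ((g : Matrix (Fin 2) (Fin 2) F).det)) ψ := by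
  unfold classInner
  rw [← Finset.mul_sum, Finset.sum_comm]
  have h1 : ∀ g : GL (Fin 2) F, ∑ μ : MulChar F ℂ,
      φ g * μ ((g : Matrix (Fin 2) (Fin 2) F).det) * conj (ψ g) =
      ((Fintype.card F : ℂ) - 1) *
        (if (g : Matrix (Fin 2) (Fin 2) F).det = 1 then φ g * conj (ψ g) else 0) := by
    intro g
    have h2 : ∑ μ : MulChar F ℂ, φ g * μ ((g : Matrix (Fin 2) (Fin 2) F).det) * conj (ψ g) =
        φ g * conj (ψ g) * ∑ μ : MulChar F ℂ, μ ((g : Matrix (Fin 2) (Fin 2) F).det) := by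
      rw [Finset.mul_sum]
      exact Finset.sum_congr rfl fun μ _ => by ring
    rw [h2, mulChar_sum_apply]
    split_ifs <;> ring
  simp_rw [h1]
  rw [← Finset.mul_sum, card_gl2_eq_mul]
  have h3 : ∑ s : SpecialLinearGroup (Fin 2) F, res φ s * conj (res ψ s) =
      ∑ g : GL (Fin 2) F,
        if (g : Matrix (Fin 2) (Fin 2) F).det = 1 then φ g * conj (ψ g) else 0 :=
    sum_sl (fun g => φ g * conj (ψ g))
  rw [h3]
  have hq1 := card_sub_one_ne_zero (F := F)
  have hS : (Nat.card (SpecialLinearGroup (Fin 2) F) : ℂ) ≠ 0 := card_ne_zero'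
  field_simp

omit [Fintype (MulChar F ℂ)] in
theorem ps_twist (α β μ : MulChar F ℂ) (g : GL (Fin 2) F) :
    ps α β g * μ ((g : Matrix (Fin 2) (Fin 2) F).det) = ps (α * μ) (β * μ) g := by
  rw [ps_apply, ps_apply, add_mul, Finset.sum_mul]
  congr 1
  · split_ifs with h
    · rw [Matrix.det_fin_two, h, mul_zero, sub_zero, map_mul, MulChar.mul_apply,
        MulChar.mul_apply]
      ring
    · rw [zero_mul]
  · refine Finset.sum_congr rfl fun z _ => ?_
    split_ifs with h
    · have hdet : (g : Matrix (Fin 2) (Fin 2) F).det =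
          ((g : Matrix (Fin 2) (Fin 2) F) 1 0 * z + (g : Matrix (Fin 2) (Fin 2) F) 1 1) *
          ((g : Matrix (Fin 2) (Fin 2) F) 0 0 - (g : Matrix (Fin 2) (Fin 2) F) 1 0 * z) := by
        rw [Matrix.det_fin_two]
        simp only [qf] at h
        linear_combination (g : Matrix (Fin 2) (Fin 2) F) 1 0 * h
      rw [hdet, map_mul, MulChar.mul_apply, MulChar.mul_apply]
      ring
    · rw [zero_mul]

omit [Fintype (MulChar F ℂ)] in
theorem detChar_twist (α μ : MulChar F ℂ) (g : GL (Fin 2) F) :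
    detChar α g * μ ((g : Matrix (Fin 2) (Fin 2) F).det) = detChar (α * μ) g := by
  unfold detChar
  rw [MulChar.mul_apply]

omit [Fintype (MulChar F ℂ)] in
theorem st_twist (α μ : MulChar F ℂ) (g : GL (Fin 2) F) :
    st α g * μ ((g : Matrix (Fin 2) (Fin 2) F).det) = st (α * μ) g := by
  unfold st
  rw [Pi.sub_apply, Pi.sub_apply, sub_mul, ps_twist, detChar_twist]

/-- The restriction to `SL₂` is unchanged by twisting. -/
theorem res_twist (χ : GL (Fin 2) F → ℂ) (μ : MulChar F ℂ) :
    res (fun g => χ g * μ ((g : Matrix (Fin 2) (Fin 2) F).det)) = res χ := by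
  funext s
  show χ (SpecialLinearGroup.toGL s) *
    μ ((SpecialLinearGroup.toGL s : GL (Fin 2) F) : Matrix (Fin 2) (Fin 2) F).det = _
  rw [show ((SpecialLinearGroup.toGL s : GL (Fin 2) F) : Matrix (Fin 2) (Fin 2) F).det = 1 from s.2,
    map_one, mul_one]
  rfl

end Res

end Cfsg.Agent.Lib.Helper46
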