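import Cfsg.Agent.Lib.Helper46.SL2a

set_option autoImplicit false

namespace Cfsg.Agent.Lib.Helper46

open Matrix Cfsg Cfsg.Agent.Lib.Helper4
open scoped ComplexConjugate

section Defs

variable {F : Type*} [Field F]

/-- The Borel subgroup of `SL₂`. -/
abbrev BorS (F : Type*) [Field F] : Subgroup (SpecialLinearGroup (Fin 2) F) :=
  (upperTriangularGL 2 F).comap SpecialLinearGroup.toGL

theorem mem_borS_iff (g : SpecialLinearGroup (Fin 2) F) :
    g ∈ BorS F ↔ (g : Matrix (Fin 2) (Fin 2) F) 1 0 = 0 := by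
  rw [Subgroup.mem_comap, mem_upperTriangularGL_iff]
  rfl

theorem sl_det_eq (g : SpecialLinearGroup (Fin 2) F) :
    (g : Matrix (Fin 2) (Fin 2) F) 0 0 * (g : Matrix (Fin 2) (Fin 2) F) 1 1 -
      (g : Matrix (Fin 2) (Fin 2) F) 0 1 * (g : Matrix (Fin 2) (Fin 2) F) 1 0 = 1 := by
  rw [← det_fin_two]
  exact g.2

/-- The linear character `b ↦ γ(b₁₁)` of the Borel subgroup of `SL₂`, as a function. -/
noncomputable def thetaS (γ : MulChar F ℂ) : BorS F → ℂ :=
  fun b => γ (((b : SpecialLinearGroup (Fin 2) F) : Matrix (Fin 2) (Fin 2) F) 0 0)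

theorem borS_mul_00 (b b' : BorS F) :
    (((b * b' : BorS F) : SpecialLinearGroup (Fin 2) F) : Matrix (Fin 2) (Fin 2) F) 0 0 =
      ((b : SpecialLinearGroup (Fin 2) F) : Matrix (Fin 2) (Fin 2) F) 0 0 *
        ((b' : SpecialLinearGroup (Fin 2) F) : Matrix (Fin 2) (Fin 2) F) 0 0 := by
  have hb' := (mem_borS_iff _).mp b'.2
  show (((b : SpecialLinearGroup (Fin 2) F) * (b' : SpecialLinearGroup (Fin 2) F) :
    SpecialLinearGroup (Fin 2) F) : Matrix (Fin 2) (Fin 2) F) 0 0 = _
  rw [Matrix.SpecialLinearGroup.coe_mul, Matrix.mul_apply, Fin.sum_univ_two, hb', mul_zero,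
    add_zero]

/-- `thetaS` as a monoid homomorphism. -/
noncomputable def thetaSHom (γ : MulChar F ℂ) : BorS F →* ℂ where
  toFun := thetaS γ
  map_one' := by simp [thetaS]
  map_mul' b b' := by
    show thetaS γ (b * b') = thetaS γ b * thetaS γ b'
    unfold thetaS
    rw [borS_mul_00, map_mul]

theorem thetaS_isClassFunction (γ : MulChar F ℂ) : IsClassFunction (BorS F) (thetaS γ) :=
  isClassFunction_of_hom (thetaSHom γ)

theorem thetaS_isIrrCharacter (γ : MulChar F ℂ) : IsIrrCharacter (BorS F) (thetaS γ) :=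
  isIrrCharacter_of_hom (thetaSHom γ)

/-- The element `[[z, -1], [1, 0]]` of `SL₂`. -/
def nzS (z : F) : SpecialLinearGroup (Fin 2) F :=
  ⟨!![z, -1; 1, 0], by simp [det_fin_two_of]⟩

/-- The element `[[0, 1], [-1, z]]` of `SL₂`, inverse of `nzS z`. -/
def nzSInv (z : F) : SpecialLinearGroup (Fin 2) F :=
  ⟨!![0, 1; -1, z], by simp [det_fin_two_of]⟩

theorem nzS_coe (z : F) :
    ((nzS z : SpecialLinearGroup (Fin 2) F) : Matrix (Fin 2) (Fin 2) F) = !![z, -1; 1, 0] := rfl

theorem nzSInv_coe (z : F) :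
    ((nzSInv z : SpecialLinearGroup (Fin 2) F) : Matrix (Fin 2) (Fin 2) F) = !![0, 1; -1, z] := rfl

theorem nzS_inv (z : F) : (nzS z)⁻¹ = nzSInv z := by
  apply inv_eq_of_mul_eq_one_left
  apply Subtype.ext
  show ((nzSInv z : SpecialLinearGroup (Fin 2) F) : Matrix (Fin 2) (Fin 2) F) *
    ((nzS z : SpecialLinearGroup (Fin 2) F) : Matrix (Fin 2) (Fin 2) F) = 1
  rw [nzS_coe, nzSInv_coe]
  ext i j
  fin_cases i <;> fin_cases j <;> simp [Matrix.mul_apply, Fin.sum_univ_two]

/-- The transversal of the Borel subgroup of `SL₂` indexed by the projective line. -/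
def transS (i : Option F) : SpecialLinearGroup (Fin 2) F :=
  match i with
  | none => 1
  | some z => nzS z

theorem conj_nzS_apply (g : SpecialLinearGroup (Fin 2) F) (z : F) :
    (((nzS z)⁻¹ * g * nzS z : SpecialLinearGroup (Fin 2) F) : Matrix (Fin 2) (Fin 2) F) =
      !![(g : Matrix (Fin 2) (Fin 2) F) 1 0 * z + (g : Matrix (Fin 2) (Fin 2) F) 1 1,
        -(g : Matrix (Fin 2) (Fin 2) F) 1 0;
        qf (g : Matrix (Fin 2) (Fin 2) F) z 1,
        (g : Matrix (Fin 2) (Fin 2) F) 0 0 - (g : Matrix (Fin 2) (Fin 2) F) 1 0 * z] := by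
  rw [nzS_inv]
  show ((nzSInv z : SpecialLinearGroup (Fin 2) F) : Matrix (Fin 2) (Fin 2) F) *
    (g : Matrix (Fin 2) (Fin 2) F) *
    ((nzS z : SpecialLinearGroup (Fin 2) F) : Matrix (Fin 2) (Fin 2) F) = _
  rw [nzS_coe, nzSInv_coe]
  conv_lhs => rw [Matrix.eta_fin_two (g : Matrix (Fin 2) (Fin 2) F)]
  rw [Matrix.mul_fin_two, Matrix.mul_fin_two]
  ext i j
  fin_cases i <;> fin_cases j <;> simp [qf] <;> ring

theorem borS_00_ne_zero (b : BorS F) :
    ((b : SpecialLinearGroup (Fin 2) F) : Matrix (Fin 2) (Fin 2) F) 0 0 ≠ 0 := by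
  have hb := (mem_borS_iff _).mp b.2
  have hd := sl_det_eq (b : SpecialLinearGroup (Fin 2) F)
  rw [hb, mul_zero, sub_zero] at hd
  intro h
  rw [h, zero_mul] at hd
  exact zero_ne_one hd

theorem transS_bijective :
    Function.Bijective (fun p : Option F × BorS F =>
      transS p.1 * (p.2 : SpecialLinearGroup (Fin 2) F)) := by
  constructor
  · rintro ⟨i, b⟩ ⟨j, b'⟩ h
    simp only at h
    have hb := (mem_borS_iff _).mp b.2
    have hb' := (mem_borS_iff _).mp b'.2
    have h00 := borS_00_ne_zero b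
    have h00' := borS_00_ne_zero b'
    have hm := congrArg (fun x : SpecialLinearGroup (Fin 2) F => (x : Matrix (Fin 2) (Fin 2) F)) h
    simp only [Matrix.SpecialLinearGroup.coe_mul] at hm
    have e00 := congrFun (congrFun hm 0) 0
    have e10 := congrFun (congrFun hm 1) 0
    cases i with
    | none =>
      cases j with
      | none =>
        simp only [transS, one_mul] at h
        rw [Subtype.ext h]
      | some z' =>
        simp [transS, nzS_coe, Matrix.mul_apply, Fin.sum_univ_two, hb, hb'] at e10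
        exact absurd e10.symm h00'
    | some z =>
      cases j with
      | none =>
        simp [transS, nzS_coe, Matrix.mul_apply, Fin.sum_univ_two, hb, hb'] at e10
        exact absurd e10 h00
      | some z' =>
        simp [transS, nzS_coe, Matrix.mul_apply, Fin.sum_univ_two, hb, hb'] at e10 e00
        rw [e10] at e00
        have hz : z = z' := mul_right_cancel₀ h00' e00
        subst hz
        simp only [transS] at h
        rw [Subtype.ext (mul_left_cancel h)]
  · intro g
    by_cases hg : (g : Matrix (Fin 2) (Fin 2) F) 1 0 = 0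
    · exact ⟨(none, ⟨g, (mem_borS_iff g).mpr hg⟩), by simp [transS]⟩
    · set z := (g : Matrix (Fin 2) (Fin 2) F) 0 0 / (g : Matrix (Fin 2) (Fin 2) F) 1 0 with hz
      have hmem : (nzS z)⁻¹ * g ∈ BorS F := by
        rw [mem_borS_iff, nzS_inv]
        show (((nzSInv z : SpecialLinearGroup (Fin 2) F) : Matrix (Fin 2) (Fin 2) F) *
          (g : Matrix (Fin 2) (Fin 2) F)) 1 0 = 0
        rw [nzSInv_coe]
        simp [Matrix.mul_apply, Fin.sum_univ_two, hz]
        field_simp
        ring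
      refine ⟨(some z, ⟨(nzS z)⁻¹ * g, hmem⟩), ?_⟩
      simp [transS]

end Defs

end Cfsg.Agent.Lib.Helper46
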