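import Cfsg.Agent.Lib.Helper46.SL2b

set_option autoImplicit false

namespace Cfsg.Agent.Lib.Helper46

open Matrix Cfsg Cfsg.Agent.Lib.Helper4
open scoped ComplexConjugate

section IndS

open scoped Classical

variable {F : Type*} [Field F] [Fintype F]

/-- The principal series class function of `SL₂`. -/
noncomputable def psS (γ : MulChar F ℂ) : SpecialLinearGroup (Fin 2) F → ℂ :=
  indFun (BorS F) (thetaS γ)

theorem psS_isCharacter (γ : MulChar F ℂ) : IsCharacter (SpecialLinearGroup (Fin 2) F) (psS γ) :=
  isCharacter_indFun _ _ (isCharacter_of_irr _ (thetaS_isIrrCharacter γ))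

/-- Explicit formula for the principal series class function of `SL₂`. -/
theorem psS_apply (γ : MulChar F ℂ) (g : SpecialLinearGroup (Fin 2) F) :
    psS γ g =
      (if (g : Matrix (Fin 2) (Fin 2) F) 1 0 = 0 then γ ((g : Matrix (Fin 2) (Fin 2) F) 0 0)
        else 0) +
      ∑ z : F, if qf (g : Matrix (Fin 2) (Fin 2) F) z 1 = 0 then
        γ ((g : Matrix (Fin 2) (Fin 2) F) 1 0 * z + (g : Matrix (Fin 2) (Fin 2) F) 1 1) else 0 := by
  let _ : Fintype (BorS F) := Fintype.ofFinite _
  unfold psS
  rw [indFun_eq_sum_transversal _ _ (thetaS_isClassFunction γ) transS transS_bijective g,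
    Fintype.sum_option]
  congr 1
  · simp only [transS, inv_one, one_mul, mul_one]
    split_ifs with h
    · rw [extendByZero_of_mem _ _ ((mem_borS_iff g).mpr h)]
      rfl
    · rw [extendByZero_of_not_mem _ _ (fun hm => h ((mem_borS_iff g).mp hm))]
  · refine Finset.sum_congr rfl fun z _ => ?_
    simp only [transS]
    have hc := conj_nzS_apply g z
    split_ifs with h
    · have hm : (nzS z)⁻¹ * g * nzS z ∈ BorS F := by
        rw [mem_borS_iff, hc]
        simp [h]
      rw [extendByZero_of_mem _ _ hm]
      show γ ((((nzS z)⁻¹ * g * nzS z : SpecialLinearGroup (Fin 2) F) :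
        Matrix (Fin 2) (Fin 2) F) 0 0) = _
      rw [hc]
      simp
    · have hm : (nzS z)⁻¹ * g * nzS z ∉ BorS F := by
        rw [mem_borS_iff, hc]
        simpa using h
      rw [extendByZero_of_not_mem _ _ hm]

/-- The principal series of `SL₂` is the restriction of a principal series of `GL₂`. -/
theorem psS_eq_res (γ : MulChar F ℂ) : psS γ = res (ps γ 1) := by
  funext g
  rw [psS_apply, res_apply, ps_apply]
  have hd := sl_det_eq g
  rw [show ((SpecialLinearGroup.toGL g : GL (Fin 2) F) : Matrix (Fin 2) (Fin 2) F) =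
    (g : Matrix (Fin 2) (Fin 2) F) from rfl]
  congr 1
  · by_cases h : (g : Matrix (Fin 2) (Fin 2) F) 1 0 = 0
    · rw [if_pos h, if_pos (by exact h)]
      rw [h, mul_zero, sub_zero] at hd
      rw [MulChar.one_apply (isUnit_iff_ne_zero.mpr (right_ne_zero_of_mul_eq_one hd)), mul_one]
    · rw [if_neg h, if_neg (by exact h)]
  · refine Finset.sum_congr rfl fun z _ => ?_
    by_cases h : qf (g : Matrix (Fin 2) (Fin 2) F) z 1 = 0
    · rw [if_pos h, if_pos (by exact h)]
      have h1 : ((g : Matrix (Fin 2) (Fin 2) F) 1 0 * z + (g : Matrix (Fin 2) (Fin 2) F) 1 1) *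
          ((g : Matrix (Fin 2) (Fin 2) F) 0 0 - (g : Matrix (Fin 2) (Fin 2) F) 1 0 * z) = 1 := by
        simp only [qf] at h
        linear_combination hd - (g : Matrix (Fin 2) (Fin 2) F) 1 0 * h
      rw [MulChar.one_apply (isUnit_iff_ne_zero.mpr (right_ne_zero_of_mul_eq_one h1)), mul_one]
    · rw [if_neg h, if_neg (by exact h)]

variable [Fintype (MulChar F ℂ)]

/-- Inner products of restrictions of principal series. -/
theorem classInner_res_ps (α β α' β' : MulChar F ℂ) :
    classInner (res (ps α β)) (res (ps α' β')) =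
      ∑ μ : MulChar F ℂ, ((if α * μ = α' ∧ β * μ = β' then (1 : ℂ) else 0) +
        (if α * μ = β' ∧ β * μ = α' then 1 else 0)) := by
  rw [classInner_res]
  refine Finset.sum_congr rfl fun μ _ => ?_
  have h : (fun g : GL (Fin 2) F => ps α β g * μ ((g : Matrix (Fin 2) (Fin 2) F).det)) =
      ps (α * μ) (β * μ) := funext fun g => ps_twist α β μ g
  rw [h, classInner_ps_ps]

/-- Inner products of the principal series of `SL₂`. -/
theorem classInner_psS (γ γ' : MulChar F ℂ) :
    classInner (psS γ) (psS γ') = (if γ = γ' then 1 else 0) + (if γ = γ'⁻¹ then 1 else 0) := by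
  rw [psS_eq_res, psS_eq_res, classInner_res_ps, Finset.sum_add_distrib]
  congr 1
  · rw [Finset.sum_eq_single (1 : MulChar F ℂ)]
    · simp
    · intro μ _ hμ
      rw [if_neg]
      intro h
      exact hμ (by simpa using h.2)
    · intro h
      exact absurd (Finset.mem_univ _) h
  · rw [Finset.sum_eq_single γ']
    · have : γ * γ' = 1 ↔ γ = γ'⁻¹ := mul_eq_one_iff_eq_inv
      simp [this]
    · intro μ _ hμ
      rw [if_neg]
      intro h
      exact hμ (by simpa using h.2)
    · intro h
      exact absurd (Finset.mem_univ _) h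

end IndS

end Cfsg.Agent.Lib.Helper46
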