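import Cfsg.Agent.Lib.Helper46.SL2c
import Cfsg.Agent.Lib.Helper20.Clifford
import Cfsg.Agent.Lib.Helper83.Central

set_option autoImplicit false

namespace Cfsg.Agent.Lib.Helper46

open Cfsg Cfsg.Agent.Lib.Helper4
open scoped ComplexConjugate

section Twist

variable {G : Type*} [Group G]

theorem hom_ne_zero (f : G →* ℂ) (g : G) : f g ≠ 0 := by
  intro h
  have h1 : f g * f g⁻¹ = 1 := by rw [← map_mul, mul_inv_cancel, map_one]
  rw [h, zero_mul] at h1
  exact zero_ne_one h1

/-- The twist of a representation by a homomorphism to `ℂ`. -/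
noncomputable def twistRep {V : Type*} [AddCommGroup V] [Module ℂ V] (ρ : Representation ℂ G V)
    (f : G →* ℂ) : Representation ℂ G V where
  toFun g := f g • ρ g
  map_one' := by simp
  map_mul' a b := by
    rw [map_mul, map_mul, smul_mul_smul_comm]

theorem twistRep_apply {V : Type*} [AddCommGroup V] [Module ℂ V] (ρ : Representation ℂ G V)
    (f : G →* ℂ) (g : G) : twistRep ρ f g = f g • ρ g := rfl

theorem twistRep_irreducible {V : Type*} [AddCommGroup V] [Module ℂ V]
    (ρ : Representation ℂ G V) (f : G →* ℂ) [hρ : ρ.IsIrreducible] :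
    (twistRep ρ f).IsIrreducible := by
  set σ : Representation ℂ G V := twistRep ρ f with hσ
  let up : Subrepresentation σ → Subrepresentation ρ := fun S =>
    ⟨S.toSubmodule, fun g v hv => by
      have h1 := S.apply_mem_toSubmodule g hv
      have h2 : ρ g v = (f g)⁻¹ • σ g v := by
        rw [hσ, twistRep_apply, LinearMap.smul_apply, smul_smul, inv_mul_cancel₀ (hom_ne_zero f g),
          one_smul]
      rw [h2]
      exact S.toSubmodule.smul_mem _ h1⟩
  have : Nontrivial (Subrepresentation σ) := by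
    refine ⟨⊥, ⊤, fun h => ?_⟩
    have h2 : (⊥ : Subrepresentation ρ) = ⊤ := by
      apply Subrepresentation.toSubmodule_injective
      show (⊥ : Submodule ℂ V) = ⊤
      exact congrArg Subrepresentation.toSubmodule h
    exact bot_ne_top h2
  refine ⟨fun S => ?_⟩
  rcases hρ.eq_bot_or_eq_top (up S) with h | h
  · left
    apply Subrepresentation.toSubmodule_injective
    show S.toSubmodule = (⊥ : Submodule ℂ V)
    exact congrArg Subrepresentation.toSubmodule h
  · right
    apply Subrepresentation.toSubmodule_injective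
    show S.toSubmodule = (⊤ : Submodule ℂ V)
    exact congrArg Subrepresentation.toSubmodule h

/-- The product of an irreducible character with a linear character is irreducible. -/
theorem isIrrCharacter_mul_hom (f : G →* ℂ) (χ : G → ℂ) (hχ : IsIrrCharacter G χ) :
    IsIrrCharacter G (fun g => χ g * f g) := by
  obtain ⟨n, ρ, hρ, rfl⟩ := hχ
  refine ⟨n, twistRep ρ f, twistRep_irreducible ρ f, ?_⟩
  funext g
  simp [Representation.character, twistRep_apply, mul_comm]

end Twist

section Gen

variable {G : Type*} [Group G] [Fintype G]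

/-- A character of norm `2` is the sum of two distinct irreducible characters. -/
theorem exists_decomp_norm_two (φ : G → ℂ) (hφ : IsCharacter G φ) (h2 : classInner φ φ = 2) :
    ∃ χ₁ χ₂ : G → ℂ, IsIrrCharacter G χ₁ ∧ IsIrrCharacter G χ₂ ∧ χ₁ ≠ χ₂ ∧ φ = χ₁ + χ₂ := by
  classical
  have := irr_finite (G := G)
  let _ : Fintype (IrrCharacter G) := Fintype.ofFinite _
  obtain ⟨m, hm⟩ := exists_decomp_of_isCharacter φ hφ
  have h3 : classInner φ φ = ∑ χ : IrrCharacter G, ((m χ : ℂ)) * conj ((m χ : ℂ)) := by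
    conv_lhs => rw [hm]
    exact classInner_sum_sum_irr _ _
  rw [h2] at h3
  have h4 : ∑ χ : IrrCharacter G, m χ * m χ = 2 := by
    have : ((∑ χ : IrrCharacter G, m χ * m χ : ℕ) : ℂ) = 2 := by
      rw [h3]
      push_cast
      simp
    exact_mod_cast this
  have h5 : ∃ χ₀, m χ₀ ≠ 0 := by
    by_contra hcon
    push Not at hcon
    simp [hcon] at h4
  obtain ⟨χ₀, hχ₀⟩ := h5
  have h6 : m χ₀ = 1 := by
    have hle : m χ₀ * m χ₀ ≤ ∑ χ : IrrCharacter G, m χ * m χ :=
      Finset.single_le_sum (f := fun χ => m χ * m χ) (fun _ _ => Nat.zero_le _)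
        (Finset.mem_univ χ₀)
    rw [h4] at hle
    have : m χ₀ < 2 := by nlinarith
    omega
  have h7 : classInner φ (χ₀ : G → ℂ) = 1 := by
    have h := classInner_sum_irr (fun χ => (m χ : ℂ)) χ₀
    rw [← hm] at h
    rw [h, h6, Nat.cast_one]
  have h8 := isIrrCharacter_sub φ χ₀.1 hφ χ₀.2 h2 h7
  refine ⟨χ₀.1, φ - χ₀.1, χ₀.2, h8, ?_, by abel⟩
  intro heq
  have h9 : φ = (2 : ℂ) • χ₀.1 := by
    have : φ = χ₀.1 + (φ - χ₀.1) := by abel
    rw [← heq] at this
    rw [this, two_smul]
  have h10 : classInner φ φ = 4 := by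
    rw [h9, classInner_smul_left, classInner_smul_right, classInner_irr_self _ χ₀.2, map_ofNat]
    norm_num
  rw [h2] at h10
  norm_num at h10

/-- Every irreducible character of a subgroup-like group `K` (embedded in `G`) is a constituent
of the restriction of an irreducible character of `G`. -/
theorem exists_constituent {K : Type*} [Group K] [Fintype K] (f : K →* G)
    (hf : Function.Injective f) (ψ : K → ℂ) (hψ : IsIrrCharacter K ψ) :
    ∃ χ : G → ℂ, IsIrrCharacter G χ ∧ classInner (fun k => χ (f k)) ψ ≠ 0 := by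
  classical
  have := irr_finite (G := G)
  let _ : Fintype (IrrCharacter G) := Fintype.ofFinite _
  let e : K ≃* f.range := MonoidHom.ofInjective hf
  let _ : Fintype f.range := Fintype.ofFinite _
  set θ : f.range → ℂ := fun h => ψ (e.symm h) with hθdef
  have hθ : IsIrrCharacter f.range θ :=
    isIrrCharacter_comp_surjective e.symm.toMonoidHom e.symm.surjective ψ hψ
  by_contra hcon
  push Not at hcon
  have hzero : indFun f.range θ = 0 := by
    rw [classFunction_expansion (indFun f.range θ) (indFun_isClassFunction f.range θ)]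
    apply Finset.sum_eq_zero
    intro χ _
    have h1 : classInner (indFun f.range θ) χ.1 = 0 := by
      rw [frobenius f.range θ χ.1 (isClassFunction_irr χ),
        ← Cfsg.Agent.Lib.Helper20.classInner_comp_equiv e θ (fun h : f.range => χ.1 h)]
      have e1 : (fun k => θ (e k)) = ψ := by
        funext k
        simp [hθdef]
      have e2 : (fun k => χ.1 ((e k : f.range) : G)) = fun k => χ.1 (f k) := rfl
      rw [e1, e2, classInner_conj_symm, hcon χ.1 χ.2, map_zero]
    rw [h1, zero_smul]
  have h1 : indFun f.range θ 1 = (Nat.card f.range : ℂ)⁻¹ * ((Fintype.card G : ℂ) * ψ 1) := by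
    unfold indFun
    congr 1
    have h2 : ∀ x : G, extendByZero f.range θ (x⁻¹ * 1 * x) = ψ 1 := by
      intro x
      have h3 : x⁻¹ * 1 * x = ((1 : f.range) : G) := by simp
      rw [h3, extendByZero_coe]
      simp [hθdef]
    rw [Finset.sum_congr rfl (fun x _ => h2 x), Finset.sum_const, Finset.card_univ, nsmul_eq_mul]
  rw [hzero] at h1
  have h4 : (Nat.card f.range : ℂ) ≠ 0 := Nat.cast_ne_zero.mpr Nat.card_pos.ne'
  have h5 : (Fintype.card G : ℂ) ≠ 0 := Nat.cast_ne_zero.mpr Fintype.card_pos.ne'
  have h6 := irr_one_ne_zero (⟨ψ, hψ⟩ : IrrCharacter K)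
  have h7 : (Nat.card f.range : ℂ)⁻¹ * ((Fintype.card G : ℂ) * ψ 1) ≠ 0 :=
    mul_ne_zero (inv_ne_zero h4) (mul_ne_zero h5 h6)
  exact h7 h1.symm

/-- Clifford: the irreducible constituents of the restriction of an irreducible character to a
normal subgroup-like group are conjugate. -/
theorem clifford_inj {K : Type*} [Group K] [Fintype K] (f : K →* G)
    (hf : Function.Injective f) (hn : f.range.Normal) (χ : G → ℂ) (hχ : IsIrrCharacter G χ)
    (ψ ψ' : K → ℂ) (hψ : IsIrrCharacter K ψ) (hψ' : IsIrrCharacter K ψ')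
    (h1 : classInner (fun k => χ (f k)) ψ ≠ 0) (h2 : classInner (fun k => χ (f k)) ψ' ≠ 0) :
    ∃ x : G, ∀ k k' : K, f k' = x * f k * x⁻¹ → ψ' k = ψ k' := by
  classical
  let e : K ≃* f.range := MonoidHom.ofInjective hf
  let _ : Fintype f.range := Fintype.ofFinite _
  set θ : f.range → ℂ := fun h => ψ (e.symm h) with hθdef
  set θ' : f.range → ℂ := fun h => ψ' (e.symm h) with hθ'def
  have hθ : IsIrrCharacter f.range θ :=
    isIrrCharacter_comp_surjective e.symm.toMonoidHom e.symm.surjective ψ hψ
  have hθ' : IsIrrCharacter f.range θ' :=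
    isIrrCharacter_comp_surjective e.symm.toMonoidHom e.symm.surjective ψ' hψ'
  have key : ∀ (η : K → ℂ), classInner (fun h : f.range => χ h) (fun h => η (e.symm h)) =
      classInner (fun k => χ (f k)) η := by
    intro η
    rw [← Cfsg.Agent.Lib.Helper20.classInner_comp_equiv e (fun h : f.range => χ h)
      (fun h => η (e.symm h))]
    have e1 : (fun k => (fun h : f.range => η (e.symm h)) (e k)) = η := by
      funext k
      simp
    rw [e1]
    rfl
  have c1 : classInner (fun h : f.range => χ h) θ ≠ 0 := by rw [hθdef, key]; exact h1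
  have c2 : classInner (fun h : f.range => χ h) θ' ≠ 0 := by rw [hθ'def, key]; exact h2
  obtain ⟨x, hx⟩ := Cfsg.Agent.Lib.Helper20.clifford_conj f.range hθ hχ c1 hθ' c2
  refine ⟨x, fun k k' hk => ?_⟩
  have h3 := congrFun hx (e k)
  rw [Cfsg.Agent.Lib.Helper20.conjFun_apply] at h3
  have h4 : θ' (e k) = ψ' k := by simp [hθ'def]
  rw [h4] at h3
  rw [h3, hθdef]
  show ψ (e.symm _) = ψ k'
  congr 1
  rw [MulEquiv.symm_apply_eq]
  apply Subtype.ext
  show x * f k * x⁻¹ = f k'
  exact hk.symm

end Gen

end Cfsg.Agent.Lib.Helper46
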