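import Cfsg.Agent.Lib.Helper46.SL2d

set_option autoImplicit false

namespace Cfsg.Agent.Lib.Helper46

open Matrix Cfsg Cfsg.Agent.Lib.Helper4
open scoped ComplexConjugate

section Str

open scoped Classical

variable {F : Type*} [Field F] [Fintype F]

omit [Fintype F] in
theorem mem_range_toGL_iff (g : GL (Fin 2) F) :
    g ∈ (SpecialLinearGroup.toGL (n := Fin 2) (R := F)).range ↔
      (g : Matrix (Fin 2) (Fin 2) F).det = 1 := by
  constructor
  · rintro ⟨s, rfl⟩
    exact s.2
  · intro hd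
    exact ⟨⟨(g : Matrix (Fin 2) (Fin 2) F), hd⟩, Units.ext rfl⟩

omit [Fintype F] in
theorem toGL_range_normal : (SpecialLinearGroup.toGL (n := Fin 2) (R := F)).range.Normal := by
  constructor
  intro g hg x
  rw [mem_range_toGL_iff] at hg ⊢
  rw [gl_det_conj, hg]

/-- The twist of a function on `GL₂` by `μ ∘ det`. -/
noncomputable def twist (χ : GL (Fin 2) F → ℂ) (μ : MulChar F ℂ) : GL (Fin 2) F → ℂ :=
  fun g => χ g * μ ((g : Matrix (Fin 2) (Fin 2) F).det)

theorem twist_irr (χ : GL (Fin 2) F → ℂ) (hχ : IsIrrCharacter (GL (Fin 2) F) χ)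
    (μ : MulChar F ℂ) : IsIrrCharacter (GL (Fin 2) F) (twist χ μ) :=
  isIrrCharacter_mul_hom (detHom μ) χ hχ

/-- The scalar matrix `a • 1` as an element of `GL₂`. -/
def glScalar (a : F) (ha : a ≠ 0) : GL (Fin 2) F :=
  ((upperMk a a 0 ha ha : upperTriangularGL 2 F) : GL (Fin 2) F)

omit [Fintype F] in
theorem glScalar_coe (a : F) (ha : a ≠ 0) :
    ((glScalar a ha : GL (Fin 2) F) : Matrix (Fin 2) (Fin 2) F) = !![a, 0; 0, a] := rfl

omit [Fintype F] in
theorem glScalar_mem_center (a : F) (ha : a ≠ 0) : glScalar a ha ∈ Subgroup.center (GL (Fin 2) F) := by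
  rw [Subgroup.mem_center_iff]
  intro g
  apply Units.ext
  rw [Units.val_mul, Units.val_mul, glScalar_coe]
  ext i j
  fin_cases i <;> fin_cases j <;> simp [Matrix.mul_apply, Fin.sum_univ_two, mul_comm]

theorem irr_glScalar_ne_zero (χ : GL (Fin 2) F → ℂ) (hχ : IsIrrCharacter (GL (Fin 2) F) χ)
    (a : F) (ha : a ≠ 0) : χ (glScalar a ha) ≠ 0 := by
  have h1 := Cfsg.Agent.Lib.Helper83.irr_central_norm (⟨χ, hχ⟩ : IrrCharacter (GL (Fin 2) F))
    (glScalar a ha) (glScalar_mem_center a ha)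
  have h2 := (Cfsg.Agent.Lib.Helper83.irr_degree hχ).1
  intro h
  have h3 : ‖χ (glScalar a ha)‖ = (charDegree χ : ℝ) := h1
  rw [h, norm_zero] at h3
  have h4 : (charDegree χ : ℝ) ≠ 0 := by exact_mod_cast h2.ne'
  exact h4 h3.symm

theorem twist_eq_imp_sq (χ : GL (Fin 2) F → ℂ) (hχ : IsIrrCharacter (GL (Fin 2) F) χ)
    (μ : MulChar F ℂ) (h : twist χ μ = χ) : μ ^ 2 = 1 := by
  apply MulChar.ext
  intro a
  have ha : (a : F) ≠ 0 := a.ne_zero
  have h1 := congrFun h (glScalar a ha)
  unfold twist at h1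
  have h2 : ((glScalar (a : F) ha : GL (Fin 2) F) : Matrix (Fin 2) (Fin 2) F).det = (a : F) ^ 2 := by
    rw [glScalar_coe]
    simp [Matrix.det_fin_two, sq]
  rw [h2] at h1
  have h3 : μ ((a : F) ^ 2) = 1 := by
    have h4 := irr_glScalar_ne_zero χ hχ a ha
    have h5 : χ (glScalar (a : F) ha) * (μ ((a : F) ^ 2) - 1) = 0 := by linear_combination h1
    rcases mul_eq_zero.mp h5 with h6 | h6
    · exact absurd h6 h4
    · linear_combination h6
  rw [MulChar.pow_apply_coe, MulChar.one_apply_coe, ← map_pow]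
  exact h3

theorem natCard_mulChar_sq :
    Nat.card {μ : MulChar F ℂ // μ ^ 2 = 1} = Nat.card {a : F // a ^ 2 = 1} := by
  obtain ⟨e⟩ := MulChar.mulEquiv_units F ℂ
  have e1 : {μ : MulChar F ℂ // μ ^ 2 = 1} ≃ {u : Fˣ // u ^ 2 = 1} :=
    e.toEquiv.subtypeEquiv (fun μ => by
      show μ ^ 2 = 1 ↔ (e μ) ^ 2 = 1
      rw [← map_pow, MulEquiv.map_eq_one_iff])
  have e2 : {u : Fˣ // u ^ 2 = 1} ≃ {a : F // a ^ 2 = 1} :=
    { toFun := fun u => ⟨(u.1 : F), by
        have := congrArg Units.val u.2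
        simpa using this⟩
      invFun := fun a => ⟨Units.mk0 a.1 (by
        intro h
        have := a.2
        rw [h] at this
        simp at this), by
        apply Units.ext
        simpa using a.2⟩
      left_inv := fun u => by
        apply Subtype.ext
        apply Units.ext
        rfl
      right_inv := fun a => by
        apply Subtype.ext
        rfl }
  exact Nat.card_congr (e1.trans e2)

theorem natCard_sq_le : Nat.card {a : F // a ^ 2 = 1} ≤ 2 := by
  by_cases h2 : (2 : F) = 0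
  · have : CharP F 2 := CharTwo.of_one_ne_zero_of_two_eq_zero one_ne_zero h2
    rw [card_sq_eq_one_even]
    norm_num
  · rw [card_sq_eq_one_odd h2]

variable [Fintype (MulChar F ℂ)]

/-- The norm of the restriction to `SL₂` of an irreducible character of `GL₂`. -/
theorem classInner_res_self (χ : GL (Fin 2) F → ℂ) (hχ : IsIrrCharacter (GL (Fin 2) F) χ) :
    classInner (res χ) (res χ) =
      ((Finset.univ.filter (fun μ : MulChar F ℂ => twist χ μ = χ)).card : ℂ) := by
  rw [classInner_res, Finset.card_filter, Nat.cast_sum]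
  refine Finset.sum_congr rfl fun μ _ => ?_
  by_cases h : twist χ μ = χ
  · rw [if_pos h]
    have : (fun g : GL (Fin 2) F => χ g * μ ((g : Matrix (Fin 2) (Fin 2) F).det)) = χ := h
    rw [this, classInner_irr_self χ hχ, Nat.cast_one]
  · rw [if_neg h, Nat.cast_zero]
    exact classInner_irr_ne _ _ (twist_irr χ hχ μ) hχ h

theorem card_twist_le (χ : GL (Fin 2) F → ℂ) (hχ : IsIrrCharacter (GL (Fin 2) F) χ) :
    1 ≤ (Finset.univ.filter (fun μ : MulChar F ℂ => twist χ μ = χ)).card ∧
    (Finset.univ.filter (fun μ : MulChar F ℂ => twist χ μ = χ)).card ≤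
      Nat.card {a : F // a ^ 2 = 1} := by
  constructor
  · apply Finset.card_pos.mpr
    refine ⟨1, ?_⟩
    simp only [Finset.mem_filter, Finset.mem_univ, true_and]
    funext g
    unfold twist
    rw [MulChar.one_apply (isUnit_iff_ne_zero.mpr (gl_det_ne_zero g)), mul_one]
  · rw [← natCard_mulChar_sq, Nat.card_eq_fintype_card, Fintype.card_subtype]
    apply Finset.card_le_card
    intro μ hμ
    simp only [Finset.mem_filter, Finset.mem_univ, true_and] at hμ ⊢
    exact twist_eq_imp_sq χ hχ μ hμ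

end Str

end Cfsg.Agent.Lib.Helper46
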