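import Cfsg.Agent.Lib.Helper46.SL2e

set_option autoImplicit false

namespace Cfsg.Agent.Lib.Helper46

open Matrix Cfsg Cfsg.Agent.Lib.Helper4
open scoped ComplexConjugate

section Str

open scoped Classical

variable {F : Type*} [Field F] [Fintype F]

/-- Two functions on `SL₂` are conjugate under an element of `GL₂`. -/
def ConjGL (ψ ψ' : SpecialLinearGroup (Fin 2) F → ℂ) : Prop :=
  ∃ x : GL (Fin 2) F, ∀ s t : SpecialLinearGroup (Fin 2) F,
    SpecialLinearGroup.toGL t = x * SpecialLinearGroup.toGL s * x⁻¹ → ψ' s = ψ t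

omit [Fintype F] in
theorem ConjGL.one_eq {ψ ψ' : SpecialLinearGroup (Fin 2) F → ℂ} (h : ConjGL ψ ψ') :
    ψ' 1 = ψ 1 := by
  obtain ⟨x, hx⟩ := h
  exact hx 1 1 (by simp)

theorem res_isCharacter (χ : GL (Fin 2) F → ℂ) (hχ : IsIrrCharacter (GL (Fin 2) F) χ) :
    IsCharacter (SpecialLinearGroup (Fin 2) F) (res χ) :=
  isCharacter_comp SpecialLinearGroup.toGL χ (isCharacter_of_irr χ hχ)

theorem classInner_add_irr (ψ ψ' : SpecialLinearGroup (Fin 2) F → ℂ)
    (hψ : IsIrrCharacter (SpecialLinearGroup (Fin 2) F) ψ)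
    (hψ' : IsIrrCharacter (SpecialLinearGroup (Fin 2) F) ψ') (hne : ψ ≠ ψ') :
    classInner (ψ + ψ') ψ = 1 ∧ classInner (ψ + ψ') ψ' = 1 ∧
      classInner (ψ + ψ') (ψ + ψ') = 2 := by
  have h1 := classInner_irr_self ψ hψ
  have h2 := classInner_irr_self ψ' hψ'
  have h3 := classInner_irr_ne ψ ψ' hψ hψ' hne
  have h4 := classInner_irr_ne ψ' ψ hψ' hψ hne.symm
  refine ⟨?_, ?_, ?_⟩
  · rw [classInner_add_left, h1, h4, add_zero]
  · rw [classInner_add_left, h3, h2, zero_add]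
  · rw [classInner_add_left, classInner_add_right, classInner_add_right, h1, h2, h3, h4]
    norm_num

/-- The restriction to `SL₂` of an irreducible character of `GL₂` is irreducible or the sum of
two distinct conjugate irreducible characters. -/
theorem res_cases (χ : GL (Fin 2) F → ℂ) (hχ : IsIrrCharacter (GL (Fin 2) F) χ) :
    IsIrrCharacter (SpecialLinearGroup (Fin 2) F) (res χ) ∨
    ((2 : F) ≠ 0 ∧ ∃ ψ ψ' : SpecialLinearGroup (Fin 2) F → ℂ,
      IsIrrCharacter (SpecialLinearGroup (Fin 2) F) ψ ∧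
      IsIrrCharacter (SpecialLinearGroup (Fin 2) F) ψ' ∧ ψ ≠ ψ' ∧ res χ = ψ + ψ' ∧
      ConjGL ψ ψ') := by
  let _ : Fintype (MulChar F ℂ) := Fintype.ofFinite _
  have := irr_finite (G := SpecialLinearGroup (Fin 2) F)
  let _ : Fintype (IrrCharacter (SpecialLinearGroup (Fin 2) F)) := Fintype.ofFinite _
  have hn := classInner_res_self χ hχ
  obtain ⟨h1, h2⟩ := card_twist_le χ hχ
  have h3 := natCard_sq_le (F := F)
  by_cases hc : (Finset.univ.filter (fun μ : MulChar F ℂ => twist χ μ = χ)).card = 1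
  · left
    apply isIrrCharacter_of_norm_one _ (res_isCharacter χ hχ)
    rw [hn, hc, Nat.cast_one]
  · right
    have hc2 : (Finset.univ.filter (fun μ : MulChar F ℂ => twist χ μ = χ)).card = 2 := by omega
    have h20 : (2 : F) ≠ 0 := by
      intro h
      have : CharP F 2 := CharTwo.of_one_ne_zero_of_two_eq_zero one_ne_zero h
      rw [card_sq_eq_one_even] at h2
      omega
    refine ⟨h20, ?_⟩
    rw [hc2] at hn
    obtain ⟨ψ, ψ', hψ, hψ', hne, heq⟩ :=
      exists_decomp_norm_two (res χ) (res_isCharacter χ hχ) (by rw [hn]; norm_num)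
    refine ⟨ψ, ψ', hψ, hψ', hne, heq, ?_⟩
    obtain ⟨e1, e2, -⟩ := classInner_add_irr ψ ψ' hψ hψ' hne
    apply clifford_inj SpecialLinearGroup.toGL SpecialLinearGroup.toGL_injective
      toGL_range_normal χ hχ ψ ψ' hψ hψ'
    · show classInner (res χ) ψ ≠ 0
      rw [heq, e1]
      exact one_ne_zero
    · show classInner (res χ) ψ' ≠ 0
      rw [heq, e2]
      exact one_ne_zero

/-- Every irreducible character of `SL₂` lies under an irreducible character of `GL₂`. -/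
theorem sl2_irr_under (ψ : SpecialLinearGroup (Fin 2) F → ℂ)
    (hψ : IsIrrCharacter (SpecialLinearGroup (Fin 2) F) ψ) :
    ∃ χ : GL (Fin 2) F → ℂ, IsIrrCharacter (GL (Fin 2) F) χ ∧
      (res χ = ψ ∨ ((2 : F) ≠ 0 ∧ ∃ ψ' : SpecialLinearGroup (Fin 2) F → ℂ,
        IsIrrCharacter (SpecialLinearGroup (Fin 2) F) ψ' ∧ ψ ≠ ψ' ∧ res χ = ψ + ψ' ∧
        ConjGL ψ ψ' ∧ ConjGL ψ' ψ)) := by
  obtain ⟨χ, hχ, hne⟩ := exists_constituent SpecialLinearGroup.toGL
    SpecialLinearGroup.toGL_injective ψ hψ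
  have hne' : classInner (res χ) ψ ≠ 0 := hne
  refine ⟨χ, hχ, ?_⟩
  rcases res_cases χ hχ with h | ⟨h20, ψ₁, ψ₂, h₁, h₂, h12, heq, hconj⟩
  · left
    exact (eq_of_classInner_ne_zero _ _ h hψ hne').symm
  · right
    refine ⟨h20, ?_⟩
    rw [heq, classInner_add_left] at hne'
    have hconj' : ConjGL ψ₂ ψ₁ := by
      obtain ⟨x, hx⟩ := hconj
      refine ⟨x⁻¹, fun s t hst => ?_⟩
      have : SpecialLinearGroup.toGL s = x * SpecialLinearGroup.toGL t * x⁻¹ := by
        rw [hst]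
        group
      exact (hx t s this).symm
    by_cases h1 : classInner ψ₁ ψ = 0
    · rw [h1, zero_add] at hne'
      have e : ψ = ψ₂ := eq_of_classInner_ne_zero _ _ h₂ hψ hne'
      subst e
      exact ⟨ψ₁, h₁, h12.symm, by rw [heq, add_comm], hconj', hconj⟩
    · have e : ψ = ψ₁ := eq_of_classInner_ne_zero _ _ h₁ hψ h1
      subst e
      exact ⟨ψ₂, h₂, h12, heq, hconj, hconj'⟩

end Str

end Cfsg.Agent.Lib.Helper46
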