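import Cfsg.Agent.Lib.Helper46.SL2f

set_option autoImplicit false

namespace Cfsg.Agent.Lib.Helper46

open Matrix Cfsg Cfsg.Agent.Lib.Helper4
open scoped ComplexConjugate

section Cases

open scoped Classical

variable {F : Type*} [Field F] [Fintype F]

theorem res_detChar (α : MulChar F ℂ) : res (detChar α) = fun _ => 1 := by
  funext s
  show α ((SpecialLinearGroup.toGL s : GL (Fin 2) F) : Matrix (Fin 2) (Fin 2) F).det = 1
  rw [show ((SpecialLinearGroup.toGL s : GL (Fin 2) F) : Matrix (Fin 2) (Fin 2) F).det = 1 from s.2,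
    map_one]

theorem twist_st (α μ : MulChar F ℂ) : twist (st α) μ = st (α * μ) :=
  funext fun g => st_twist α μ g

theorem twist_ps (α β μ : MulChar F ℂ) : twist (ps α β) μ = ps (α * μ) (β * μ) :=
  funext fun g => ps_twist α β μ g

theorem res_twist' (χ : GL (Fin 2) F → ℂ) (μ : MulChar F ℂ) : res (twist χ μ) = res χ := by
  let _ : Fintype (MulChar F ℂ) := Fintype.ofFinite _
  exact res_twist χ μ

theorem res_st (α : MulChar F ℂ) : res (st α) = res (st 1) := by
  have h := res_twist' (st (1 : MulChar F ℂ)) α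
  rw [twist_st, one_mul] at h
  exact h

theorem res_ps (α β : MulChar F ℂ) : res (ps α β) = psS (α * β⁻¹) := by
  have h := res_twist' (ps (α * β⁻¹) (1 : MulChar F ℂ)) β
  rw [twist_ps, one_mul, inv_mul_cancel_right] at h
  rw [psS_eq_res, h]

/-- The Steinberg character of `SL₂`. -/
noncomputable def stS : SpecialLinearGroup (Fin 2) F → ℂ := res (st (1 : MulChar F ℂ))

theorem stS_irr : IsIrrCharacter (SpecialLinearGroup (Fin 2) F) (stS (F := F)) := by
  let _ : Fintype (MulChar F ℂ) := Fintype.ofFinite _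
  have := irr_finite (G := SpecialLinearGroup (Fin 2) F)
  let _ : Fintype (IrrCharacter (SpecialLinearGroup (Fin 2) F)) := Fintype.ofFinite _
  apply isIrrCharacter_of_norm_one _ (res_isCharacter _ (st_irr 1))
  show classInner (res (st (1 : MulChar F ℂ))) (res (st (1 : MulChar F ℂ))) = 1
  rw [classInner_res_self _ (st_irr 1)]
  have : Finset.univ.filter (fun μ : MulChar F ℂ => twist (st (1 : MulChar F ℂ)) μ = st 1) = {1} := by
    ext μ
    simp only [Finset.mem_filter, Finset.mem_univ, true_and, Finset.mem_singleton]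
    rw [twist_st, one_mul]
    exact ⟨fun h => st_injective h, fun h => by rw [h]⟩
  rw [this, Finset.card_singleton, Nat.cast_one]

theorem psS_norm (γ : MulChar F ℂ) :
    classInner (psS γ) (psS γ) = 1 + if γ ^ 2 = 1 then 1 else 0 := by
  let _ : Fintype (MulChar F ℂ) := Fintype.ofFinite _
  rw [classInner_psS, if_pos rfl]
  have e : γ = γ⁻¹ ↔ γ ^ 2 = 1 := by rw [sq, eq_inv_iff_mul_eq_one]
  simp only [e]

theorem psS_irr (γ : MulChar F ℂ) (h : γ ^ 2 ≠ 1) :
    IsIrrCharacter (SpecialLinearGroup (Fin 2) F) (psS γ) := by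
  have := irr_finite (G := SpecialLinearGroup (Fin 2) F)
  let _ : Fintype (IrrCharacter (SpecialLinearGroup (Fin 2) F)) := Fintype.ofFinite _
  apply isIrrCharacter_of_norm_one _ (psS_isCharacter γ)
  rw [psS_norm, if_neg h, add_zero]

/-- The classification of the irreducible characters of `SL₂(F)`. -/
theorem sl2_cases (ψ : SpecialLinearGroup (Fin 2) F → ℂ)
    (hψ : IsIrrCharacter (SpecialLinearGroup (Fin 2) F) ψ) :
    (ψ = fun _ => 1) ∨ (ψ = stS) ∨ (∃ γ : MulChar F ℂ, γ ^ 2 ≠ 1 ∧ ψ = psS γ) ∨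
    ((2 : F) ≠ 0 ∧ ∃ (γ : MulChar F ℂ) (ψ' : SpecialLinearGroup (Fin 2) F → ℂ),
      γ ^ 2 = 1 ∧ γ ≠ 1 ∧ IsIrrCharacter (SpecialLinearGroup (Fin 2) F) ψ' ∧ ψ ≠ ψ' ∧
      psS γ = ψ + ψ' ∧ ConjGL ψ ψ' ∧ ConjGL ψ' ψ) ∨
    (∃ χ : GL (Fin 2) F → ℂ, IsIrrCharacter (GL (Fin 2) F) χ ∧ Cuspidal χ ∧
      χ 1 = (Fintype.card F : ℂ) - 1 ∧ ψ = res χ) ∨
    ((2 : F) ≠ 0 ∧ ∃ (χ : GL (Fin 2) F → ℂ) (ψ' : SpecialLinearGroup (Fin 2) F → ℂ),
      IsIrrCharacter (GL (Fin 2) F) χ ∧ Cuspidal χ ∧ χ 1 = (Fintype.card F : ℂ) - 1 ∧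
      IsIrrCharacter (SpecialLinearGroup (Fin 2) F) ψ' ∧ ψ ≠ ψ' ∧
      res χ = ψ + ψ' ∧ ConjGL ψ ψ' ∧ ConjGL ψ' ψ) := by
  obtain ⟨χ, hχ, hcase⟩ := sl2_irr_under ψ hψ
  -- in the second case the restriction has norm two, so is not irreducible
  have hnot : ∀ ψ' : SpecialLinearGroup (Fin 2) F → ℂ,
      IsIrrCharacter (SpecialLinearGroup (Fin 2) F) ψ' → ψ ≠ ψ' → res χ = ψ + ψ' →
      ¬ IsIrrCharacter (SpecialLinearGroup (Fin 2) F) (res χ) := by
    intro ψ' hψ' hne heq hirr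
    have h1 := classInner_irr_self _ hirr
    rw [heq, (classInner_add_irr ψ ψ' hψ hψ' hne).2.2] at h1
    norm_num at h1
  rcases gl2_irr_cases χ hχ with ⟨α, rfl⟩ | ⟨α, rfl⟩ | ⟨α, β, hαβ, rfl⟩ | ⟨hc, hdeg⟩
  · rcases hcase with h | ⟨-, ψ', hψ', hne, heq, -, -⟩
    · left
      rw [← h, res_detChar]
    · exfalso
      apply hnot ψ' hψ' hne heq
      rw [res_detChar]
      exact isIrrCharacter_one
  · rcases hcase with h | ⟨-, ψ', hψ', hne, heq, -, -⟩
    · right; left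
      rw [← h, res_st]
      rfl
    · exfalso
      apply hnot ψ' hψ' hne heq
      rw [res_st]
      exact stS_irr
  · have hγ : α * β⁻¹ ≠ 1 := fun h => hαβ (mul_inv_eq_one.mp h)
    rcases hcase with h | ⟨h20, ψ', hψ', hne, heq, hc1, hc2⟩
    · right; right; left
      refine ⟨α * β⁻¹, ?_, by rw [← h, res_ps]⟩
      intro hsq
      have h1 := psS_norm (α * β⁻¹)
      rw [if_pos hsq, ← res_ps, h, classInner_irr_self ψ hψ] at h1
      norm_num at h1
    · right; right; right; left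
      refine ⟨h20, α * β⁻¹, ψ', ?_, hγ, hψ', hne, by rw [← res_ps, heq], hc1, hc2⟩
      by_contra hsq
      exact hnot ψ' hψ' hne heq (by rw [res_ps]; exact psS_irr _ hsq)
  · rcases hcase with h | ⟨h20, ψ', hψ', hne, heq, hc1, hc2⟩
    · right; right; right; right; left
      exact ⟨χ, hχ, hc, hdeg, h.symm⟩
    · right; right; right; right; right
      exact ⟨h20, χ, ψ', hχ, hc, hdeg, hψ', hne, heq, hc1, hc2⟩

end Cases

end Cfsg.Agent.Lib.Helper46
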