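import Cfsg.Agent.Lib.Helper46.SL2g

set_option autoImplicit false

namespace Cfsg.Agent.Lib.Helper46

open Matrix Cfsg Cfsg.Agent.Lib.Helper4
open scoped ComplexConjugate

section Vals

open scoped Classical

variable {F : Type*} [Field F] [Fintype F]

omit [Fintype F] in
theorem res_one (χ : GL (Fin 2) F → ℂ) : res χ 1 = χ 1 := by
  show χ (SpecialLinearGroup.toGL 1) = χ 1
  rw [map_one]

theorem stS_one : stS (F := F) 1 = (Fintype.card F : ℂ) := by
  unfold stS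
  rw [res_one, st_one]

theorem psS_one (γ : MulChar F ℂ) : psS γ 1 = (Fintype.card F : ℂ) + 1 := by
  rw [psS_eq_res, res_one, ps_one]

omit [Fintype F] in
theorem toGL_eq_glU (u : SpecialLinearGroup (Fin 2) F)
    (hu : (u : Matrix (Fin 2) (Fin 2) F) = !![1, 1; 0, 1]) :
    SpecialLinearGroup.toGL u = glU := Units.ext hu

theorem stS_diag (g : SpecialLinearGroup (Fin 2) F)
    (h01 : (g : Matrix (Fin 2) (Fin 2) F) 0 1 = 0) (h10 : (g : Matrix (Fin 2) (Fin 2) F) 1 0 = 0)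
    (hne : (g : Matrix (Fin 2) (Fin 2) F) 0 0 ^ 2 ≠ 1) : stS g = 1 := by
  have hd := sl_det_eq g
  rw [h01, zero_mul, sub_zero] at hd
  have h0 := left_ne_zero_of_mul_eq_one hd
  have h1 := right_ne_zero_of_mul_eq_one hd
  have hne' : (g : Matrix (Fin 2) (Fin 2) F) 0 0 ≠ (g : Matrix (Fin 2) (Fin 2) F) 1 1 := by
    intro h
    apply hne
    rw [sq]
    rw [← h] at hd
    exact hd
  show st (1 : MulChar F ℂ) (SpecialLinearGroup.toGL g) = 1
  rw [st_diag 1 (SpecialLinearGroup.toGL g) h01 h10 hne']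
  show (1 : MulChar F ℂ) ((g : Matrix (Fin 2) (Fin 2) F) 0 0) *
    (1 : MulChar F ℂ) ((g : Matrix (Fin 2) (Fin 2) F) 1 1) = 1
  rw [MulChar.one_apply (isUnit_iff_ne_zero.mpr h0), MulChar.one_apply (isUnit_iff_ne_zero.mpr h1),
    mul_one]

theorem stS_elliptic (g : SpecialLinearGroup (Fin 2) F)
    (hg : ∀ (c : F) (v : Fin 2 → F), v ≠ 0 → (g : Matrix (Fin 2) (Fin 2) F).mulVec v ≠ c • v) :
    stS g = -1 := by
  show st (1 : MulChar F ℂ) (SpecialLinearGroup.toGL g) = -1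
  rw [st_elliptic 1 (SpecialLinearGroup.toGL g) hg]
  show -(1 : MulChar F ℂ) ((g : Matrix (Fin 2) (Fin 2) F).det) = -1
  rw [g.2, map_one]

theorem stS_unipotent (g : SpecialLinearGroup (Fin 2) F)
    (h10 : (g : Matrix (Fin 2) (Fin 2) F) 1 0 = 0)
    (heq : (g : Matrix (Fin 2) (Fin 2) F) 0 0 = (g : Matrix (Fin 2) (Fin 2) F) 1 1)
    (h01 : (g : Matrix (Fin 2) (Fin 2) F) 0 1 ≠ 0) : stS g = 0 :=
  st_unipotent 1 (SpecialLinearGroup.toGL g) h10 heq h01

theorem psS_elliptic (γ : MulChar F ℂ) (g : SpecialLinearGroup (Fin 2) F)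
    (hg : ∀ (c : F) (v : Fin 2 → F), v ≠ 0 → (g : Matrix (Fin 2) (Fin 2) F).mulVec v ≠ c • v) :
    psS γ g = 0 := by
  rw [psS_eq_res]
  exact ps_elliptic γ 1 (SpecialLinearGroup.toGL g) hg

theorem psS_slU (γ : MulChar F ℂ) (u : SpecialLinearGroup (Fin 2) F)
    (hu : (u : Matrix (Fin 2) (Fin 2) F) = !![1, 1; 0, 1]) : psS γ u = 1 := by
  rw [psS_eq_res, res_apply, toGL_eq_glU u hu, ps_glU]

/-- Degree bookkeeping: an equation between complex casts of naturals. -/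
theorem nat_of_cast {m n : ℕ} (h : (m : ℂ) = (n : ℂ)) : m = n := Nat.cast_injective h

end Vals

end Cfsg.Agent.Lib.Helper46
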