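import Cfsg.Agent.Lib.Helper46.SL2h
import Cfsg.Agent.S2331
import Cfsg.Agent.S2325

set_option autoImplicit false

namespace Cfsg.Agent.Lib.Helper46

open Matrix Cfsg Cfsg.Agent.Lib.Helper4
open scoped ComplexConjugate

section GenCount

open scoped Classical

variable {G : Type*} [Group G] [Fintype (IrrCharacter G)]

theorem natCard_deg_gen (d : ℕ) :
    Nat.card {χ : IrrCharacter G // (χ : G → ℂ) 1 = (d : ℂ)} =
      (Finset.univ.filter (fun χ : IrrCharacter G => deg χ = d)).card := by
  rw [Nat.card_eq_fintype_card, Fintype.card_subtype]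
  congr 1
  ext χ
  simp only [Finset.mem_filter, Finset.mem_univ, true_and]
  rw [deg_spec]
  exact Nat.cast_inj

theorem natCard_deg_gen' (c : ℂ) (d : ℕ) (hc : c = d) :
    Nat.card {χ : IrrCharacter G // (χ : G → ℂ) 1 = c} =
      (Finset.univ.filter (fun χ : IrrCharacter G => deg χ = d)).card := by
  subst hc
  exact natCard_deg_gen d

/-- Summation over the irreducible characters, grouped by degree. -/
theorem sum_by_deg (D : Finset ℕ) (hD : ∀ χ : IrrCharacter G, deg χ ∈ D) (f : ℕ → ℕ) :
    ∑ χ : IrrCharacter G, f (deg χ) =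
      ∑ k ∈ D, (Finset.univ.filter (fun χ : IrrCharacter G => deg χ = k)).card * f k := by
  rw [Finset.sum_comp f deg]
  have hsub : Finset.univ.image (deg (G := G)) ⊆ D := by
    intro k hk
    obtain ⟨χ, -, rfl⟩ := Finset.mem_image.mp hk
    exact hD χ
  rw [Finset.sum_subset hsub]
  · exact Finset.sum_congr rfl fun k _ => by rw [smul_eq_mul]
  · intro k _ hk
    have : Finset.univ.filter (fun χ : IrrCharacter G => deg χ = k) = ∅ := by
      apply Finset.filter_eq_empty_iff.mpr
      intro χ _ h
      exact hk (Finset.mem_image.mpr ⟨χ, Finset.mem_univ _, h⟩)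
    rw [this, Finset.card_empty, zero_smul]

end GenCount

section SL

open scoped Classical

variable {F : Type*} [Field F] [Fintype F]

theorem psS_eq_iff (γ γ₁ : MulChar F ℂ) (h1 : γ₁ ^ 2 ≠ 1) :
    psS γ = psS γ₁ ↔ γ = γ₁ ∨ γ = γ₁⁻¹ := by
  let _ : Fintype (MulChar F ℂ) := Fintype.ofFinite _
  constructor
  · intro h
    have h2 := classInner_psS γ γ₁
    rw [h, classInner_irr_self _ (psS_irr γ₁ h1)] at h2
    by_contra hcon
    push Not at hcon
    rw [if_neg hcon.1, if_neg hcon.2] at h2
    norm_num at h2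
  · rintro (rfl | rfl)
    · rfl
    · have h3 : (γ₁⁻¹) ^ 2 ≠ 1 := by
        rw [inv_pow]
        intro h
        exact h1 (inv_eq_one.mp h)
      apply eq_of_classInner_ne_zero _ _ (psS_irr γ₁ h1) (psS_irr _ h3)
      rw [classInner_psS, inv_inv, if_pos rfl]
      split_ifs <;> norm_num

theorem natCard_irr_sl2_char_two [CharP F 2] :
    Nat.card (IrrCharacter (SpecialLinearGroup (Fin 2) F)) = Fintype.card F + 1 := by
  rw [card_irr, Cfsg.Agent.S2331.result]

theorem natCard_irr_sl2_odd (hodd : Odd (Fintype.card F)) :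
    Nat.card (IrrCharacter (SpecialLinearGroup (Fin 2) F)) = Fintype.card F + 4 := by
  rw [card_irr, Cfsg.Agent.S2325.result hodd]

end SL

end Cfsg.Agent.Lib.Helper46
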