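import Cfsg.Agent.Lib.Helper46.SL2k
import Cfsg.Agent.Lib.Helper83.Twist

set_option autoImplicit false

namespace Cfsg.Agent.Lib.Helper46

open Matrix Cfsg Cfsg.Agent.Lib.Helper4
open scoped ComplexConjugate

section DetSurj

variable {F : Type*} [Field F]

/-- The determinant is surjective on the `GL₂`-centralizer of `g`. -/
def DetSurj (g : SpecialLinearGroup (Fin 2) F) : Prop :=
  ∀ δ : F, δ ≠ 0 → ∃ c : GL (Fin 2) F,
    c * SpecialLinearGroup.toGL g = SpecialLinearGroup.toGL g * c ∧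
      (c : Matrix (Fin 2) (Fin 2) F).det = δ

theorem ConjGL.apply_eq {ψ ψ' : SpecialLinearGroup (Fin 2) F → ℂ} (h : ConjGL ψ ψ')
    (hψ : IsClassFunction (SpecialLinearGroup (Fin 2) F) ψ) (g : SpecialLinearGroup (Fin 2) F)
    (hg : DetSurj g) : ψ' g = ψ g := by
  obtain ⟨x, hx⟩ := h
  obtain ⟨c, hc, hdet⟩ := hg _ (gl_det_ne_zero x)
  have hy : ((x * c⁻¹ : GL (Fin 2) F) : Matrix (Fin 2) (Fin 2) F).det = 1 := by
    have h1 : GeneralLinearGroup.det c = GeneralLinearGroup.det x := Units.ext hdet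
    have h2 : GeneralLinearGroup.det (x * c⁻¹) = 1 := by
      rw [map_mul, map_inv, h1, mul_inv_cancel]
    exact congrArg Units.val h2
  let s₀ : SpecialLinearGroup (Fin 2) F :=
    ⟨((x * c⁻¹ : GL (Fin 2) F) : Matrix (Fin 2) (Fin 2) F), hy⟩
  have hs₀ : SpecialLinearGroup.toGL s₀ = x * c⁻¹ := Units.ext rfl
  have h3 := hx g (s₀ * g * s₀⁻¹) (by
    rw [map_mul, map_mul, map_inv, hs₀]
    have h4 : c⁻¹ * SpecialLinearGroup.toGL g * c = SpecialLinearGroup.toGL g := by
      rw [mul_assoc, ← hc, ← mul_assoc, inv_mul_cancel, one_mul]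
    calc x * c⁻¹ * SpecialLinearGroup.toGL g * (x * c⁻¹)⁻¹
        = x * (c⁻¹ * SpecialLinearGroup.toGL g * c) * x⁻¹ := by group
      _ = x * SpecialLinearGroup.toGL g * x⁻¹ := by rw [h4])
  rw [h3, hψ]

theorem detSurj_diag (g : SpecialLinearGroup (Fin 2) F)
    (h01 : (g : Matrix (Fin 2) (Fin 2) F) 0 1 = 0) (h10 : (g : Matrix (Fin 2) (Fin 2) F) 1 0 = 0) :
    DetSurj g := by
  intro δ hδ
  refine ⟨GeneralLinearGroup.mkOfDetNeZero !![δ, 0; 0, 1] (by simp [det_fin_two_of, hδ]), ?_, ?_⟩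
  · apply Units.ext
    show (!![δ, 0; 0, 1] : Matrix (Fin 2) (Fin 2) F) * (g : Matrix (Fin 2) (Fin 2) F) =
      (g : Matrix (Fin 2) (Fin 2) F) * !![δ, 0; 0, 1]
    ext i j
    fin_cases i <;> fin_cases j <;> simp [Matrix.mul_apply, Fin.sum_univ_two, h01, h10, mul_comm]
  · show (!![δ, 0; 0, 1] : Matrix (Fin 2) (Fin 2) F).det = δ
    simp [det_fin_two_of]

/-- A matrix without eigenvectors has no root of its characteristic polynomial. -/
theorem ell_charpoly_ne (M : Matrix (Fin 2) (Fin 2) F)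
    (hM : ∀ (c : F) (v : Fin 2 → F), v ≠ 0 → M.mulVec v ≠ c • v) (c : F) :
    c ^ 2 - (M 0 0 + M 1 1) * c + (M 0 0 * M 1 1 - M 0 1 * M 1 0) ≠ 0 := by
  intro h
  by_cases h01 : M 0 1 = 0
  · apply hM (M 1 1) ![0, 1]
    · intro h2
      have := congrFun h2 1
      simp at this
    · ext i
      fin_cases i <;> simp [Matrix.mulVec, dotProduct, Fin.sum_univ_two, h01]
  · apply hM c ![M 0 1, c - M 0 0]
    · intro h2
      have := congrFun h2 0
      simp at this
      exact h01 this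
    · ext i
      fin_cases i
      · simp [Matrix.mulVec, dotProduct, Fin.sum_univ_two]
        ring
      · simp [Matrix.mulVec, dotProduct, Fin.sum_univ_two]
        linear_combination -h

theorem norm_form_surj [Fintype F] (h2 : (2 : F) ≠ 0) (t : F)
    (ht : ∀ c : F, c ^ 2 - t * c + 1 ≠ 0) (δ : F) :
    ∃ x y : F, x ^ 2 + t * x * y + y ^ 2 = δ := by
  have hm : 4 - t ^ 2 ≠ 0 := by
    intro h
    apply ht (t / 2)
    field_simp
    linear_combination h
  have hodd : Fintype.card F % 2 = 1 := by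
    apply FiniteField.odd_card_of_char_ne_two
    intro h
    apply h2
    have h3 := ringChar.Nat.cast_ringChar (R := F)
    rw [h] at h3
    exact_mod_cast h3
  obtain ⟨a, b, hab⟩ := FiniteField.exists_root_sum_quadratic (f := Polynomial.X ^ 2)
    (g := Polynomial.C (4 - t ^ 2) * Polynomial.X ^ 2 + Polynomial.C 0 * Polynomial.X +
      Polynomial.C (-(4 * δ)))
    (Polynomial.degree_X_pow 2) (Polynomial.degree_quadratic hm) hodd
  refine ⟨(a - t * b) / 2, b, ?_⟩
  simp only [Polynomial.eval_pow, Polynomial.eval_X, Polynomial.eval_add, Polynomial.eval_mul,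
    Polynomial.eval_C] at hab
  field_simp
  linear_combination hab

theorem detSurj_elliptic [Fintype F] (h2 : (2 : F) ≠ 0) (g : SpecialLinearGroup (Fin 2) F)
    (hg : ∀ (c : F) (v : Fin 2 → F), v ≠ 0 → (g : Matrix (Fin 2) (Fin 2) F).mulVec v ≠ c • v) :
    DetSurj g := by
  intro δ hδ
  have hd := sl_det_eq g
  have ht : ∀ c : F, c ^ 2 - ((g : Matrix (Fin 2) (Fin 2) F) 0 0 +
      (g : Matrix (Fin 2) (Fin 2) F) 1 1) * c + 1 ≠ 0 := by
    intro c
    have := ell_charpoly_ne _ hg c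
    rwa [hd] at this
  obtain ⟨x, y, hxy⟩ := norm_form_surj h2 _ ht δ
  have hdet : (x • (1 : Matrix (Fin 2) (Fin 2) F) + y • (g : Matrix (Fin 2) (Fin 2) F)).det = δ := by
    rw [det_fin_two]
    simp
    linear_combination hxy + y ^ 2 * hd
  refine ⟨GeneralLinearGroup.mkOfDetNeZero _ (by rw [hdet]; exact hδ), ?_, hdet⟩
  apply Units.ext
  show (x • (1 : Matrix (Fin 2) (Fin 2) F) + y • (g : Matrix (Fin 2) (Fin 2) F)) *
    (g : Matrix (Fin 2) (Fin 2) F) =
      (g : Matrix (Fin 2) (Fin 2) F) * (x • 1 + y • (g : Matrix (Fin 2) (Fin 2) F))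
  simp [add_mul, mul_add]

end DetSurj

end Cfsg.Agent.Lib.Helper46
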