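import Cfsg.Agent.Lib.Helper46.SL2l

set_option autoImplicit false

namespace Cfsg.Agent.Lib.Helper46

open Matrix Cfsg Cfsg.Agent.Lib.Helper4
open scoped ComplexConjugate

section Classify

variable {F : Type*} [Field F]

theorem charpoly_root_of_eigen (M : Matrix (Fin 2) (Fin 2) F) (c : F) (v : Fin 2 → F)
    (hv : v ≠ 0) (h : M.mulVec v = c • v) :
    c ^ 2 - (M 0 0 + M 1 1) * c + (M 0 0 * M 1 1 - M 0 1 * M 1 0) = 0 := by
  have e0 : M 0 0 * v 0 + M 0 1 * v 1 = c * v 0 := by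
    have := congrFun h 0
    simpa [Matrix.mulVec, dotProduct, Fin.sum_univ_two] using this
  have e1 : M 1 0 * v 0 + M 1 1 * v 1 = c * v 1 := by
    have := congrFun h 1
    simpa [Matrix.mulVec, dotProduct, Fin.sum_univ_two] using this
  by_cases h0 : v 0 = 0
  · have h1 : v 1 ≠ 0 := by
      intro h1
      apply hv
      ext i
      fin_cases i <;> simp [h0, h1]
    have : (c ^ 2 - (M 0 0 + M 1 1) * c + (M 0 0 * M 1 1 - M 0 1 * M 1 0)) * v 1 = 0 := by
      linear_combination (M 0 0 - c) * e1 - M 1 0 * e0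
    exact (mul_eq_zero.mp this).resolve_right h1
  · have : (c ^ 2 - (M 0 0 + M 1 1) * c + (M 0 0 * M 1 1 - M 0 1 * M 1 0)) * v 0 = 0 := by
      linear_combination (M 1 1 - c) * e0 - M 0 1 * e1
    exact (mul_eq_zero.mp this).resolve_right h0

/-- Every element of `SL₂` is elliptic, split, central or parabolic. -/
theorem sl_classify (s : SpecialLinearGroup (Fin 2) F) :
    (∀ (c : F) (v : Fin 2 → F), v ≠ 0 → (s : Matrix (Fin 2) (Fin 2) F).mulVec v ≠ c • v) ∨
    (∃ c : F, c ≠ 0 ∧ c ^ 2 ≠ 1 ∧ NonScalar (s : Matrix (Fin 2) (Fin 2) F) ∧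
      (s : Matrix (Fin 2) (Fin 2) F) 0 0 + (s : Matrix (Fin 2) (Fin 2) F) 1 1 = c + c⁻¹) ∨
    (¬ NonScalar (s : Matrix (Fin 2) (Fin 2) F)) ∨
    (∃ c : F, c ^ 2 = 1 ∧ NonScalar (s : Matrix (Fin 2) (Fin 2) F) ∧
      (s : Matrix (Fin 2) (Fin 2) F) 0 0 + (s : Matrix (Fin 2) (Fin 2) F) 1 1 = 2 * c) := by
  by_cases hell : ∀ (c : F) (v : Fin 2 → F), v ≠ 0 →
      (s : Matrix (Fin 2) (Fin 2) F).mulVec v ≠ c • v
  · exact Or.inl hell
  · push Not at hell
    obtain ⟨c, v, hv, hcv⟩ := hell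
    have root := charpoly_root_of_eigen _ c v hv hcv
    rw [sl_det_eq s] at root
    have hc0 : c ≠ 0 := by
      intro h
      rw [h] at root
      simp at root
    by_cases hc1 : c ^ 2 = 1
    · by_cases hns : NonScalar (s : Matrix (Fin 2) (Fin 2) F)
      · refine Or.inr (Or.inr (Or.inr ⟨c, hc1, hns, ?_⟩))
        linear_combination (-c) * root - ((s : Matrix (Fin 2) (Fin 2) F) 0 0 +
          (s : Matrix (Fin 2) (Fin 2) F) 1 1 - c) * hc1
      · exact Or.inr (Or.inr (Or.inl hns))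
    · refine Or.inr (Or.inl ⟨c, hc0, hc1, ?_, ?_⟩)
      · by_contra hns
        obtain ⟨hs, ha⟩ := sl_scalar s hns
        have h11 : (s : Matrix (Fin 2) (Fin 2) F) 1 1 = (s : Matrix (Fin 2) (Fin 2) F) 0 0 := by
          have := congrFun (congrFun hs 1) 1
          simpa using this
        rw [h11] at root
        have h3 : (c - (s : Matrix (Fin 2) (Fin 2) F) 0 0) ^ 2 = 0 := by
          linear_combination root + ha
        have h4 : c = (s : Matrix (Fin 2) (Fin 2) F) 0 0 := by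
          have := pow_eq_zero_iff (two_ne_zero) |>.mp h3
          linear_combination this
        apply hc1
        rw [h4]
        exact ha
      · field_simp
        linear_combination -root

theorem detSurj_of_norm (s : SpecialLinearGroup (Fin 2) F)
    (h : ∀ δ : F, δ ≠ 0 → ∃ x y : F, x ^ 2 + ((s : Matrix (Fin 2) (Fin 2) F) 0 0 +
      (s : Matrix (Fin 2) (Fin 2) F) 1 1) * x * y + y ^ 2 = δ) : DetSurj s := by
  intro δ hδ
  have hd := sl_det_eq s
  obtain ⟨x, y, hxy⟩ := h δ hδ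
  have hdet : (x • (1 : Matrix (Fin 2) (Fin 2) F) + y • (s : Matrix (Fin 2) (Fin 2) F)).det = δ := by
    rw [det_fin_two]
    simp
    linear_combination hxy + y ^ 2 * hd
  refine ⟨GeneralLinearGroup.mkOfDetNeZero _ (by rw [hdet]; exact hδ), ?_, hdet⟩
  apply Units.ext
  show (x • (1 : Matrix (Fin 2) (Fin 2) F) + y • (s : Matrix (Fin 2) (Fin 2) F)) *
    (s : Matrix (Fin 2) (Fin 2) F) =
      (s : Matrix (Fin 2) (Fin 2) F) * (x • 1 + y • (s : Matrix (Fin 2) (Fin 2) F))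
  simp [add_mul, mul_add]

theorem detSurj_split (s : SpecialLinearGroup (Fin 2) F) (c : F) (hc0 : c ≠ 0) (hc : c ^ 2 ≠ 1)
    (ht : (s : Matrix (Fin 2) (Fin 2) F) 0 0 + (s : Matrix (Fin 2) (Fin 2) F) 1 1 = c + c⁻¹) :
    DetSurj s := by
  apply detSurj_of_norm
  intro δ hδ
  have hcc : c - c⁻¹ ≠ 0 := by
    intro h
    apply hc
    field_simp at h
    linear_combination h
  refine ⟨1 - c⁻¹ * ((δ - 1) / (c - c⁻¹)), (δ - 1) / (c - c⁻¹), ?_⟩
  rw [ht]
  have h1 : ∀ x y : F, x ^ 2 + (c + c⁻¹) * x * y + y ^ 2 = (x + c * y) * (x + c⁻¹ * y) := by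
    intro x y
    field_simp
    ring
  rw [h1]
  have h2 : 1 - c⁻¹ * ((δ - 1) / (c - c⁻¹)) + c⁻¹ * ((δ - 1) / (c - c⁻¹)) = 1 := by ring
  have h3 : 1 - c⁻¹ * ((δ - 1) / (c - c⁻¹)) + c * ((δ - 1) / (c - c⁻¹)) = δ := by
    have : 1 - c⁻¹ * ((δ - 1) / (c - c⁻¹)) + c * ((δ - 1) / (c - c⁻¹)) =
        1 + (c - c⁻¹) * ((δ - 1) / (c - c⁻¹)) := by ring
    rw [this, mul_div_cancel₀ _ hcc]
    ring
  rw [h2, h3, mul_one]

/-- Transfer of the conjugating element along squares of determinants. -/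
theorem conjGL_transfer [Fintype F] {ψ ψ' : SpecialLinearGroup (Fin 2) F → ℂ} (x : GL (Fin 2) F)
    (hx : ∀ s t : SpecialLinearGroup (Fin 2) F,
      SpecialLinearGroup.toGL t = x * SpecialLinearGroup.toGL s * x⁻¹ → ψ' s = ψ t)
    (hψ' : IsClassFunction (SpecialLinearGroup (Fin 2) F) ψ') (y : GL (Fin 2) F) (l : F)
    (hl : l ≠ 0)
    (hdet : (y : Matrix (Fin 2) (Fin 2) F).det = (x : Matrix (Fin 2) (Fin 2) F).det * l ^ 2)
    (s t : SpecialLinearGroup (Fin 2) F)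
    (hst : SpecialLinearGroup.toGL t = y * SpecialLinearGroup.toGL s * y⁻¹) : ψ' s = ψ t := by
  have hΛdet : ((glScalar l hl : GL (Fin 2) F) : Matrix (Fin 2) (Fin 2) F).det = l ^ 2 := by
    rw [glScalar_coe]
    simp [Matrix.det_fin_two, sq]
  have hw : ((x⁻¹ * y * (glScalar l hl)⁻¹ : GL (Fin 2) F) : Matrix (Fin 2) (Fin 2) F).det = 1 := by
    have h1 : GeneralLinearGroup.det y = GeneralLinearGroup.det x *
        GeneralLinearGroup.det (glScalar l hl) := by
      apply Units.ext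
      show (y : Matrix (Fin 2) (Fin 2) F).det = (x : Matrix (Fin 2) (Fin 2) F).det *
        ((glScalar l hl : GL (Fin 2) F) : Matrix (Fin 2) (Fin 2) F).det
      rw [hΛdet, hdet]
    have h2 : GeneralLinearGroup.det (x⁻¹ * y * (glScalar l hl)⁻¹) = 1 := by
      rw [map_mul, map_mul, map_inv, map_inv, h1]
      group
    exact congrArg Units.val h2
  let s₁ : SpecialLinearGroup (Fin 2) F :=
    ⟨((x⁻¹ * y * (glScalar l hl)⁻¹ : GL (Fin 2) F) : Matrix (Fin 2) (Fin 2) F), hw⟩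
  have hs₁ : SpecialLinearGroup.toGL s₁ = x⁻¹ * y * (glScalar l hl)⁻¹ := Units.ext rfl
  have hΛ : (glScalar l hl)⁻¹ * SpecialLinearGroup.toGL s * glScalar l hl =
      SpecialLinearGroup.toGL s := by
    have := Subgroup.mem_center_iff.mp (glScalar_mem_center l hl) (SpecialLinearGroup.toGL s)
    rw [mul_assoc, this, ← mul_assoc, inv_mul_cancel, one_mul]
  have key : SpecialLinearGroup.toGL t =
      x * SpecialLinearGroup.toGL (s₁ * s * s₁⁻¹) * x⁻¹ := by
    rw [hst, map_mul, map_mul, map_inv, hs₁]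
    calc y * SpecialLinearGroup.toGL s * y⁻¹
        = y * ((glScalar l hl)⁻¹ * SpecialLinearGroup.toGL s * glScalar l hl) * y⁻¹ := by rw [hΛ]
      _ = x * (x⁻¹ * y * (glScalar l hl)⁻¹ * SpecialLinearGroup.toGL s *
          (x⁻¹ * y * (glScalar l hl)⁻¹)⁻¹) * x⁻¹ := by group
  rw [← hx _ t key, hψ']

theorem conjGL_det_nonsquare [Fintype F] {ψ ψ' : SpecialLinearGroup (Fin 2) F → ℂ}
    (x : GL (Fin 2) F)
    (hx : ∀ s t : SpecialLinearGroup (Fin 2) F,
      SpecialLinearGroup.toGL t = x * SpecialLinearGroup.toGL s * x⁻¹ → ψ' s = ψ t)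
    (hψ' : IsClassFunction (SpecialLinearGroup (Fin 2) F) ψ') (hne : ψ ≠ ψ') :
    ¬ IsSquare (x : Matrix (Fin 2) (Fin 2) F).det := by
  rintro ⟨m, hm⟩
  have hx0 := gl_det_ne_zero x
  have hm0 : m ≠ 0 := by
    intro h
    rw [h, mul_zero] at hm
    exact hx0 hm
  apply hne
  funext s
  symm
  apply conjGL_transfer x hx hψ' 1 m⁻¹ (inv_ne_zero hm0) _ s s (by simp)
  rw [hm]
  simp
  field_simp

theorem ConjGL.apply_nonsquare [Fintype F] {ψ ψ' : SpecialLinearGroup (Fin 2) F → ℂ}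
    (h : ConjGL ψ ψ') (hψ' : IsClassFunction (SpecialLinearGroup (Fin 2) F) ψ') (hne : ψ ≠ ψ')
    (y : GL (Fin 2) F) (hy : ¬ IsSquare (y : Matrix (Fin 2) (Fin 2) F).det)
    (s t : SpecialLinearGroup (Fin 2) F)
    (hst : SpecialLinearGroup.toGL t = y * SpecialLinearGroup.toGL s * y⁻¹) : ψ' s = ψ t := by
  obtain ⟨x, hx⟩ := h
  have hns := conjGL_det_nonsquare x hx hψ' hne
  obtain ⟨m, hm⟩ := isSquare_mul_of_not_isSquare hns hy
  have hx0 := gl_det_ne_zero x
  have hy0 := gl_det_ne_zero y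
  have hm0 : m ≠ 0 := by
    intro h
    rw [h, mul_zero] at hm
    exact mul_ne_zero hx0 hy0 hm
  apply conjGL_transfer x hx hψ' y (m / (x : Matrix (Fin 2) (Fin 2) F).det)
    (div_ne_zero hm0 hx0) _ s t hst
  have h5 : (x : Matrix (Fin 2) (Fin 2) F).det * (m / (x : Matrix (Fin 2) (Fin 2) F).det) ^ 2 =
      m * m / (x : Matrix (Fin 2) (Fin 2) F).det := by
    field_simp
  rw [h5, ← hm, mul_div_cancel_left₀ _ hx0]

end Classify

end Cfsg.Agent.Lib.Helper46
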