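import Cfsg.Agent.Lib.Helper46.SL2m

set_option autoImplicit false

namespace Cfsg.Agent.Lib.Helper46

open Matrix Cfsg Cfsg.Agent.Lib.Helper4
open scoped ComplexConjugate

section Vals

open scoped Classical

variable {F : Type*} [Field F] [Fintype F]

theorem stS_central (s : SpecialLinearGroup (Fin 2) F)
    (hs : ¬ NonScalar (s : Matrix (Fin 2) (Fin 2) F)) : stS s = (Fintype.card F : ℂ) := by
  obtain ⟨hs1, ha⟩ := sl_scalar s hs
  have ha0 : (s : Matrix (Fin 2) (Fin 2) F) 0 0 ≠ 0 := by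
    intro h
    rw [h] at ha
    simp at ha
  show (ps (1 : MulChar F ℂ) 1 - detChar (1 : MulChar F ℂ) : GL (Fin 2) F → ℂ)
    (SpecialLinearGroup.toGL s) = _
  rw [Pi.sub_apply, ps_scalar 1 1 _ _ hs1]
  show _ - (1 : MulChar F ℂ) ((s : Matrix (Fin 2) (Fin 2) F).det) = _
  rw [s.det_coe, map_one, MulChar.one_apply (isUnit_iff_ne_zero.mpr ha0)]
  ring

omit [Fintype F] in
theorem gl_isConj_parabolic (s : SpecialLinearGroup (Fin 2) F) (c : F) (hc : c ^ 2 = 1)
    (hc0 : c ≠ 0) (hns : NonScalar (s : Matrix (Fin 2) (Fin 2) F))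
    (ht : (s : Matrix (Fin 2) (Fin 2) F) 0 0 + (s : Matrix (Fin 2) (Fin 2) F) 1 1 = 2 * c) :
    IsConj ((upperMk c c 1 hc0 hc0 : upperTriangularGL 2 F) : GL (Fin 2) F)
      (SpecialLinearGroup.toGL s) := by
  apply isConj_upperMk c c 1 hc0 hc0 _ (Or.inl (by simp)) hns
  · rw [Matrix.trace_fin_two]
    show (s : Matrix (Fin 2) (Fin 2) F) 0 0 + (s : Matrix (Fin 2) (Fin 2) F) 1 1 = c + c
    rw [ht]
    ring
  · show (s : Matrix (Fin 2) (Fin 2) F).det = c * c
    rw [s.det_coe, ← sq, hc]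

theorem stS_parabolic (s : SpecialLinearGroup (Fin 2) F) (c : F) (hc : c ^ 2 = 1)
    (hns : NonScalar (s : Matrix (Fin 2) (Fin 2) F))
    (ht : (s : Matrix (Fin 2) (Fin 2) F) 0 0 + (s : Matrix (Fin 2) (Fin 2) F) 1 1 = 2 * c) :
    stS s = 0 := by
  have hc0 : c ≠ 0 := by
    intro h
    rw [h] at hc
    simp at hc
  have h := gl_isConj_parabolic s c hc hc0 hns ht
  show st (1 : MulChar F ℂ) (SpecialLinearGroup.toGL s) = 0
  have e : st (1 : MulChar F ℂ) ((upperMk c c 1 hc0 hc0 : upperTriangularGL 2 F) : GL (Fin 2) F) =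
      st (1 : MulChar F ℂ) (SpecialLinearGroup.toGL s) :=
    irr_eq_of_isConj (⟨st 1, st_irr 1⟩ : IrrCharacter (GL (Fin 2) F)) h
  rw [← e]
  exact st_unipotent 1 _ (by simp [upperMk_coe]) (by simp [upperMk_coe]) (by simp [upperMk_coe])

theorem stS_split (s : SpecialLinearGroup (Fin 2) F) (c : F) (hc0 : c ≠ 0) (hc : c ^ 2 ≠ 1)
    (hns : NonScalar (s : Matrix (Fin 2) (Fin 2) F))
    (ht : (s : Matrix (Fin 2) (Fin 2) F) 0 0 + (s : Matrix (Fin 2) (Fin 2) F) 1 1 = c + c⁻¹) :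
    stS s = 1 := by
  have hci := inv_ne_zero hc0
  have hne : c ≠ c⁻¹ := by
    intro h
    apply hc
    rw [sq]
    nth_rewrite 2 [h]
    exact mul_inv_cancel₀ hc0
  have h : IsConj ((upperMk c c⁻¹ 0 hc0 hci : upperTriangularGL 2 F) : GL (Fin 2) F)
      (SpecialLinearGroup.toGL s) := by
    apply isConj_upperMk c c⁻¹ 0 hc0 hci _ (Or.inr (Or.inr (by simpa using hne))) hns
    · rw [Matrix.trace_fin_two]
      exact ht
    · show (s : Matrix (Fin 2) (Fin 2) F).det = c * c⁻¹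
      rw [s.det_coe, mul_inv_cancel₀ hc0]
  show st (1 : MulChar F ℂ) (SpecialLinearGroup.toGL s) = 1
  have e : st (1 : MulChar F ℂ)
      ((upperMk c c⁻¹ 0 hc0 hci : upperTriangularGL 2 F) : GL (Fin 2) F) =
      st (1 : MulChar F ℂ) (SpecialLinearGroup.toGL s) :=
    irr_eq_of_isConj (⟨st 1, st_irr 1⟩ : IrrCharacter (GL (Fin 2) F)) h
  rw [← e, st_diag 1 _ (by simp [upperMk_coe])
    (by simp [upperMk_coe]) (by simpa [upperMk_coe] using hne)]
  simp only [upperMk_coe, Matrix.of_apply, Matrix.cons_val_zero, Matrix.cons_val_one,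
    Matrix.cons_val', Matrix.cons_val_fin_one]
  rw [MulChar.one_apply (isUnit_iff_ne_zero.mpr hc0),
    MulChar.one_apply (isUnit_iff_ne_zero.mpr hci), mul_one]

theorem cusp_parabolic (χ' : GL (Fin 2) F → ℂ) (hχ' : IsIrrCharacter (GL (Fin 2) F) χ')
    (hcusp : Cuspidal χ') (s : SpecialLinearGroup (Fin 2) F) (c : F) (hc : c ^ 2 = 1)
    (hc0 : c ≠ 0) (hns : NonScalar (s : Matrix (Fin 2) (Fin 2) F))
    (ht : (s : Matrix (Fin 2) (Fin 2) F) 0 0 + (s : Matrix (Fin 2) (Fin 2) F) 1 1 = 2 * c) :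
    χ' (glScalar c hc0) + ((Fintype.card F : ℂ) - 1) * res χ' s = 0 := by
  have h := gl_isConj_parabolic s c hc hc0 hns ht
  have e : χ' ((upperMk c c 1 hc0 hc0 : upperTriangularGL 2 F) : GL (Fin 2) F) =
      χ' (SpecialLinearGroup.toGL s) :=
    irr_eq_of_isConj (⟨χ', hχ'⟩ : IrrCharacter (GL (Fin 2) F)) h
  rw [res_apply, ← e]
  exact cuspidal_unipotent χ' hχ' hcusp _ (glScalar c hc0) c
    (by
      rw [glScalar_coe]
      ext i j
      fin_cases i <;> fin_cases j <;> simp)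
    (by simp [upperMk_coe]) (by simp [upperMk_coe]) (by simp [upperMk_coe])
    (by simp [upperMk_coe])

theorem irr_glScalar_normSq (χ' : GL (Fin 2) F → ℂ) (hχ' : IsIrrCharacter (GL (Fin 2) F) χ')
    (a : F) (ha : a ≠ 0) :
    χ' (glScalar a ha) * conj (χ' (glScalar a ha)) = χ' 1 * χ' 1 := by
  have h1 : ‖χ' (glScalar a ha)‖ = (charDegree χ' : ℝ) :=
    Cfsg.Agent.Lib.Helper83.irr_central_norm (⟨χ', hχ'⟩ : IrrCharacter (GL (Fin 2) F))
      (glScalar a ha) (glScalar_mem_center a ha)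
  have h2 := (Cfsg.Agent.Lib.Helper83.irr_degree hχ').2
  rw [Complex.mul_conj, Complex.normSq_eq_norm_sq, h1, h2]
  push_cast
  ring

theorem sq_eq_one_of_card_three (hq : Fintype.card F = 3) (a : F) (ha : a ≠ 0) : a ^ 2 = 1 := by
  have := FiniteField.pow_card_sub_one_eq_one a ha
  rwa [hq] at this

omit [Fintype F] in
theorem toGL_eq_glScalar (s : SpecialLinearGroup (Fin 2) F)
    (hs : ¬ NonScalar (s : Matrix (Fin 2) (Fin 2) F))
    (ha0 : (s : Matrix (Fin 2) (Fin 2) F) 0 0 ≠ 0) :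
    SpecialLinearGroup.toGL s = glScalar ((s : Matrix (Fin 2) (Fin 2) F) 0 0) ha0 := by
  obtain ⟨hs1, -⟩ := sl_scalar s hs
  apply Units.ext
  rw [glScalar_coe]
  show (s : Matrix (Fin 2) (Fin 2) F) = _
  have h01 : (s : Matrix (Fin 2) (Fin 2) F) 0 1 = 0 := by
    have := congrFun (congrFun hs1 0) 1
    simpa using this
  have h10 : (s : Matrix (Fin 2) (Fin 2) F) 1 0 = 0 := by
    have := congrFun (congrFun hs1 1) 0
    simpa using this
  have h11 : (s : Matrix (Fin 2) (Fin 2) F) 1 1 = (s : Matrix (Fin 2) (Fin 2) F) 0 0 := by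
    have := congrFun (congrFun hs1 1) 1
    simpa using this
  ext i j
  fin_cases i <;> fin_cases j <;> simp [h01, h10, h11]

theorem cusp_normSq_three (hq : Fintype.card F = 3) (χ' : GL (Fin 2) F → ℂ)
    (hχ' : IsIrrCharacter (GL (Fin 2) F) χ') (hcusp : Cuspidal χ') (hd : χ' 1 = 2)
    (s : SpecialLinearGroup (Fin 2) F)
    (hs : ¬ ∀ (c : F) (v : Fin 2 → F), v ≠ 0 →
      (s : Matrix (Fin 2) (Fin 2) F).mulVec v ≠ c • v) :
    res χ' s * conj (res χ' s) = 1 + stS s := by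
  rcases sl_classify s with h | ⟨c, hc0, hc, -, -⟩ | hns | ⟨c, hc, hns, ht⟩
  · exact absurd h hs
  · exact absurd (sq_eq_one_of_card_three hq c hc0) hc
  · obtain ⟨hs1, ha⟩ := sl_scalar s hns
    have ha0 : (s : Matrix (Fin 2) (Fin 2) F) 0 0 ≠ 0 := by
      intro h
      rw [h] at ha
      simp at ha
    rw [res_apply, toGL_eq_glScalar s hns ha0, irr_glScalar_normSq χ' hχ' _ ha0, hd,
      stS_central s hns, hq]
    norm_num
  · have hc0 : c ≠ 0 := by
      intro h
      rw [h] at hc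
      simp at hc
    have h1 := cusp_parabolic χ' hχ' hcusp s c hc hc0 hns ht
    have h2 := irr_glScalar_normSq χ' hχ' c hc0
    rw [stS_parabolic s c hc hns ht, add_zero]
    rw [hq] at h1
    have h3 : res χ' s = - χ' (glScalar c hc0) / 2 := by
      push_cast at h1
      linear_combination (1 / 2 : ℂ) * h1
    rw [h3, map_div₀, map_neg, map_ofNat]
    have h4 : -χ' (glScalar c hc0) / 2 * (-conj (χ' (glScalar c hc0)) / 2) =
        (χ' (glScalar c hc0) * conj (χ' (glScalar c hc0))) / 4 := by ring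
    rw [h4, h2, hd]
    norm_num

/-- For `q = 3`, a cuspidal character of degree `2` with irreducible restriction to `SL₂`
vanishes on the elliptic elements. -/
theorem res_cusp_elliptic_three (hq : Fintype.card F = 3) (χ' : GL (Fin 2) F → ℂ)
    (hχ' : IsIrrCharacter (GL (Fin 2) F) χ') (hcusp : Cuspidal χ') (hd : χ' 1 = 2)
    (hirr : IsIrrCharacter (SpecialLinearGroup (Fin 2) F) (res χ'))
    (g : SpecialLinearGroup (Fin 2) F)
    (hg : ∀ (c : F) (v : Fin 2 → F), v ≠ 0 →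
      (g : Matrix (Fin 2) (Fin 2) F).mulVec v ≠ c • v) : res χ' g = 0 := by
  have hS : (Nat.card (SpecialLinearGroup (Fin 2) F) : ℂ) ≠ 0 :=
    Nat.cast_ne_zero.mpr Nat.card_pos.ne'
  have h1 := classInner_irr_self _ hirr
  have h2 := classInner_irr_self _ (isIrrCharacter_one (G := SpecialLinearGroup (Fin 2) F))
  have h3 : classInner (stS (F := F)) (fun _ => 1) = 0 :=
    classInner_irr_ne _ _ stS_irr isIrrCharacter_one (by
      intro h
      have h4 := congrFun h 1
      rw [stS_one, hq] at h4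
      norm_num at h4)
  unfold classInner at h1 h2 h3
  have e1 : ∑ s : SpecialLinearGroup (Fin 2) F, res χ' s * conj (res χ' s) =
      Nat.card (SpecialLinearGroup (Fin 2) F) := ((inv_mul_eq_one₀ hS).mp h1).symm
  have e2 : ∑ _s : SpecialLinearGroup (Fin 2) F, (1 : ℂ) =
      Nat.card (SpecialLinearGroup (Fin 2) F) := by
    simp
  have e3 : ∑ s : SpecialLinearGroup (Fin 2) F, stS s = 0 := by
    have := (mul_eq_zero.mp h3).resolve_left (inv_ne_zero hS)
    simp at this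
    exact this
  let R : SpecialLinearGroup (Fin 2) F → ℝ := fun s =>
    if (∀ (c : F) (v : Fin 2 → F), v ≠ 0 → (s : Matrix (Fin 2) (Fin 2) F).mulVec v ≠ c • v)
      then Complex.normSq (res χ' s) else 0
  have hR : ∀ s : SpecialLinearGroup (Fin 2) F,
      res χ' s * conj (res χ' s) - (1 + stS s) = (R s : ℂ) := by
    intro s
    by_cases hs : ∀ (c : F) (v : Fin 2 → F), v ≠ 0 →
        (s : Matrix (Fin 2) (Fin 2) F).mulVec v ≠ c • v
    · simp only [R, if_pos hs]
      rw [stS_elliptic s hs, Complex.mul_conj]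
      ring
    · simp only [R, if_neg hs]
      rw [cusp_normSq_three hq χ' hχ' hcusp hd s hs]
      simp
  have hsum : ∑ s : SpecialLinearGroup (Fin 2) F, (R s : ℂ) = 0 := by
    rw [← Finset.sum_congr rfl (fun s _ => hR s), Finset.sum_sub_distrib, Finset.sum_add_distrib,
      e1, e2, e3]
    ring
  have hsumR : ∑ s : SpecialLinearGroup (Fin 2) F, R s = 0 := by
    exact_mod_cast hsum
  have hnn : ∀ s ∈ (Finset.univ : Finset (SpecialLinearGroup (Fin 2) F)), 0 ≤ R s := by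
    intro s _
    simp only [R]
    split_ifs
    · exact Complex.normSq_nonneg _
    · exact le_refl 0
  have h5 := (Finset.sum_eq_zero_iff_of_nonneg hnn).mp hsumR g (Finset.mem_univ g)
  simp only [R, if_pos hg] at h5
  exact Complex.normSq_eq_zero.mp h5

end Vals

end Cfsg.Agent.Lib.Helper46
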