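import Cfsg.Agent.Lib.Helper46.SL2n

set_option autoImplicit false

namespace Cfsg.Agent.Lib.Helper46

open Matrix Cfsg Cfsg.Agent.Lib.Helper4
open scoped ComplexConjugate

section Half

open scoped Classical

variable {F : Type*} [Field F] [Fintype F]

/-- The central element of `SL₂` with diagonal entry `c`. -/
def slZ (c : F) (hc : c ^ 2 = 1) : SpecialLinearGroup (Fin 2) F :=
  ⟨!![c, 0; 0, c], by rw [det_fin_two_of]; linear_combination hc⟩

omit [Fintype F] in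
theorem slZ_coe (c : F) (hc : c ^ 2 = 1) :
    ((slZ c hc : SpecialLinearGroup (Fin 2) F) : Matrix (Fin 2) (Fin 2) F) = !![c, 0; 0, c] := rfl

omit [Fintype F] in
theorem slZ_not_nonScalar (c : F) (hc : c ^ 2 = 1) :
    ¬ NonScalar ((slZ c hc : SpecialLinearGroup (Fin 2) F) : Matrix (Fin 2) (Fin 2) F) := by
  simp [NonScalar, slZ_coe]

omit [Fintype F] in
theorem slZ_mem_center (c : F) (hc : c ^ 2 = 1) :
    slZ c hc ∈ Subgroup.center (SpecialLinearGroup (Fin 2) F) := by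
  rw [Subgroup.mem_center_iff]
  intro g
  have h := sl_conj_of_scalar g (slZ c hc) (slZ_not_nonScalar c hc)
  calc g * slZ c hc = g * slZ c hc * g⁻¹ * g := by group
    _ = slZ c hc * g := by rw [h]

omit [Fintype F] in
theorem slZ_mul_self (c : F) (hc : c ^ 2 = 1) : slZ c hc * slZ c hc = 1 := by
  apply Subtype.ext
  show (!![c, 0; 0, c] : Matrix (Fin 2) (Fin 2) F) * !![c, 0; 0, c] = 1
  ext i j
  fin_cases i <;> fin_cases j <;> simp [Matrix.mul_apply, Fin.sum_univ_two, ← sq, hc]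

omit [Fintype F] in
theorem nonScalar_of_elliptic (s : SpecialLinearGroup (Fin 2) F)
    (hs : ∀ (c : F) (v : Fin 2 → F), v ≠ 0 →
      (s : Matrix (Fin 2) (Fin 2) F).mulVec v ≠ c • v) :
    NonScalar (s : Matrix (Fin 2) (Fin 2) F) := by
  by_contra hns
  obtain ⟨hs1, -⟩ := sl_scalar s hns
  apply hs ((s : Matrix (Fin 2) (Fin 2) F) 0 0) ![1, 0]
  · intro h
    have := congrFun h 0
    simp at this
  · nth_rewrite 1 [hs1]
    rw [Matrix.smul_mulVec, Matrix.one_mulVec]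

omit [Fintype F] in
theorem sl_isConj_parabolic (s : SpecialLinearGroup (Fin 2) F) (c : F) (hc : c ^ 2 = 1)
    (hns : NonScalar (s : Matrix (Fin 2) (Fin 2) F))
    (ht : (s : Matrix (Fin 2) (Fin 2) F) 0 0 + (s : Matrix (Fin 2) (Fin 2) F) 1 1 = 2 * c) :
    ∃ b : F, b ≠ 0 ∧ IsConj s (slZ c hc * slU b) := by
  obtain ⟨e, he, hrep⟩ : ∃ e : F, e ≠ 0 ∧ Rep (s : Matrix (Fin 2) (Fin 2) F) e := by
    obtain ⟨v0, v1, hv⟩ := exists_qf_ne_zero _ hns
    exact ⟨_, hv, v0, v1, rfl⟩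
  have hc0 : c ≠ 0 := by
    intro h
    rw [h] at hc
    simp at hc
  refine ⟨-c * e, mul_ne_zero (neg_ne_zero.mpr hc0) he, ?_⟩
  apply sl_isConj_of_rep s _ e he
  · rw [Matrix.trace_fin_two, Matrix.trace_fin_two, ht]
    simp [slZ_coe, slU_coe, Matrix.mul_apply, Fin.sum_univ_two]
    ring
  · exact hrep
  · refine ⟨0, 1, ?_⟩
    simp [qf, slZ_coe, slU_coe, Matrix.mul_apply, Fin.sum_univ_two]
    linear_combination e * hc

omit [Fintype F] in
theorem toGL_slU_conj (b : F) (hb : b ≠ 0) :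
    ∃ d : GL (Fin 2) F, (d : Matrix (Fin 2) (Fin 2) F).det = b ∧
      SpecialLinearGroup.toGL (slU b) = d * SpecialLinearGroup.toGL (slU 1) * d⁻¹ := by
  refine ⟨GeneralLinearGroup.mkOfDetNeZero !![b, 0; 0, 1] (by simp [det_fin_two_of, hb]), ?_, ?_⟩
  · show (!![b, 0; 0, 1] : Matrix (Fin 2) (Fin 2) F).det = b
    simp [det_fin_two_of]
  · rw [eq_mul_inv_iff_mul_eq]
    apply Units.ext
    show ((slU b : SpecialLinearGroup (Fin 2) F) : Matrix (Fin 2) (Fin 2) F) * !![b, 0; 0, 1] =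
      !![b, 0; 0, 1] * ((slU 1 : SpecialLinearGroup (Fin 2) F) : Matrix (Fin 2) (Fin 2) F)
    rw [slU_coe, slU_coe]
    ext i j
    fin_cases i <;> fin_cases j <;> simp [Matrix.mul_apply, Fin.sum_univ_two]

omit [Fintype F] in
theorem half_central_mul (χ χ' : SpecialLinearGroup (Fin 2) F → ℂ)
    (hχ : IsIrrCharacter (SpecialLinearGroup (Fin 2) F) χ)
    (hχ' : IsIrrCharacter (SpecialLinearGroup (Fin 2) F) χ') (hc : ConjGL χ χ')
    (c : F) (hc1 : c ^ 2 = 1) (g : SpecialLinearGroup (Fin 2) F) :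
    (χ (slZ c hc1 * g) - χ' (slZ c hc1 * g)) * conj (χ (slZ c hc1 * g) - χ' (slZ c hc1 * g)) =
      (χ g - χ' g) * conj (χ g - χ' g) := by
  have hcf : IsClassFunction (SpecialLinearGroup (Fin 2) F) χ :=
    isClassFunction_irr (⟨χ, hχ⟩ : IrrCharacter (SpecialLinearGroup (Fin 2) F))
  have hz := slZ_mem_center c hc1
  have h1 : χ (slZ c hc1 * g) * χ 1 = χ (slZ c hc1) * χ g :=
    Cfsg.Agent.Lib.Helper83.irr_central_mul (⟨χ, hχ⟩ : IrrCharacter (SpecialLinearGroup (Fin 2) F))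
      _ hz g
  have h1' : χ' (slZ c hc1 * g) * χ' 1 = χ' (slZ c hc1) * χ' g :=
    Cfsg.Agent.Lib.Helper83.irr_central_mul (⟨χ', hχ'⟩ : IrrCharacter (SpecialLinearGroup (Fin 2) F))
      _ hz g
  have hz2 : χ (slZ c hc1 * slZ c hc1) * χ 1 = χ (slZ c hc1) * χ (slZ c hc1) :=
    Cfsg.Agent.Lib.Helper83.irr_central_mul (⟨χ, hχ⟩ : IrrCharacter (SpecialLinearGroup (Fin 2) F))
      _ hz _
  rw [slZ_mul_self] at hz2
  have e1 : χ' 1 = χ 1 := hc.one_eq
  have e2 : χ' (slZ c hc1) = χ (slZ c hc1) :=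
    hc.apply_eq hcf _ (detSurj_diag _ (by simp [slZ_coe]) (by simp [slZ_coe]))
  rw [e1, e2] at h1'
  have h0 : χ 1 ≠ 0 := irr_one_ne_zero (⟨χ, hχ⟩ : IrrCharacter (SpecialLinearGroup (Fin 2) F))
  have hω : (χ (slZ c hc1) / χ 1 - 1) * (χ (slZ c hc1) / χ 1 + 1) = 0 := by
    field_simp
    linear_combination -hz2
  have hg : χ (slZ c hc1 * g) = χ (slZ c hc1) / χ 1 * χ g := by
    field_simp
    linear_combination h1
  have hg' : χ' (slZ c hc1 * g) = χ (slZ c hc1) / χ 1 * χ' g := by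
    field_simp
    linear_combination h1'
  rw [hg, hg']
  rcases mul_eq_zero.mp hω with h | h
  · have h3 : χ (slZ c hc1) / χ 1 = 1 := by linear_combination h
    rw [h3, one_mul, one_mul]
  · have h3 : χ (slZ c hc1) / χ 1 = -1 := by linear_combination h
    rw [h3]
    have h4 : -1 * χ g - -1 * χ' g = -(χ g - χ' g) := by ring
    rw [h4, map_neg]
    ring

theorem half_slU (χ χ' : SpecialLinearGroup (Fin 2) F → ℂ)
    (hχ : IsIrrCharacter (SpecialLinearGroup (Fin 2) F) χ)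
    (hχ' : IsIrrCharacter (SpecialLinearGroup (Fin 2) F) χ') (hne : χ ≠ χ')
    (hc : ConjGL χ χ') (hc' : ConjGL χ' χ) (b : F) (hb : b ≠ 0) :
    (χ (slU b) - χ' (slU b)) * conj (χ (slU b) - χ' (slU b)) =
      (χ (slU 1) - χ' (slU 1)) * conj (χ (slU 1) - χ' (slU 1)) := by
  have hcf : IsClassFunction (SpecialLinearGroup (Fin 2) F) χ :=
    isClassFunction_irr (⟨χ, hχ⟩ : IrrCharacter (SpecialLinearGroup (Fin 2) F))
  have hcf' : IsClassFunction (SpecialLinearGroup (Fin 2) F) χ' :=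
    isClassFunction_irr (⟨χ', hχ'⟩ : IrrCharacter (SpecialLinearGroup (Fin 2) F))
  by_cases hsq : IsSquare b
  · have hcj : IsConj (slU b) (slU (1 : F)) :=
      (slU_isConj_iff b 1 hb one_ne_zero).mpr (by rwa [mul_one])
    have e1 : χ (slU b) = χ (slU 1) :=
      irr_eq_of_isConj (⟨χ, hχ⟩ : IrrCharacter (SpecialLinearGroup (Fin 2) F)) hcj
    have e2 : χ' (slU b) = χ' (slU 1) :=
      irr_eq_of_isConj (⟨χ', hχ'⟩ : IrrCharacter (SpecialLinearGroup (Fin 2) F)) hcj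
    rw [e1, e2]
  · obtain ⟨d, hd, hst⟩ := toGL_slU_conj b hb
    have e1 : χ' (slU 1) = χ (slU b) :=
      hc.apply_nonsquare hcf' hne d (by rw [hd]; exact hsq) (slU 1) (slU b) hst
    have e2 : χ (slU 1) = χ' (slU b) :=
      hc'.apply_nonsquare hcf hne.symm d (by rw [hd]; exact hsq) (slU 1) (slU b) hst
    rw [← e1, ← e2]
    have h4 : χ' (slU 1) - χ (slU 1) = -(χ (slU 1) - χ' (slU 1)) := by ring
    rw [h4, map_neg]
    ring

end Half

end Cfsg.Agent.Lib.Helper46
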