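import Cfsg.Agent.Lib.Helper46.SL2o

set_option autoImplicit false

namespace Cfsg.Agent.Lib.Helper46

open Matrix Cfsg Cfsg.Agent.Lib.Helper4
open scoped ComplexConjugate

section Half

open scoped Classical

variable {F : Type*} [Field F] [Fintype F]

omit [Fintype F] in
theorem one_ne_slZ_neg (h2 : (2 : F) ≠ 0) :
    (1 : SpecialLinearGroup (Fin 2) F) ≠ slZ (-1) neg_one_sq := by
  intro h
  have h1 := congrArg (fun s : SpecialLinearGroup (Fin 2) F =>
    (s : Matrix (Fin 2) (Fin 2) F) 0 0) h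
  simp [slZ_coe] at h1
  apply h2
  linear_combination h1

omit [Fintype F] in
theorem ne_one_of_nonScalar (s : SpecialLinearGroup (Fin 2) F)
    (hns : NonScalar (s : Matrix (Fin 2) (Fin 2) F)) : s ≠ 1 := by
  rintro rfl
  exact sl_one_scalar hns

omit [Fintype F] in
theorem ne_slZ_of_nonScalar (s : SpecialLinearGroup (Fin 2) F)
    (hns : NonScalar (s : Matrix (Fin 2) (Fin 2) F)) (c : F) (hc : c ^ 2 = 1) : s ≠ slZ c hc := by
  rintro rfl
  exact slZ_not_nonScalar c hc hns

theorem half_pointwise (h2 : (2 : F) ≠ 0) (χ χ' : SpecialLinearGroup (Fin 2) F → ℂ)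
    (hχ : IsIrrCharacter (SpecialLinearGroup (Fin 2) F) χ)
    (hχ' : IsIrrCharacter (SpecialLinearGroup (Fin 2) F) χ') (hne : χ ≠ χ')
    (hc : ConjGL χ χ') (hc' : ConjGL χ' χ) (K : ℂ)
    (hK : K = (χ (slU 1) - χ' (slU 1)) * conj (χ (slU 1) - χ' (slU 1)))
    (s : SpecialLinearGroup (Fin 2) F) :
    (χ s - χ' s) * conj (χ s - χ' s) =
      K * (1 - stS s * conj (stS s)) + K * ((Fintype.card F : ℂ) ^ 2 - 1) *
        ((if s = 1 then 1 else 0) + (if s = slZ (-1) neg_one_sq then 1 else 0)) := by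
  have hcf : IsClassFunction (SpecialLinearGroup (Fin 2) F) χ :=
    isClassFunction_irr (⟨χ, hχ⟩ : IrrCharacter (SpecialLinearGroup (Fin 2) F))
  rcases sl_classify s with hell | ⟨c, hc0, hc1, hns, ht⟩ | hns | ⟨c, hc1, hns, ht⟩
  · have e := hc.apply_eq hcf s (detSurj_elliptic h2 s hell)
    have hns := nonScalar_of_elliptic s hell
    rw [e, sub_self, zero_mul, stS_elliptic s hell, if_neg (ne_one_of_nonScalar s hns),
      if_neg (ne_slZ_of_nonScalar s hns _ _)]
    simp
  · have e := hc.apply_eq hcf s (detSurj_split s c hc0 hc1 ht)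
    rw [e, sub_self, zero_mul, stS_split s c hc0 hc1 hns ht, if_neg (ne_one_of_nonScalar s hns),
      if_neg (ne_slZ_of_nonScalar s hns _ _)]
    simp
  · obtain ⟨hs1, ha⟩ := sl_scalar s hns
    have h01 : (s : Matrix (Fin 2) (Fin 2) F) 0 1 = 0 := by
      have := congrFun (congrFun hs1 0) 1
      simpa using this
    have h10 : (s : Matrix (Fin 2) (Fin 2) F) 1 0 = 0 := by
      have := congrFun (congrFun hs1 1) 0
      simpa using this
    have e := hc.apply_eq hcf s (detSurj_diag s h01 h10)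
    rw [e, sub_self, zero_mul, stS_central s hns]
    have ha' : ((s : Matrix (Fin 2) (Fin 2) F) 0 0 - 1) *
        ((s : Matrix (Fin 2) (Fin 2) F) 0 0 + 1) = 0 := by linear_combination ha
    rcases mul_eq_zero.mp ha' with h | h
    · have hs : s = 1 := by
        apply sl_eq_of_scalar s 1 hns sl_one_scalar
        simp
        linear_combination h
      subst hs
      rw [if_pos rfl, if_neg (one_ne_slZ_neg h2)]
      simp
      ring
    · have hs : s = slZ (-1) neg_one_sq := by
        apply sl_eq_of_scalar s _ hns (slZ_not_nonScalar _ _)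
        simp [slZ_coe]
        linear_combination h
      subst hs
      rw [if_neg (one_ne_slZ_neg h2).symm, if_pos rfl]
      simp
      ring
  · obtain ⟨b, hb, hcj⟩ := sl_isConj_parabolic s c hc1 hns ht
    have e1 : χ s = χ (slZ c hc1 * slU b) :=
      irr_eq_of_isConj (⟨χ, hχ⟩ : IrrCharacter (SpecialLinearGroup (Fin 2) F)) hcj
    have e2 : χ' s = χ' (slZ c hc1 * slU b) :=
      irr_eq_of_isConj (⟨χ', hχ'⟩ : IrrCharacter (SpecialLinearGroup (Fin 2) F)) hcj
    rw [e1, e2, half_central_mul χ χ' hχ hχ' hc c hc1, half_slU χ χ' hχ hχ' hne hc hc' b hb,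
      stS_parabolic s c hc1 hns ht, if_neg (ne_one_of_nonScalar s hns),
      if_neg (ne_slZ_of_nonScalar s hns _ _), ← hK]
    simp

theorem half_norm (h2 : (2 : F) ≠ 0) (χ χ' : SpecialLinearGroup (Fin 2) F → ℂ)
    (hχ : IsIrrCharacter (SpecialLinearGroup (Fin 2) F) χ)
    (hχ' : IsIrrCharacter (SpecialLinearGroup (Fin 2) F) χ') (hne : χ ≠ χ')
    (hc : ConjGL χ χ') (hc' : ConjGL χ' χ) :
    (χ (slU 1) - χ' (slU 1)) * conj (χ (slU 1) - χ' (slU 1)) = (Fintype.card F : ℂ) := by
  have hS : (Nat.card (SpecialLinearGroup (Fin 2) F) : ℂ) ≠ 0 :=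
    Nat.cast_ne_zero.mpr Nat.card_pos.ne'
  have m1 : classInner (χ - χ') (χ - χ') = 2 := by
    rw [classInner_sub_left, classInner_sub_right, classInner_sub_right,
      classInner_irr_self χ hχ, classInner_irr_self χ' hχ', classInner_irr_ne χ χ' hχ hχ' hne,
      classInner_irr_ne χ' χ hχ' hχ hne.symm]
    norm_num
  have m2 := classInner_irr_self _ (stS_irr (F := F))
  unfold classInner at m1 m2
  have e1 : ∑ s : SpecialLinearGroup (Fin 2) F, (χ s - χ' s) * conj (χ s - χ' s) =
      2 * Nat.card (SpecialLinearGroup (Fin 2) F) := by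
    have : ∑ s : SpecialLinearGroup (Fin 2) F, (χ - χ') s * conj ((χ - χ') s) =
        2 * Nat.card (SpecialLinearGroup (Fin 2) F) := by
      field_simp at m1
      linear_combination m1
    exact this
  have e2 : ∑ s : SpecialLinearGroup (Fin 2) F, stS s * conj (stS s) =
      Nat.card (SpecialLinearGroup (Fin 2) F) := ((inv_mul_eq_one₀ hS).mp m2).symm
  set K := (χ (slU 1) - χ' (slU 1)) * conj (χ (slU 1) - χ' (slU 1)) with hK
  have e3 : ∑ s : SpecialLinearGroup (Fin 2) F, (χ s - χ' s) * conj (χ s - χ' s) =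
      K * ((Fintype.card F : ℂ) ^ 2 - 1) * 2 := by
    rw [Finset.sum_congr rfl (fun s _ => half_pointwise h2 χ χ' hχ hχ' hne hc hc' K hK s),
      Finset.sum_add_distrib, ← Finset.mul_sum, ← Finset.mul_sum, Finset.sum_sub_distrib, e2,
      Finset.sum_add_distrib, Finset.sum_ite_eq', Finset.sum_ite_eq']
    simp only [Finset.mem_univ, if_true, Finset.sum_const, Finset.card_univ, nsmul_eq_mul, mul_one]
    rw [Nat.card_eq_fintype_card]
    ring
  rw [e1, card_SL2] at e3
  have hq := card_F_ge_two (F := F)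
  have h1 : 1 ≤ Fintype.card F ^ 2 := Nat.one_le_pow _ _ (by omega)
  rw [Nat.cast_mul, Nat.cast_sub h1] at e3
  push_cast at e3
  have h3 : ((Fintype.card F : ℂ) ^ 2 - 1) ≠ 0 := by
    have h4 : (2 : ℝ) ≤ (Fintype.card F : ℝ) := by exact_mod_cast hq
    have h5 : ((Fintype.card F : ℝ) ^ 2 - 1) ≠ 0 := by nlinarith
    exact_mod_cast h5
  have h6 : (K - (Fintype.card F : ℂ)) * (((Fintype.card F : ℂ) ^ 2 - 1) * 2) = 0 := by
    linear_combination -e3
  rcases mul_eq_zero.mp h6 with h | h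
  · linear_combination h
  · exact absurd h (mul_ne_zero h3 two_ne_zero)

end Half

end Cfsg.Agent.Lib.Helper46
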