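import Cfsg.Agent.Lib.Helper46.SL2p

set_option autoImplicit false

namespace Cfsg.Agent.Lib.Helper46

open Matrix Cfsg Cfsg.Agent.Lib.Helper4
open scoped ComplexConjugate

section Half

open scoped Classical

variable {F : Type*} [Field F] [Fintype F]

omit [Fintype F] in
theorem slU_one_inv : (slU (1 : F))⁻¹ = slU (-1) := by
  apply inv_eq_of_mul_eq_one_right
  apply Subtype.ext
  show ((slU 1 : SpecialLinearGroup (Fin 2) F) : Matrix (Fin 2) (Fin 2) F) *
    ((slU (-1) : SpecialLinearGroup (Fin 2) F) : Matrix (Fin 2) (Fin 2) F) = 1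
  rw [slU_coe, slU_coe]
  ext i j
  fin_cases i <;> fin_cases j <;> simp [Matrix.mul_apply, Fin.sum_univ_two]

theorem half_sq (h2 : (2 : F) ≠ 0) (χ χ' : SpecialLinearGroup (Fin 2) F → ℂ)
    (hχ : IsIrrCharacter (SpecialLinearGroup (Fin 2) F) χ)
    (hχ' : IsIrrCharacter (SpecialLinearGroup (Fin 2) F) χ') (hne : χ ≠ χ')
    (hc : ConjGL χ χ') (hc' : ConjGL χ' χ) :
    (χ (slU 1) - χ' (slU 1)) ^ 2 =
      (-1 : ℂ) ^ ((Fintype.card F - 1) / 2) * (Fintype.card F : ℂ) := by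
  have hK := half_norm h2 χ χ' hχ hχ' hne hc hc'
  have hcf : IsClassFunction (SpecialLinearGroup (Fin 2) F) χ :=
    isClassFunction_irr (⟨χ, hχ⟩ : IrrCharacter (SpecialLinearGroup (Fin 2) F))
  have hcf' : IsClassFunction (SpecialLinearGroup (Fin 2) F) χ' :=
    isClassFunction_irr (⟨χ', hχ'⟩ : IrrCharacter (SpecialLinearGroup (Fin 2) F))
  have hodd : Fintype.card F % 2 = 1 := by
    apply FiniteField.odd_card_of_char_ne_two
    intro h
    apply h2
    have h3 := ringChar.Nat.cast_ringChar (R := F)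
    rw [h] at h3
    exact_mod_cast h3
  have ix : χ (slU (-1)) = conj (χ (slU 1)) := by
    rw [← slU_one_inv]
    exact irr_inv (⟨χ, hχ⟩ : IrrCharacter (SpecialLinearGroup (Fin 2) F)) (slU 1)
  have ix' : χ' (slU (-1)) = conj (χ' (slU 1)) := by
    rw [← slU_one_inv]
    exact irr_inv (⟨χ', hχ'⟩ : IrrCharacter (SpecialLinearGroup (Fin 2) F)) (slU 1)
  have hm1 : (-1 : F) ≠ 0 := neg_ne_zero.mpr one_ne_zero
  by_cases hsq : IsSquare (-1 : F)
  · have hcj : IsConj (slU (-1 : F)) (slU (1 : F)) :=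
      (slU_isConj_iff (-1) 1 hm1 one_ne_zero).mpr (by rwa [mul_one])
    have e1 : χ (slU (-1)) = χ (slU 1) :=
      irr_eq_of_isConj (⟨χ, hχ⟩ : IrrCharacter (SpecialLinearGroup (Fin 2) F)) hcj
    have e2 : χ' (slU (-1)) = χ' (slU 1) :=
      irr_eq_of_isConj (⟨χ', hχ'⟩ : IrrCharacter (SpecialLinearGroup (Fin 2) F)) hcj
    rw [e1] at ix
    rw [e2] at ix'
    have h4 := FiniteField.isSquare_neg_one_iff.mp hsq
    have h5 : (Fintype.card F - 1) / 2 = 2 * ((Fintype.card F - 1) / 4) := by omega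
    have hpow : (-1 : ℂ) ^ ((Fintype.card F - 1) / 2) = 1 := by
      rw [h5, pow_mul, neg_one_sq, one_pow]
    rw [hpow, one_mul, ← hK, map_sub, ← ix, ← ix']
    ring
  · obtain ⟨d, hd, hst⟩ := toGL_slU_conj (-1 : F) hm1
    have e1 : χ' (slU 1) = χ (slU (-1)) :=
      hc.apply_nonsquare hcf' hne d (by rw [hd]; exact hsq) (slU 1) (slU (-1)) hst
    have e2 : χ (slU 1) = χ' (slU (-1)) :=
      hc'.apply_nonsquare hcf hne.symm d (by rw [hd]; exact hsq) (slU 1) (slU (-1)) hst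
    rw [ix] at e1
    rw [ix'] at e2
    have h4 : Fintype.card F % 4 = 3 := by
      by_contra h
      exact hsq (FiniteField.isSquare_neg_one_iff.mpr h)
    have h5 : (Fintype.card F - 1) / 2 = 2 * ((Fintype.card F - 3) / 4) + 1 := by omega
    have hpow : (-1 : ℂ) ^ ((Fintype.card F - 1) / 2) = -1 := by
      rw [h5, pow_succ, pow_mul, neg_one_sq, one_pow, one_mul]
    rw [hpow, ← hK, map_sub, ← e1, ← e2]
    ring

end Half

end Cfsg.Agent.Lib.Helper46
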