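import Cfsg.Agent.Lib.Helper46.SL2q

set_option autoImplicit false

namespace Cfsg.Agent.Lib.Helper46

open Matrix Cfsg Cfsg.Agent.Lib.Helper4
open scoped ComplexConjugate

section CasesNat

open scoped Classical

variable {F : Type*} [Field F] [Fintype F]

/-- `sl2_cases` for odd `q = 2k+1`, with the degree as a natural number in each case. -/
theorem sl2_cases_nat (k : ℕ) (hk : Fintype.card F = 2 * k + 1)
    (ψ : SpecialLinearGroup (Fin 2) F → ℂ)
    (hψ : IsIrrCharacter (SpecialLinearGroup (Fin 2) F) ψ) :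
    ∃ n : ℕ, ψ 1 = (n : ℂ) ∧
    ((n = 1 ∧ ψ = fun _ => 1) ∨ (n = 2 * k + 1 ∧ ψ = stS) ∨
     (n = 2 * k + 2 ∧ ∃ γ : MulChar F ℂ, γ ^ 2 ≠ 1 ∧ ψ = psS γ) ∨
     (n = k + 1 ∧ ∃ (γ : MulChar F ℂ) (ψ' : SpecialLinearGroup (Fin 2) F → ℂ),
        γ ^ 2 = 1 ∧ γ ≠ 1 ∧ IsIrrCharacter (SpecialLinearGroup (Fin 2) F) ψ' ∧ ψ ≠ ψ' ∧
        psS γ = ψ + ψ' ∧ ConjGL ψ ψ' ∧ ConjGL ψ' ψ) ∨
     (n = 2 * k ∧ ∃ χ : GL (Fin 2) F → ℂ, IsIrrCharacter (GL (Fin 2) F) χ ∧ Cuspidal χ ∧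
        χ 1 = (Fintype.card F : ℂ) - 1 ∧ ψ = res χ) ∨
     (n = k ∧ ∃ (χ : GL (Fin 2) F → ℂ) (ψ' : SpecialLinearGroup (Fin 2) F → ℂ),
        IsIrrCharacter (GL (Fin 2) F) χ ∧ Cuspidal χ ∧ χ 1 = (Fintype.card F : ℂ) - 1 ∧
        IsIrrCharacter (SpecialLinearGroup (Fin 2) F) ψ' ∧ ψ ≠ ψ' ∧
        res χ = ψ + ψ' ∧ ConjGL ψ ψ' ∧ ConjGL ψ' ψ)) := by
  obtain ⟨n, -, hn⟩ := irr_one_nat (⟨ψ, hψ⟩ : IrrCharacter (SpecialLinearGroup (Fin 2) F))
  have hn' : ψ 1 = (n : ℂ) := hn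
  refine ⟨n, hn', ?_⟩
  rcases sl2_cases ψ hψ with h | h | ⟨γ, hγ, h⟩ |
    ⟨-, γ, ψ', hγ, hγ1, hψ', hne', hsum, hc, hc'⟩ | ⟨χ', hχ', hcusp, hd', h⟩ |
    ⟨-, χ', ψ', hχ', hcusp, hd', hψ', hne', hsum, hc, hc'⟩
  · refine Or.inl ⟨?_, h⟩
    rw [h] at hn'
    exact (nat_of_cast (m := 1) (n := n) (by push_cast; exact hn')).symm
  · refine Or.inr (Or.inl ⟨?_, h⟩)
    rw [h, stS_one, hk] at hn'
    exact (nat_of_cast hn').symm
  · refine Or.inr (Or.inr (Or.inl ⟨?_, γ, hγ, h⟩))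
    rw [h, psS_one, hk] at hn'
    exact (nat_of_cast (m := 2 * k + 2) (n := n) (by push_cast at hn' ⊢; linear_combination hn')).symm
  · refine Or.inr (Or.inr (Or.inr (Or.inl ⟨?_, γ, ψ', hγ, hγ1, hψ', hne', hsum, hc, hc'⟩)))
    have h1 := congrFun hsum 1
    rw [psS_one, Pi.add_apply, hc.one_eq, hn', hk] at h1
    have := nat_of_cast (m := 2 * k + 2) (n := n + n) (by push_cast at h1 ⊢; linear_combination h1)
    omega
  · refine Or.inr (Or.inr (Or.inr (Or.inr (Or.inl ⟨?_, χ', hχ', hcusp, hd', h⟩))))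
    rw [h, res_one, hd', hk] at hn'
    exact (nat_of_cast (m := 2 * k) (n := n) (by push_cast at hn' ⊢; linear_combination hn')).symm
  · refine Or.inr (Or.inr (Or.inr (Or.inr (Or.inr
      ⟨?_, χ', ψ', hχ', hcusp, hd', hψ', hne', hsum, hc, hc'⟩))))
    have h1 := congrFun hsum 1
    rw [res_one, hd', Pi.add_apply, hc.one_eq, hn', hk] at h1
    have := nat_of_cast (m := 2 * k) (n := n + n) (by push_cast at h1 ⊢; linear_combination h1)
    omega

end CasesNat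

section SumU

variable {F : Type*} [Field F] [Fintype F]

/-- A sum over the upper unitriangular matrices of `SL₂`, reindexed by the off-diagonal entry. -/
theorem sum_unitri [DecidableEq F] (f : SpecialLinearGroup (Fin 2) F → ℂ)
    [inst : ∀ g : SpecialLinearGroup (Fin 2) F, Decidable
      ((g : Matrix (Fin 2) (Fin 2) F) 1 0 = 0 ∧ (g : Matrix (Fin 2) (Fin 2) F) 0 0 = 1 ∧
        (g : Matrix (Fin 2) (Fin 2) F) 1 1 = 1)] :
    (∑ g : SpecialLinearGroup (Fin 2) F,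
      if (g : Matrix (Fin 2) (Fin 2) F) 1 0 = 0 ∧ (g : Matrix (Fin 2) (Fin 2) F) 0 0 = 1 ∧
        (g : Matrix (Fin 2) (Fin 2) F) 1 1 = 1 then f g else 0) = ∑ b : F, f (slU b) := by
  rw [← Finset.sum_filter]
  symm
  apply Finset.sum_bij (fun b _ => slU b)
  · intro b _
    simp [slU_coe]
  · intro b _ b' _ h
    have := congrArg (fun s : SpecialLinearGroup (Fin 2) F => (s : Matrix (Fin 2) (Fin 2) F) 0 1) h
    simpa [slU_coe] using this
  · intro g hg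
    simp only [Finset.mem_filter, Finset.mem_univ, true_and] at hg
    exact ⟨(g : Matrix (Fin 2) (Fin 2) F) 0 1, Finset.mem_univ _, (slU_eq g hg.2.1 hg.2.2 hg.1).symm⟩
  · intro b _
    rfl

end SumU

section SumVals

open scoped Classical

variable {F : Type*} [Field F] [Fintype F]

omit [Fintype F] in
theorem slU_zero : slU (0 : F) = 1 := by
  apply Subtype.ext
  rw [slU_coe]
  ext i j
  fin_cases i <;> fin_cases j <;> simp

theorem sum_slU_split (f : SpecialLinearGroup (Fin 2) F → ℂ) (c : ℂ)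
    (h : ∀ b : F, b ≠ 0 → f (slU b) = c) :
    ∑ b : F, f (slU b) = f 1 + ((Fintype.card F : ℂ) - 1) * c := by
  rw [← Finset.add_sum_erase Finset.univ _ (Finset.mem_univ (0 : F)), slU_zero]
  congr 1
  rw [Finset.sum_congr rfl (fun b hb => h b (Finset.ne_of_mem_erase hb)), Finset.sum_const,
    Finset.card_erase_of_mem (Finset.mem_univ _), Finset.card_univ, nsmul_eq_mul,
    Nat.cast_sub Fintype.card_pos]
  simp

theorem psS_slU_ne (γ : MulChar F ℂ) (b : F) (hb : b ≠ 0) : psS γ (slU b) = 1 := by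
  rw [psS_eq_res, res_apply, ps_unipotent γ 1 _ (by
    show ((slU b : SpecialLinearGroup (Fin 2) F) : Matrix (Fin 2) (Fin 2) F) 1 0 = 0
    simp [slU_coe]) (by
    show ((slU b : SpecialLinearGroup (Fin 2) F) : Matrix (Fin 2) (Fin 2) F) 0 0 =
      ((slU b : SpecialLinearGroup (Fin 2) F) : Matrix (Fin 2) (Fin 2) F) 1 1
    simp [slU_coe]) (by
    show ((slU b : SpecialLinearGroup (Fin 2) F) : Matrix (Fin 2) (Fin 2) F) 0 1 ≠ 0
    simpa [slU_coe] using hb)]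
  show γ (((slU b : SpecialLinearGroup (Fin 2) F) : Matrix (Fin 2) (Fin 2) F) 0 0) *
    (1 : MulChar F ℂ) (((slU b : SpecialLinearGroup (Fin 2) F) : Matrix (Fin 2) (Fin 2) F) 0 0) = 1
  simp [slU_coe]

theorem stS_slU_ne (b : F) (hb : b ≠ 0) : stS (slU b) = 0 :=
  stS_unipotent _ (by simp [slU_coe]) (by simp [slU_coe]) (by simpa [slU_coe] using hb)

theorem cusp_slU_ne (χ' : GL (Fin 2) F → ℂ) (hχ' : IsIrrCharacter (GL (Fin 2) F) χ')
    (hcusp : Cuspidal χ') (hd : χ' 1 = (Fintype.card F : ℂ) - 1) (b : F) (hb : b ≠ 0) :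
    res χ' (slU b) = -1 := by
  have h := cuspidal_unipotent χ' hχ' hcusp (SpecialLinearGroup.toGL (slU b)) 1 1 (by simp)
    (by
      show ((slU b : SpecialLinearGroup (Fin 2) F) : Matrix (Fin 2) (Fin 2) F) 1 0 = 0
      simp [slU_coe])
    (by
      show ((slU b : SpecialLinearGroup (Fin 2) F) : Matrix (Fin 2) (Fin 2) F) 0 0 = 1
      simp [slU_coe])
    (by
      show ((slU b : SpecialLinearGroup (Fin 2) F) : Matrix (Fin 2) (Fin 2) F) 1 1 = 1
      simp [slU_coe])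
    (by
      show ((slU b : SpecialLinearGroup (Fin 2) F) : Matrix (Fin 2) (Fin 2) F) 0 1 ≠ 0
      simpa [slU_coe] using hb)
  rw [hd] at h
  have h6 : ((Fintype.card F : ℂ) - 1) * (χ' (SpecialLinearGroup.toGL (slU b)) + 1) = 0 := by
    linear_combination h
  rcases mul_eq_zero.mp h6 with h7 | h7
  · exact absurd h7 card_sub_one_ne_zero
  · rw [res_apply]
    linear_combination h7

theorem sumU_psS (γ : MulChar F ℂ) :
    ∑ b : F, psS γ (slU b) = 2 * (Fintype.card F : ℂ) := by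
  rw [sum_slU_split _ 1 (psS_slU_ne γ), psS_one]
  ring

theorem sumU_stS : ∑ b : F, stS (slU b) = (Fintype.card F : ℂ) := by
  rw [sum_slU_split _ 0 stS_slU_ne, stS_one]
  ring

theorem sumU_cusp (χ' : GL (Fin 2) F → ℂ) (hχ' : IsIrrCharacter (GL (Fin 2) F) χ')
    (hcusp : Cuspidal χ') (hd : χ' 1 = (Fintype.card F : ℂ) - 1) :
    ∑ b : F, res χ' (slU b) = 0 := by
  rw [sum_slU_split _ (-1) (cusp_slU_ne χ' hχ' hcusp hd), res_one, hd]
  ring

omit [Fintype F] in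
theorem toGL_slU_conj' (η : F) (hη : η ≠ 0) :
    ∃ d : GL (Fin 2) F, (d : Matrix (Fin 2) (Fin 2) F).det = η ∧ ∀ b : F,
      SpecialLinearGroup.toGL (slU (η * b)) = d * SpecialLinearGroup.toGL (slU b) * d⁻¹ := by
  refine ⟨GeneralLinearGroup.mkOfDetNeZero !![η, 0; 0, 1] (by simp [det_fin_two_of, hη]), ?_, ?_⟩
  · show (!![η, 0; 0, 1] : Matrix (Fin 2) (Fin 2) F).det = η
    simp [det_fin_two_of]
  · intro b
    rw [eq_mul_inv_iff_mul_eq]
    apply Units.ext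
    show ((slU (η * b) : SpecialLinearGroup (Fin 2) F) : Matrix (Fin 2) (Fin 2) F) *
        !![η, 0; 0, 1] =
      !![η, 0; 0, 1] * ((slU b : SpecialLinearGroup (Fin 2) F) : Matrix (Fin 2) (Fin 2) F)
    rw [slU_coe, slU_coe]
    ext i j
    fin_cases i <;> fin_cases j <;> simp [Matrix.mul_apply, Fin.sum_univ_two]

theorem sumU_half (h2 : (2 : F) ≠ 0) (χ ψ' : SpecialLinearGroup (Fin 2) F → ℂ)
    (hψ' : IsIrrCharacter (SpecialLinearGroup (Fin 2) F) ψ') (hne : χ ≠ ψ')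
    (hc : ConjGL χ ψ') : ∑ b : F, ψ' (slU b) = ∑ b : F, χ (slU b) := by
  have hcf' : IsClassFunction (SpecialLinearGroup (Fin 2) F) ψ' :=
    isClassFunction_irr (⟨ψ', hψ'⟩ : IrrCharacter (SpecialLinearGroup (Fin 2) F))
  obtain ⟨η, hη⟩ := FiniteField.exists_nonsquare (F := F) (by
    intro h
    apply h2
    have h3 := ringChar.Nat.cast_ringChar (R := F)
    rw [h] at h3
    exact_mod_cast h3)
  have hη0 : η ≠ 0 := by
    rintro rfl
    exact hη ⟨0, by simp⟩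
  obtain ⟨d, hd, hst⟩ := toGL_slU_conj' η hη0
  have e : ∀ b : F, ψ' (slU b) = χ (slU (η * b)) := fun b =>
    hc.apply_nonsquare hcf' hne d (by rw [hd]; exact hη) (slU b) (slU (η * b)) (hst b)
  rw [Finset.sum_congr rfl (fun b _ => e b)]
  exact Equiv.sum_comp (Equiv.mulLeft₀ η hη0) (fun b : F => χ (slU b))

end SumVals

end Cfsg.Agent.Lib.Helper46
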