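import Mathlib

/-!
# S2185 piece TF-E4, set version (helper46, for helper99): `invol_mem_closure`
-/

set_option autoImplicit false

namespace Cfsg.Agent.Lib.Helper46.TFE4b

/-- every element of `closure (insert b A)` lies in `K'` or in `b K'`, where
`K' = closure (A ∪ b⁻¹ A b ∪ {b b})` -/
theorem mem_or_coset {Γ : Type*} [Group Γ] [Finite Γ] (A : Set Γ) (b : Γ) :
    ∀ u ∈ Subgroup.closure (insert b A),
      u ∈ Subgroup.closure (A ∪ (fun a => b⁻¹ * a * b) '' A ∪ {b * b}) ∨
        ∃ k ∈ Subgroup.closure (A ∪ (fun a => b⁻¹ * a * b) '' A ∪ {b * b}), u = b * k := by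
  set K' : Subgroup Γ := Subgroup.closure (A ∪ (fun a => b⁻¹ * a * b) '' A ∪ {b * b}) with hK'
  have haK : ∀ a ∈ A, a ∈ K' := fun a ha =>
    Subgroup.subset_closure (Or.inl (Or.inl ha))
  have hcK : ∀ a ∈ A, b⁻¹ * a * b ∈ K' := fun a ha =>
    Subgroup.subset_closure (Or.inl (Or.inr ⟨a, ha, rfl⟩))
  have hbbK : b * b ∈ K' := Subgroup.subset_closure (Or.inr rfl)
  have key : ∀ u ∈ Subgroup.closure (insert b A),
      ∀ x : Γ, (x ∈ K' ∨ ∃ k ∈ K', x = b * k) → (u * x ∈ K' ∨ ∃ k ∈ K', u * x = b * k) := by
    intro u hu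
    induction hu using Subgroup.closure_induction with
    | mem g hg =>
      intro x hx
      rcases hg with rfl | hg
      · rcases hx with hx | ⟨k, hk, rfl⟩
        · exact Or.inr ⟨x, hx, rfl⟩
        · refine Or.inl ?_
          rw [← mul_assoc]
          exact K'.mul_mem hbbK hk
      · rcases hx with hx | ⟨k, hk, rfl⟩
        · exact Or.inl (K'.mul_mem (haK g hg) hx)
        · refine Or.inr ⟨b⁻¹ * g * b * k, K'.mul_mem (hcK g hg) hk, ?_⟩
          group
    | one =>
      intro x hx
      rw [one_mul]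
      exact hx
    | mul g h _ _ ihg ihh =>
      intro x hx
      rw [mul_assoc]
      exact ihg _ (ihh x hx)
    | inv g _ ih =>
      intro x hx
      have hpow : ∀ n : ℕ, ∀ y : Γ, (y ∈ K' ∨ ∃ k ∈ K', y = b * k) →
          (g ^ n * y ∈ K' ∨ ∃ k ∈ K', g ^ n * y = b * k) := by
        intro n
        induction n with
        | zero =>
          intro y hy
          rw [pow_zero, one_mul]
          exact hy
        | succ n ihn =>
          intro y hy
          rw [pow_succ, mul_assoc]
          exact ihn _ (ih y hy)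
      have hinv : g⁻¹ = g ^ (orderOf g - 1) := by
        apply inv_eq_of_mul_eq_one_right
        rw [← pow_succ', Nat.sub_add_cancel (orderOf_pos g)]
        exact pow_orderOf_eq_one g
      rw [hinv]
      exact hpow _ x hx
  intro u hu
  have := key u hu 1 (Or.inl K'.one_mem)
  rwa [mul_one] at this

/-- the elements of `K'` shift the `l i` by `0` or `2` -/
theorem shift_of_mem {Γ : Type*} [Group Γ] {Ω : Type*} [MulAction Γ Ω] (A : Set Γ) (b : Γ)
    (l : ZMod 4 → Ω) (ha : ∀ a ∈ A, ∀ i, a • l i = l i) (hb : ∀ i, b • l i = l (i + 1)) :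
    ∀ k ∈ Subgroup.closure (A ∪ (fun a => b⁻¹ * a * b) '' A ∪ {b * b}),
      (∀ i, k • l i = l i) ∨ (∀ i, k • l i = l (i + 2)) := by
  have hbinv : ∀ i, b⁻¹ • l (i + 1) = l i := by
    intro i
    rw [← hb i, inv_smul_smul]
  intro k hk
  induction hk using Subgroup.closure_induction with
  | mem g hg =>
    rcases hg with (hg | ⟨a, haA, rfl⟩) | rfl
    · exact Or.inl (ha g hg)
    · left
      intro i
      show (b⁻¹ * a * b) • l i = l i
      rw [mul_smul, mul_smul, hb, ha a haA, hbinv]
    · right
      intro i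
      rw [mul_smul, hb, hb]
      congr 1
      ring
  | one =>
    left
    intro i
    rw [one_smul]
  | mul g h _ _ ihg ihh =>
    rcases ihg with hg | hg <;> rcases ihh with hh | hh
    · left
      intro i
      rw [mul_smul, hh, hg]
    · right
      intro i
      rw [mul_smul, hh, hg]
    · right
      intro i
      rw [mul_smul, hh, hg]
    · left
      intro i
      rw [mul_smul, hh, hg]
      congr 1
      have h4 : (2 : ZMod 4) + 2 = 0 := by decide
      rw [add_assoc, h4, add_zero]
  | inv g _ ih =>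
    rcases ih with hg | hg
    · left
      intro i
      have h1 := hg i
      rw [← h1, inv_smul_smul, h1]
    · right
      intro i
      have h1 := hg (i + 2)
      have h4 : (2 : ZMod 4) + 2 = 0 := by decide
      rw [add_assoc, h4, add_zero] at h1
      rw [← h1, inv_smul_smul]

/-- TF-E4, set version -/
theorem invol_mem_closure {Γ : Type*} [Group Γ] [Finite Γ] {Ω : Type*} [MulAction Γ Ω]
    (A : Set Γ) (b : Γ) (l : ZMod 4 → Ω) (hl : l 0 ≠ l 2)
    (ha : ∀ a ∈ A, ∀ i, a • l i = l i) (hb : ∀ i, b • l i = l (i + 1)) :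
    ∀ u ∈ Subgroup.closure (insert b A), u * u = 1 →
      u ∈ Subgroup.closure (A ∪ (fun a => b⁻¹ * a * b) '' A ∪ {b * b}) := by
  intro u hu huu
  rcases mem_or_coset A b u hu with h | ⟨k, hk, rfl⟩
  · exact h
  · exfalso
    have h4 : (2 : ZMod 4) + 2 = 0 := by decide
    have h1 : (b * k * (b * k)) • l 0 = l 0 := by rw [huu, one_smul]
    rcases shift_of_mem A b l ha hb k hk with hk0 | hk2
    · have hbk : ∀ i, (b * k) • l i = l (i + 1) := by
        intro i
        rw [mul_smul, hk0, hb]
      have h2 : (b * k * (b * k)) • l 0 = l 2 := by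
        rw [mul_smul, hbk, hbk]
        congr 1
      exact hl (h1.symm.trans h2)
    · have hbk : ∀ i, (b * k) • l i = l (i + 2 + 1) := by
        intro i
        rw [mul_smul, hk2, hb]
      have h2 : (b * k * (b * k)) • l 0 = l 2 := by
        rw [mul_smul, hbk, hbk]
        congr 1
      exact hl (h1.symm.trans h2)

end Cfsg.Agent.Lib.Helper46.TFE4b
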